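import Cfsg.Agent.Lib.OrthFrame.SmallPrime
import Cfsg.Agent.Lib.OrthMax.Nondeg
import Cfsg.Agent.Lib.Geometry.ReflClass

/-!
A group with the frame reflections and one map off the frame contains `Ω`.
-/

set_option autoImplicit false
set_option linter.unusedSectionVars false

open scoped Classical

namespace CfsgLib.OrthFrame

open QuadraticMap CfsgLib.Geometry CfsgLib.OrthMax

variable {F : Type*} [Field F] [Finite F] [Fact (Nat.card F).Prime] {n : ℕ}
  {R : Subgroup ((Fin n → F) ≃ₗ[F] (Fin n → F))}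

/-- The vector with the coordinates of `w` on a set. -/
noncomputable def restr (T : Finset (Fin n)) (w : Fin n → F) : Fin n → F := fun l => if l ∈ T then w l else 0

theorem restr_add {T : Finset (Fin n)} {a : Fin n} (ha : a ∉ T) (w : Fin n → F) :
    restr (insert a T) w = restr T w + w a • bv a := by
  funext l
  by_cases h : l = a
  · subst h; simp [restr, ha]
  · simp [restr, h, bv_ne h]

theorem restr_univ (w : Fin n → F) : restr Finset.univ w = w := funext fun l => by simp [restr]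

theorem polar_restr {T : Finset (Fin n)} {e : Fin n → F} (he : ∀ l, l ∉ T → e l = 0) (w : Fin n → F) :
    polar (qf n F) e (restr T w) = polar (qf n F) e w := by
  rw [polar_qf, polar_qf]
  congr 1
  refine Finset.sum_congr rfl fun l _ => ?_
  by_cases h : l ∈ T
  · simp [restr, h]
  · simp [he l h]

variable (hR : RCtx R)
include hR

/-- A root outside the frame. -/
theorem exists_nonmono_root {g : (Fin n → F) ≃ₗ[F] (Fin n → F)} (hg : g ∈ R) (hgm : ¬ Mono g) :
    ∃ u : Fin n → F, Root R u ∧ ¬ RootLike u := by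
  obtain ⟨i, hi⟩ : ∃ i, ∀ (j : Fin n) (a : F), g (bv i) ≠ a • bv j := by
    by_contra h
    push Not at h
    exact hgm h
  rcases root_nonmono hR.two (hR.le hg) Finset.univ (by simp; linarith [hR.big]) (Finset.mem_univ i) hi with
    ⟨j, -, hj⟩ | ⟨-, ⟨a, ha⟩, j, -, k, -, hkj, hu⟩
  · exact ⟨g (bv j), (show Root R (bv j) from ⟨bv_norm j, hR.base _ ⟨j, Or.inl rfl⟩⟩).image hR hg, hj⟩
  have ha0 : a ≠ 0 := fun h => by simp [h] at ha
  have hroot : Root R (a • (bv j - bv k) : Fin n → F) := by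
    refine ⟨?_, by rw [rf_smul ha0]; exact hR.base _ ⟨j, Or.inr ⟨k, hkj, Or.inr rfl⟩⟩⟩
    have hd : (bv j - bv k : Fin n → F) ⬝ᵥ (bv j - bv k) = 2 := by
      simp [dotProduct_sub, bv_ne hkj, bv_ne hkj.symm, one_add_one_eq_two]
    rw [smul_dotProduct, dotProduct_smul, hd, smul_eq_mul, smul_eq_mul]
    linear_combination ha
  refine ⟨_, hroot.image hR hg, fun ⟨ρ, c, hρ, he⟩ => hu ⟨ρ, a⁻¹ * c, hρ, ?_⟩⟩
  rw [map_smul] at he
  rw [← smul_smul, ← he, smul_smul, inv_mul_cancel₀ ha0, one_smul]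

omit hR in
theorem supp_of_not_rootLike {u : Fin n → F} (h1 : u ⬝ᵥ u = 1) (hu : ¬ RootLike u) :
    2 ≤ (supp u).card := by
  by_contra h
  obtain ⟨i, hi⟩ : ∃ i, ∀ l ∈ supp u, l = i := by
    rcases (supp u).eq_empty_or_nonempty with e | ⟨i, hi⟩
    · have := sum_supp u
      rw [e, Finset.sum_empty, h1] at this
      exact absurd this zero_ne_one
    · exact ⟨i, fun l hl => Finset.card_le_one.1 (by omega) l hl i hi⟩
  refine hu ⟨bv i, u i, ⟨i, Or.inl rfl⟩, funext fun l => ?_⟩
  by_cases hl : l = i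
  · subst hl; simp
  · have : u l = 0 := by
      by_contra h'
      exact hl (hi l (mem_supp.2 h'))
    simp [bv_ne hl, this]

omit hR in
theorem exists_third (hn : 5 ≤ n) (i j : Fin n) : ∃ l, i ≠ l ∧ j ≠ l := by
  obtain ⟨l, -, hl⟩ : ∃ l ∈ Finset.univ, l ∉ ({i, j} : Finset (Fin n)) :=
    Finset.exists_mem_notMem_of_card_lt_card (Finset.card_le_two.trans_lt (by simp; omega))
  simp only [Finset.mem_insert, Finset.mem_singleton, not_or] at hl
  exact ⟨l, Ne.symm hl.1, Ne.symm hl.2⟩

/-- One root off the frame gives all triples. -/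
theorem exists_trip (h3 : (3 : F) ≠ 0) {u : Fin n → F} (hu : Root R u) (hr : ¬ RootLike u) :
    ∃ a b c, Trip R a b c := by
  have h := supp_of_not_rootLike hu.1 hr
  rcases Nat.lt_or_ge (supp u).card 3 with h' | h'
  · obtain ⟨i, j, hij, heq⟩ := Finset.card_eq_two.1 (show (supp u).card = 2 by omega)
    have hi : u i ≠ 0 := mem_supp.1 (by rw [heq]; simp)
    have hj : u j ≠ 0 := mem_supp.1 (by rw [heq]; simp)
    have hout : ∀ c, c ≠ i → c ≠ j → u c = 0 := fun c h1 h1' => by
      by_contra hc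
      have := mem_supp.2 hc
      rw [heq] at this
      simp [h1, h1'] at this
    obtain ⟨l, hil, hjl⟩ := exists_third hR.big i j
    refine ⟨i, l, j, trip_two hR hu hij hil hjl hi hj hout fun e => hr ?_⟩
    rcases mul_self_eq_mul_self_iff.1 e with e' | e'
    · refine ⟨bv i + bv j, u i, ⟨i, Or.inr ⟨j, hij.symm, Or.inl rfl⟩⟩, funext fun c => ?_⟩
      by_cases hci : c = i
      · subst hci; simp [bv_ne hij]
      by_cases hcj : c = j
      · subst hcj; simp [bv_ne hci, e']
      simp [bv_ne hci, bv_ne hcj, hout c hci hcj]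
    · refine ⟨bv i - bv j, u i, ⟨i, Or.inr ⟨j, hij.symm, Or.inr rfl⟩⟩, funext fun c => ?_⟩
      by_cases hci : c = i
      · subst hci; simp [bv_ne hij]
      by_cases hcj : c = j
      · subst hcj; simp [bv_ne hci, e']
      simp [bv_ne hci, bv_ne hcj, hout c hci hcj]
  by_cases h5 : (5 : F) = 0
  · exact trip_five hR h5 hu h
  · exact trip_of_many hR h3 h5 _ hu rfl h'

omit hR in
/-- A point is full when its parts are. -/
theorem full_of_parts {e : Fin n → F} (he : qf n F e = 0) {T : Finset (Fin n)} (heT : ∀ l, l ∉ T → e l = 0)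
    (hin : ∀ w : Fin n → F, (∀ l, l ∉ T → w l = 0) → SiegIn (qf n F) R e w)
    (hout : ∀ l, l ∉ T → ∀ c : F, SiegIn (qf n F) R e (c • bv l)) : Full (qf n F) R e := by
  intro w he' hw
  have hpar : ∀ S : Finset (Fin n), T ⊆ S → polar (qf n F) e (restr S w) = 0 := fun S hS => by
    rw [polar_restr (fun l hl => heT l fun h => hl (hS h)) w, hw]
  suffices h : ∀ S : Finset (Fin n), Disjoint T S → SiegIn (qf n F) R e (restr (T ∪ S) w) by
    have := h Tᶜ disjoint_compl_right
    rw [Finset.union_compl, restr_univ] at this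
    exact this he' hw
  intro S
  induction S using Finset.induction_on with
  | empty =>
    intro _
    rw [Finset.union_empty]
    exact hin _ fun l hl => by simp [restr, hl]
  | @insert a S ha ih =>
    intro hd
    rw [Finset.disjoint_insert_right] at hd
    rw [Finset.union_insert, restr_add (by simp [hd.1, ha])]
    refine SiegIn.add (ih hd.2) (hout a hd.1 _) he (hpar _ Finset.subset_union_left) ?_
    rw [polar_qf, dotProduct_smul, dot_bv, heT a hd.1, smul_zero, mul_zero]

/-- A full point when `-1` is a square. -/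
theorem full_of_sq (hall : ∀ a b c : Fin n, a ≠ b → a ≠ c → b ≠ c → Trip R a b c) {i j k : Fin n}
    (hij : i ≠ j) (hik : i ≠ k) (hjk : j ≠ k) {ι : F} (hι : ι * ι = -1) :
    qf n F (bv i + ι • bv j) = 0 ∧ Full (qf n F) R (bv i + ι • bv j) := by
  set e : Fin n → F := bv i + ι • bv j with hedef
  have he : qf n F e = 0 := by
    rw [qf_apply]
    simp [hedef, add_dotProduct, bv_ne hij, bv_ne hij.symm, hι]
  have hsupp : ∀ l, l ≠ i → l ≠ j → e l = 0 := fun l h1 h1' => by simp [hedef, bv_ne h1, bv_ne h1']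
  refine ⟨he, full_of_parts he (T := {i, j, k}) (fun l hl => ?_) (fun w hw he' hw' => ?_) fun l hl c he' hw' => ?_⟩
  · simp only [Finset.mem_insert, Finset.mem_singleton, not_or] at hl
    exact hsupp l hl.1 hl.2.1
  · exact (hall i j k hij hik hjk).2.2.2 e w he' hw' (fun l h1 h1' _ => hsupp l h1 h1')
      fun l h1 h1' h1'' => hw l (by simp [h1, h1', h1''])
  · simp only [Finset.mem_insert, Finset.mem_singleton, not_or] at hl
    exact (hall i j l hij (Ne.symm hl.1) (Ne.symm hl.2.1)).2.2.2 e _ he' hw' (fun d h1 h1' _ => hsupp d h1 h1')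
      fun d h1 h1' h1'' => by simp [bv_ne h1'']

/-- A full point when `-1` is not a square. -/
theorem full_of_nonsq (h3 : (3 : F) ≠ 0) (hns : ∀ ι : F, ι * ι ≠ -1)
    (hall : ∀ a b c : Fin n, a ≠ b → a ≠ c → b ≠ c → Trip R a b c) {i j k : Fin n}
    (hij : i ≠ j) (hik : i ≠ k) (hjk : j ≠ k) :
    ∃ a b : F, a ≠ 0 ∧ qf n F (a • bv i + b • bv j + bv k) = 0 ∧
      Full (qf n F) R (a • bv i + b • bv j + bv k) := by
  have h2 := hR.two
  have h5 : (5 : F) ≠ 0 := fun h => hns 2 (by linear_combination h)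
  have h17 : (17 : F) ≠ 0 := fun h => hns 4 (by linear_combination h)
  obtain ⟨a, b, hab, ha0, -, -⟩ := exists_two_squares h2 h3 h5
  set e : Fin n → F := a • bv i + b • bv j + bv k with hedef
  set u : Fin n → F := (-b) • bv i + a • bv j with hudef
  have he : qf n F e = 0 := by
    rw [qf_apply]
    simp [hedef, add_dotProduct, bv_ne hij, bv_ne hij.symm, bv_ne hik, bv_ne hik.symm, bv_ne hjk, bv_ne hjk.symm]
    linear_combination hab
  have hsupp : ∀ l, l ≠ i → l ≠ j → l ≠ k → e l = 0 := fun l h1 h1' h1'' => by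
    simp [hedef, bv_ne h1, bv_ne h1', bv_ne h1'']
  have hin : ∀ w : Fin n → F, (∀ l, l ∉ ({i, j, k} : Finset (Fin n)) → w l = 0) → SiegIn (qf n F) R e w :=
    fun w hw he' hw' => (hall i j k hij hik hjk).2.2.2 e w he' hw' hsupp
      fun l h1 h1' h1'' => hw l (by simp [h1, h1', h1''])
  refine ⟨a, b, ha0, he, full_of_parts he (T := {i, j, k}) (fun l hl => ?_) hin fun l hl c => ?_⟩
  · simp only [Finset.mem_insert, Finset.mem_singleton, not_or] at hl
    exact hsupp l hl.1 hl.2.1 hl.2.2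
  simp only [Finset.mem_insert, Finset.mem_singleton, not_or] at hl
  obtain ⟨hli, hlj, hlk⟩ := hl
  have huu : u ⬝ᵥ u = -1 := by
    simp [hudef, add_dotProduct, bv_ne hij, bv_ne hij.symm]; linear_combination hab
  have hue : u ⬝ᵥ e = 0 := by
    simp [hudef, hedef, add_dotProduct, bv_ne hij, bv_ne hij.symm, bv_ne hik, bv_ne hjk, bv_ne hik.symm, bv_ne hjk.symm]; ring
  have hul : u l = 0 := by simp [hudef, bv_ne hli, bv_ne hlj]
  -- the reflection in `15 u + 17 bₗ`, of norm `64`
  set z : Fin n → F := (15 : F) • u + (17 : F) • bv l with hzdef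
  set x : Fin n → F := (8 : F) • bv l with hxdef
  set e' : Fin n → F := (4 * a) • bv i + (4 * b) • bv j + (3 : F) • u + (5 : F) • bv l with he'def
  have h8 : (8 : F) ≠ 0 := by
    rw [show (8 : F) = 2 * 2 * 2 by norm_num]; exact mul_ne_zero (mul_ne_zero h2 h2) h2
  have hzz : z ⬝ᵥ z = 8 * 8 := by
    simp [hzdef, add_dotProduct, dotProduct_add, smul_dotProduct, dotProduct_smul, huu, hul]; norm_num
  have hze : z ⬝ᵥ e = 0 := by
    simp [hzdef, add_dotProduct, hue, hsupp l hli hlj hlk]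
  have hxx : x ⬝ᵥ x = 8 * 8 := by simp [hxdef]
  have huab : (a • bv i + b • bv j : Fin n → F) ⬝ᵥ u = 0 := by
    simp [hudef, add_dotProduct, dotProduct_add, bv_ne hij, bv_ne hij.symm]; ring
  have hrz : rf z ∈ R := by
    have hx0 : qf n F x ≠ 0 := by rw [qf_apply, hxx]; exact mul_ne_zero h8 h8
    have hz0 : qf n F z ≠ 0 := by rw [qf_apply, hzz]; exact mul_ne_zero h8 h8
    have he'i : e' i = 4 * a - 3 * b := by
      simp [he'def, hudef, bv_ne hij, bv_ne (Ne.symm hli)]; ring
    have he'j : e' j = 4 * b + 3 * a := by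
      simp [he'def, hudef, bv_ne hij.symm, bv_ne (Ne.symm hlj)]
    have he'l : e' l = 5 := by
      simp [he'def, hudef, bv_ne hli, bv_ne hlj]
    have he'out : ∀ d, d ≠ i → d ≠ j → d ≠ l → e' d = 0 := fun d h1 h1' h1'' => by
      simp [he'def, hudef, bv_ne h1, bv_ne h1', bv_ne h1'']
    have hdote' : ∀ v : Fin n → F, e' ⬝ᵥ v = (4 * a - 3 * b) * v i + (4 * b + 3 * a) * v j + 5 * v l := by
      intro v
      simp [he'def, hudef, add_dotProduct]; ring
    have hpx : polar (qf n F) e' x = 2 * (5 * 8) := by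
      rw [polar_qf, hdote']; simp [hxdef, bv_ne (Ne.symm hli), bv_ne (Ne.symm hlj)]
    have hpz : polar (qf n F) e' z = 2 * (5 * 8) := by
      rw [polar_qf, hdote']
      congr 1
      simp [hzdef, hudef, bv_ne hij, bv_ne hij.symm, bv_ne hli, bv_ne hlj, bv_ne (Ne.symm hli), bv_ne (Ne.symm hlj)]
      linear_combination (45 : F) * hab
    have hr : refl (qf n F) x hx0 ∈ R := by
      rw [← rf_eq hx0, hxdef, rf_smul h8]; exact hR.base _ ⟨l, Or.inl rfl⟩
    have := refl_mem_of_iso (M := R) (e := e') (y := z) (fun hh hw => (hall i j l hij (Ne.symm hli) (Ne.symm hlj)).2.2.2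
        _ _ hh hw he'out fun d h1 h1' h1'' => by
          simp [hzdef, hxdef, hudef, bv_ne h1, bv_ne h1', bv_ne h1''])
      hx0 hz0 (by rw [qf_apply, qf_apply, hzz, hxx]) (by
        rw [qf_apply, hdote', he'i, he'j, he'l]; linear_combination (25 : F) * hab)
      (by rw [hpx]; exact mul_ne_zero h2 (mul_ne_zero h5 h8)) (by rw [hpz, hpx]) hr
    rwa [← rf_eq hz0] at this
  have hfix : rf z e = e := rf_fix (by rw [dotProduct_comm]; exact hze)
  have hzu : rf z u = (1 + 450 / (8 * 8) : F) • u + (510 / (8 * 8) : F) • bv l := by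
    rw [rf_apply (by rw [hzz]; exact mul_ne_zero h8 h8), hzz]
    have : u ⬝ᵥ z = -15 := by simp [hzdef, dotProduct_add, huu, hul]
    rw [this, hzdef]
    match_scalars <;> field_simp <;> ring
  have h510 : (510 / (8 * 8) : F) ≠ 0 := by
    refine div_ne_zero ?_ (mul_ne_zero h8 h8)
    rw [show (510 : F) = 2 * 3 * 5 * 17 by norm_num]
    exact mul_ne_zero (mul_ne_zero (mul_ne_zero h2 h3) h5) h17
  set t := c / (510 / (8 * 8) : F) with htdef
  have hout' : ∀ d, d ∉ ({i, j, k} : Finset (Fin n)) → u d = 0 := fun d hd => by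
    simp only [Finset.mem_insert, Finset.mem_singleton, not_or] at hd
    simp [hudef, bv_ne hd.1, bv_ne hd.2.1]
  have h1 : SiegIn (qf n F) R e (t • u) := hin _ fun d hd => by simp [hout' d hd]
  have h1' := h1.conj hrz (rf_mem_orth z)
  rw [hfix, map_smul, hzu] at h1'
  have h1'' : SiegIn (qf n F) R e ((-(t * (1 + 450 / (8 * 8)))) • u) := hin _ fun d hd => by simp [hout' d hd]
  have hpu : ∀ s : F, polar (qf n F) e (s • u) = 0 := fun s => by
    rw [polar_qf, dotProduct_smul, dotProduct_comm, hue, smul_zero, mul_zero]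
  have hpl : ∀ s : F, polar (qf n F) e (s • bv l) = 0 := fun s => by
    rw [polar_qf, dotProduct_smul, dot_bv, hsupp l hli hlj hlk, smul_zero, mul_zero]
  have hsum := SiegIn.add h1' h1'' he (by
    rw [smul_add, smul_smul, smul_smul, polar_add_right, hpu, hpl, add_zero]) (hpu _)
  convert hsum using 1
  rw [smul_add, smul_smul, smul_smul, htdef, div_mul_cancel₀ _ h510]
  module

/-- With three elements: root elements from vectors of norm one. -/
theorem siegIn_norm_one {e : Fin n → F} (he : qf n F e = 0)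
    (hroots : ∀ v : Fin n → F, v ⬝ᵥ v = 1 → Root R v) {w : Fin n → F} (hw1 : w ⬝ᵥ w = 1) :
    SiegIn (qf n F) R e w := fun he' hw => by
  have hw0 : qf n F w ≠ 0 := by rw [qf_apply, hw1]; exact one_ne_zero
  obtain ⟨hc, hcQ, h⟩ := ReflClass.siegel_eq_refl_mul he' hw hw0
  rw [h, ← rf_eq hw0, ← rf_eq hc]
  refine mul_mem (hroots w hw1).2 (hroots _ ?_).2
  rw [← qf_apply, hcQ, qf_apply, hw1]

/-- A full point with three elements. -/
theorem full_three_elts (h3 : (3 : F) = 0) (hroots : ∀ v : Fin n → F, v ⬝ᵥ v = 1 → Root R v) {i j k : Fin n}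
    (hij : i ≠ j) (hik : i ≠ k) (hjk : j ≠ k) :
    qf n F (bv i + bv j + bv k) = 0 ∧ Full (qf n F) R (bv i + bv j + bv k) := by
  set e : Fin n → F := bv i + bv j + bv k with hedef
  have he : qf n F e = 0 := by
    rw [qf_apply]
    simp [hedef, add_dotProduct, bv_ne hij, bv_ne hij.symm, bv_ne hik, bv_ne hik.symm, bv_ne hjk, bv_ne hjk.symm]
    linear_combination h3
  obtain ⟨p, -, hp⟩ : ∃ p ∈ Finset.univ, p ∉ ({i, j, k} : Finset (Fin n)) :=
    Finset.exists_mem_notMem_of_card_lt_card (Finset.card_le_three.trans_lt (by simp; linarith [hR.big]))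
  obtain ⟨r, -, hr⟩ : ∃ r ∈ Finset.univ, r ∉ ({i, j, k, p} : Finset (Fin n)) :=
    Finset.exists_mem_notMem_of_card_lt_card (Finset.card_le_four.trans_lt (by simp; linarith [hR.big]))
  simp only [Finset.mem_insert, Finset.mem_singleton, not_or] at hp hr
  obtain ⟨hpi, hpj, hpk⟩ := hp
  obtain ⟨hri, hrj, hrk, hrp⟩ := hr
  have hperp : ∀ l, l ≠ i → l ≠ j → l ≠ k → ∀ c : F, polar (qf n F) e (c • bv l) = 0 := fun l h1 h1' h1'' c => by
    rw [polar_qf, dotProduct_smul, dot_bv]
    simp [hedef, bv_ne h1, bv_ne h1', bv_ne h1'']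
  have hzero : SiegIn (qf n F) R e 0 := fun he' hw => by
    rw [show siegel (qf n F) e 0 he' hw = 1 from LinearEquiv.ext fun v => by
      simp [siegel_apply, polar_zero_right]]
    exact one_mem R
  have hbv : ∀ l, l ≠ i → l ≠ j → l ≠ k → ∀ c : F, SiegIn (qf n F) R e (c • bv l) := fun l h1 h1' h1'' c => by
    by_cases hc : c = 0
    · rw [hc, zero_smul]; exact hzero
    · exact siegIn_norm_one hR he hroots (by simp [sq_three h3 hc])
  -- `c (bₐ - b_k)` for `a` among the first two
  have hdiff : ∀ a, a ≠ k → a ≠ p → a ≠ r → ∀ c : F, polar (qf n F) e (c • (bv a - bv k)) = 0 →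
      SiegIn (qf n F) R e (c • (bv a - bv k)) := by
    intro a hak hap har c hperp'
    by_cases hc : c = 0
    · rw [hc, zero_smul]; exact hzero
    have hcc := sq_three h3 hc
    have hw1 : (c • (bv a - bv k) + c • bv p + c • bv r : Fin n → F) ⬝ᵥ (c • (bv a - bv k) + c • bv p + c • bv r) = 1 := by
      simp [add_dotProduct, sub_dotProduct, bv_ne hak, bv_ne hak.symm, bv_ne hap, bv_ne (Ne.symm hap), bv_ne har,
        bv_ne (Ne.symm har), bv_ne hpk, bv_ne (Ne.symm hpk), bv_ne hrk, bv_ne (Ne.symm hrk), bv_ne hrp,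
        bv_ne (Ne.symm hrp)]
      linear_combination 4 * hcc + h3
    have h1 := siegIn_norm_one hR he hroots hw1
    have hp1 : polar (qf n F) e (c • (bv a - bv k) + c • bv p + c • bv r) = 0 := by
      rw [polar_add_right, polar_add_right, hperp', hperp p hpi hpj hpk, hperp r hri hrj hrk]; ring
    have hs := SiegIn.add (SiegIn.add h1 (hbv p hpi hpj hpk (-c)) he hp1 (hperp p hpi hpj hpk _))
      (hbv r hri hrj hrk (-c)) he (by rw [polar_add_right, hp1, hperp p hpi hpj hpk, add_zero])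
      (hperp r hri hrj hrk _)
    convert hs using 1
    module
  have hpik : ∀ c : F, polar (qf n F) e (c • (bv i - bv k)) = 0 := fun c => by
    rw [polar_qf]; simp [hedef, bv_ne hij, bv_ne hik, bv_ne hij.symm, bv_ne hik.symm, bv_ne hjk.symm]
  have hpjk : ∀ c : F, polar (qf n F) e (c • (bv j - bv k)) = 0 := fun c => by
    rw [polar_qf]; simp [hedef, bv_ne hij, bv_ne hik.symm, bv_ne hij.symm, bv_ne hjk, bv_ne hjk.symm]
  refine ⟨he, full_of_parts he (T := {i, j, k}) (fun l hl => ?_) (fun w hw he' hw' => ?_) fun l hl c => ?_⟩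
  · simp only [Finset.mem_insert, Finset.mem_singleton, not_or] at hl
    simp [hedef, bv_ne hl.1, bv_ne hl.2.1, bv_ne hl.2.2]
  · have hwe : w i + w j + w k = 0 := by
      have := hw'
      rw [polar_qf] at this
      have h0 := (mul_eq_zero.1 this).resolve_left hR.two
      simpa [hedef, add_dotProduct] using h0
    have hwd : w = w i • (bv i - bv k) + w j • (bv j - bv k) := by
      funext l
      by_cases h1 : l = i
      · subst h1; simp [bv_ne hij, bv_ne hik]
      by_cases h1' : l = j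
      · subst h1'; simp [bv_ne h1, bv_ne hjk]
      by_cases h1'' : l = k
      · subst h1''; simp [bv_ne h1, bv_ne h1']; linear_combination hwe
      simp [bv_ne h1, bv_ne h1', bv_ne h1'', hw l (by simp [h1, h1', h1''])]
    have hs := SiegIn.add (hdiff i hik (Ne.symm hpi) (Ne.symm hri) (w i) (hpik _))
      (hdiff j hjk (Ne.symm hpj) (Ne.symm hrj) (w j) (hpjk _)) he (hpik _) (hpjk _)
    rw [← hwd] at hs
    exact hs he' hw'
  · simp only [Finset.mem_insert, Finset.mem_singleton, not_or] at hl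
    exact hbv l hl.1 hl.2.1 hl.2.2 c

/-- A full point with a nonzero coordinate. -/
theorem exists_full {g : (Fin n → F) ≃ₗ[F] (Fin n → F)} (hg : g ∈ R) (hgm : ¬ Mono g) :
    ∃ (e : Fin n → F) (i : Fin n), e i ≠ 0 ∧ qf n F e = 0 ∧ Full (qf n F) R e := by
  obtain ⟨u, hu, hr⟩ := exists_nonmono_root hR hg hgm
  have hn := hR.big
  set i : Fin n := ⟨0, by omega⟩ with hidef
  set j : Fin n := ⟨1, by omega⟩ with hjdef
  set k : Fin n := ⟨2, by omega⟩ with hkdef
  have hij : i ≠ j := by simp [hidef, hjdef]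
  have hik : i ≠ k := by simp [hidef, hkdef]
  have hjk : j ≠ k := by simp [hjdef, hkdef]
  by_cases h3 : (3 : F) = 0
  · obtain ⟨he, hF⟩ := full_three_elts hR h3
      (fun v hv => root_three hR h3 hu (supp_of_not_rootLike hu.1 hr) hv) hij hik hjk
    exact ⟨_, i, by simp [bv_ne hij, bv_ne hik], he, hF⟩
  obtain ⟨a, b, c, ht⟩ := exists_trip hR h3 hu hr
  have hall : ∀ a b c : Fin n, a ≠ b → a ≠ c → b ≠ c → Trip R a b c := fun _ _ _ => ht.all hR
  by_cases hs : ∃ ι : F, ι * ι = -1
  · obtain ⟨ι, hι⟩ := hs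
    obtain ⟨he, hF⟩ := full_of_sq hR hall hij hik hjk hι
    exact ⟨_, i, by simp [bv_ne hij], he, hF⟩
  · push Not at hs
    obtain ⟨a, b, ha, he, hF⟩ := full_of_nonsq hR h3 hs hall hij hik hjk
    exact ⟨_, i, by simp [bv_ne hij, bv_ne hik, ha], he, hF⟩

/-- The frame reflections and a map off the frame generate everything. -/
theorem siegelGroup_le {g : (Fin n → F) ≃ₗ[F] (Fin n → F)} (hg : g ∈ R) (hgm : ¬ Mono g) :
    siegelGroup (qf n F) ≤ R := by
  obtain ⟨e, i, hei, he, hE⟩ := exists_full hR hg hgm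
  set f := rf (bv i) e with hfdef
  have hf : qf n F f = 0 := by rw [hfdef, mem_orth.1 (rf_mem_orth _)]; exact he
  have hF : Full (qf n F) R f := hE.image (hR.base _ ⟨i, Or.inl rfl⟩) (rf_mem_orth _)
  have hef : polar (qf n F) e f ≠ 0 := by
    rw [polar_qf, hfdef, rf_apply (by simp), dotProduct_sub, dotProduct_smul, ← qf_apply, he]
    simp [hR.two, hei]
  exact siegelGroup_le_of_full (qf_nondeg hR.two) he (f := (polar (qf n F) e f)⁻¹ • f)
    (by rw [Geometry.map_smul', hf, mul_zero]) (by rw [polar_smul_right', inv_mul_cancel₀ hef]) hE (hF.smul hf _)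

end CfsgLib.OrthFrame
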