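import Cfsg.Agent.Lib.OrthFrame.SixNormal
import Cfsg.Agent.Lib.OrthFrame.End
import Cfsg.Agent.Lib.OrthMax.DecompBridge

/-!
Stabilisers of orthonormal frames are maximal in `Ω` over a prime field.
-/

set_option autoImplicit false
set_option linter.unusedSectionVars false

open scoped Classical

namespace CfsgLib.OrthFrame

open QuadraticMap CfsgLib.Geometry

variable {F : Type*} [Field F] [Finite F] [Fact (Nat.card F).Prime]

/-- Over the monomial maps only `Ω` is left. -/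
theorem le_of_monomial {n : ℕ} (h2 : (2 : F) ≠ 0) (hn : 5 ≤ n)
    (hnorm : ∀ X : Subgroup ((Fin n → F) ≃ₗ[F] (Fin n → F)), Ctx X →
      ∀ ρ, IsB ρ → ∀ y ∈ X, rf ρ * y * (rf ρ)⁻¹ ∈ X)
    {N : Subgroup ((Fin n → F) ≃ₗ[F] (Fin n → F))} (hle : N ≤ siegelGroup (qf n F))
    (hst : ∀ g ∈ siegelGroup (qf n F), Mono g → g ∈ N) (hmv : ∃ g ∈ N, ¬ Mono g) :
    siegelGroup (qf n F) ≤ N := by
  let P : Subgroup ((Fin n → F) ≃ₗ[F] (Fin n → F)) → Prop := fun X =>
    X ≤ N ∧ (∀ g ∈ siegelGroup (qf n F), Mono g → g ∈ X) ∧ ∃ g ∈ X, ¬ Mono g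
  haveI : Finite ((Fin n → F) ≃ₗ[F] (Fin n → F)) :=
    Finite.of_injective (fun g : (Fin n → F) ≃ₗ[F] (Fin n → F) => (g : (Fin n → F) → (Fin n → F))) DFunLike.coe_injective
  obtain ⟨X, ⟨hXN, hXst, hXmv⟩, hmin⟩ :
      ∃ X, P X ∧ ∀ Y, P Y → Y ≤ X → X ≤ Y := by
    obtain ⟨X, hX, hX'⟩ := exists_minimal_of_wellFoundedLT P ⟨N, le_rfl, hst, hmv⟩
    exact ⟨X, hX, fun Y hY h => hX' hY h⟩
  have C : Ctx X := ⟨h2, hn, hXN.trans hle, hXst, hXmv, fun Y hY hYst hYmv =>
    le_antisymm hY (hmin Y ⟨hY.trans hXN, hYst, hYmv⟩ hY)⟩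
  have hnormal : ∀ ρ, IsB ρ → ∀ y ∈ X, rf ρ * y * (rf ρ)⁻¹ ∈ X := hnorm X C
  let W : Subgroup ((Fin n → F) ≃ₗ[F] (Fin n → F)) := Subgroup.closure (rf '' {ρ | IsB ρ})
  have hWm : W ≤ monoGroup h2 := (Subgroup.closure_le _).2 fun _ ⟨ρ, hρ, e⟩ => e ▸ mono_rf h2 hρ
  have hnorm : ∀ w ∈ W, (∀ y ∈ X, w * y * w⁻¹ ∈ X) ∧ ∀ y ∈ X, w⁻¹ * y * w ∈ X := by
    intro w hw
    induction hw using Subgroup.closure_induction with
    | mem w hw =>
      obtain ⟨ρ, hρ, rfl⟩ := hw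
      refine ⟨hnormal _ hρ, fun y hy => ?_⟩
      have := hnormal _ hρ y hy
      rw [rf_inv] at this ⊢
      exact this
    | one => simp
    | mul a b _ _ ha hb =>
      refine ⟨fun y hy => ?_, fun y hy => ?_⟩
      · rw [show a * b * y * (a * b)⁻¹ = a * (b * y * b⁻¹) * a⁻¹ by group]; exact ha.1 _ (hb.1 y hy)
      · rw [show (a * b)⁻¹ * y * (a * b) = b⁻¹ * (a⁻¹ * y * a) * b by group]; exact hb.2 _ (ha.2 y hy)
    | inv a _ ha => exact ⟨fun y hy => by rw [inv_inv]; exact ha.2 y hy, fun y hy => by rw [inv_inv]; exact ha.1 y hy⟩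
  let R : Subgroup ((Fin n → F) ≃ₗ[F] (Fin n → F)) :=
    { carrier := {g | ∃ x ∈ X, ∃ w ∈ W, g = x * w}
      one_mem' := ⟨1, one_mem _, 1, one_mem _, (one_mul 1).symm⟩
      mul_mem' := by
        rintro _ _ ⟨x, hx, w, hw, rfl⟩ ⟨y, hy, v, hv, rfl⟩
        exact ⟨x * (w * y * w⁻¹), mul_mem hx ((hnorm w hw).1 y hy), w * v, mul_mem hw hv, by group⟩
      inv_mem' := by
        rintro _ ⟨x, hx, w, hw, rfl⟩
        exact ⟨w⁻¹ * x⁻¹ * w, (hnorm w hw).2 _ (inv_mem hx), w⁻¹, inv_mem hw, by group⟩ }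
  have hR : RCtx R := by
    refine ⟨h2, hn, ?_, fun ρ hρ => ⟨1, one_mem _, rf ρ, Subgroup.subset_closure ⟨ρ, hρ, rfl⟩, (one_mul _).symm⟩⟩
    rintro _ ⟨x, hx, w, hw, rfl⟩
    exact mul_mem (C.mem_orth hx) (hWm hw).1
  obtain ⟨g, hg, hgm⟩ := hXmv
  intro s hs
  obtain ⟨x, hx, w, hw, rfl⟩ := siegelGroup_le hR ⟨g, hg, 1, one_mem _, (mul_one g).symm⟩ hgm hs
  have hws : w ∈ siegelGroup (qf n F) := by
    have := mul_mem (inv_mem (C.le hx)) hs
    rwa [← mul_assoc, inv_mul_cancel, one_mul] at this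
  exact hXN (mul_mem hx (hXst w hws (hWm hw).2))

section Transport

variable {ι : Type} [Fintype ι] [DecidableEq ι] {Q : QuadraticForm F (ι → F)} {t : ℕ}

variable (E : (Fin t → F) ≃ₗ[F] (ι → F))

/-- Conjugation by a change of coordinates. -/
def conjE : ((Fin t → F) ≃ₗ[F] (Fin t → F)) →* ((ι → F) ≃ₗ[F] (ι → F)) where
  toFun g := E.symm.trans (g.trans E)
  map_one' := LinearEquiv.ext fun v => by simp
  map_mul' g h := LinearEquiv.ext fun v => by simp

theorem conjE_apply (g : (Fin t → F) ≃ₗ[F] (Fin t → F)) (x : Fin t → F) : conjE E g (E x) = E (g x) := by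
  simp [conjE]

theorem conjE_injective : Function.Injective (conjE E) := fun g h e => LinearEquiv.ext fun x =>
  E.injective (by rw [← conjE_apply, ← conjE_apply, e])

variable {E} {c : F} (hc : c ≠ 0) (hE : ∀ x, Q (E x) = c * qf t F x)
include hc hE

theorem polar_conjE (x y : Fin t → F) : polar Q (E x) (E y) = c * polar (qf t F) x y := by
  rw [QuadraticMap.polar, QuadraticMap.polar, ← map_add, hE, hE, hE]; ring

theorem conjE_siegel {e w : Fin t → F} (he : qf t F e = 0) (hw : polar (qf t F) e w = 0)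
    (he' : Q (E e) = 0) (hw' : polar Q (E e) (c⁻¹ • E w) = 0) :
    conjE E (siegel (qf t F) e w he hw) = siegel Q (E e) (c⁻¹ • E w) he' hw' := by
  refine LinearEquiv.ext fun v => ?_
  obtain ⟨x, rfl⟩ := E.surjective v
  rw [conjE_apply, siegel_apply, siegel_apply, polar_smul_right', polar_conjE hc hE, polar_conjE hc hE,
    Geometry.map_smul', hE, map_sub, map_sub, map_add, map_smul, map_smul, map_smul]
  match_scalars <;> field_simp

theorem map_siegelGroup : (siegelGroup (qf t F)).map (conjE E) = siegelGroup Q := by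
  refine le_antisymm ?_ ?_
  · rw [Subgroup.map_le_iff_le_comap, siegelGroup, Subgroup.closure_le]
    rintro _ ⟨e, w, he, hw, rfl⟩
    show conjE E _ ∈ siegelGroup Q
    rw [conjE_siegel hc hE he hw (by rw [hE, he, mul_zero])
      (by rw [polar_smul_right', polar_conjE hc hE, hw, mul_zero, mul_zero])]
    exact siegel_mem _ _ _ _
  · rw [siegelGroup, Subgroup.closure_le]
    rintro _ ⟨e, w, he, hw, rfl⟩
    obtain ⟨e₀, rfl⟩ := E.surjective e
    obtain ⟨w₀, rfl⟩ := E.surjective w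
    have he₀ : qf t F e₀ = 0 := by
      rw [hE] at he; exact (mul_eq_zero.1 he).resolve_left hc
    have hw₀ : polar (qf t F) e₀ (c • w₀) = 0 := by
      rw [polar_conjE hc hE] at hw
      rw [polar_smul_right', hw]
    refine ⟨siegel (qf t F) e₀ (c • w₀) he₀ hw₀, siegel_mem _ _ _ _, ?_⟩
    rw [conjE_siegel hc hE he₀ hw₀ (by rw [hE, he₀, mul_zero])
      (by rw [polar_smul_right', polar_conjE hc hE, hw₀, mul_zero, mul_zero])]
    exact siegel_congr _ _ _ _ rfl (by rw [map_smul, smul_smul, inv_mul_cancel₀ hc, one_smul])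

end Transport

open CfsgLib.OrthMax in
/-- The stabiliser of a decomposition into isometric lines is maximal once the root reflections normalise. -/
theorem frame_maximal_core {ι : Type} [Fintype ι] [DecidableEq ι] {Q : QuadraticForm F (ι → F)} (h2 : (2 : F) ≠ 0)
    (hQ : (polarBilin Q).Nondegenerate) (hn : 5 ≤ Fintype.card ι)
    (hnorm : ∀ n, n = Fintype.card ι → ∀ X : Subgroup ((Fin n → F) ≃ₗ[F] (Fin n → F)), Ctx X →
      ∀ ρ, IsB ρ → ∀ y ∈ X, rf ρ * y * (rf ρ)⁻¹ ∈ X) {t : ℕ} {D : Fin t → Submodule F (ι → F)}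
    (hD : Cfsg.Geo.IsOrthogonalMDecomposition (⇑Q) 1 D) :
    Cfsg.Geo.IsMaximalIn (Cfsg.Geo.omegaGL (⇑Q))
      (Cfsg.Geo.decompositionStabilizer D ⊓ Cfsg.Geo.omegaGL (⇑Q)) := by
  have ht : t = Fintype.card ι := by rw [decomp_card hD.decomp.decomp, mul_one]
  refine decomp_maximal hQ (by omega) hD (Or.inr (by omega)) fun hP hiso N hle hst hmv => ?_
  choose e he using hiso
  let i₀ : Fin t := ⟨0, by omega⟩
  have h1 : ∀ i, Module.finrank F (D i) = 1 := hD.decomp.decomp.finrank_eq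
  obtain ⟨d, hd, hd0⟩ := Submodule.exists_mem_ne_zero_of_ne_bot
    (p := D i₀) (fun h => by have := h1 i₀; rw [h, finrank_bot] at this; exact zero_ne_one this)
  let b : Fin t → ι → F := fun i => (e i₀ i ⟨d, hd⟩ : ι → F)
  have hb : ∀ i, b i ∈ D i := fun i => (e i₀ i ⟨d, hd⟩).2
  have hb0 : ∀ i, b i ≠ 0 := fun i h => hd0 (by
    have h' : e i₀ i ⟨d, hd⟩ = 0 := Subtype.ext h
    exact congrArg Subtype.val ((e i₀ i).map_eq_zero_iff.1 h'))
  have hspan : ∀ i, ∀ v ∈ D i, ∃ s : F, v = s • b i := fun i v hv => by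
    obtain ⟨s, hs⟩ := (finrank_eq_one_iff_of_nonzero' (⟨b i, hb i⟩ : D i) (fun h => hb0 i (congrArg Subtype.val h))).1
      (h1 i) ⟨v, hv⟩
    exact ⟨s, (congrArg Subtype.val hs).symm⟩
  set c := Q d with hcdef
  have hbQ : ∀ i, Q (b i) = c := fun i => he i₀ i ⟨d, hd⟩
  have hc : c ≠ 0 := fun h => hd0 (by
    have hm : d ∈ D i₀ ⊓ polarPerp Q (D i₀) := ⟨hd, mem_polarPerp.2 fun u hu => by
      obtain ⟨s, hs⟩ := (finrank_eq_one_iff_of_nonzero' (⟨d, hd⟩ : D i₀) (fun h => hd0 (congrArg Subtype.val h))).1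
        (h1 i₀) ⟨u, hu⟩
      rw [← show s • d = u from congrArg Subtype.val hs, polar_smul_left', polar_self', ← hcdef, h]; simp⟩
    rw [hP.nd] at hm
    exact (Submodule.mem_bot F).1 hm)
  have hbb : ∀ i j, polar Q (b i) (b j) = if i = j then 2 * c else 0 := fun i j => by
    split_ifs with h
    · rw [h, polar_self', hbQ]
    · exact hP.orth i j h _ (hb i) _ (hb j)
  let L : (Fin t → F) →ₗ[F] (ι → F) :=
    { toFun := fun x => ∑ i, x i • b i
      map_add' := fun x y => by simp [add_smul, Finset.sum_add_distrib]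
      map_smul' := fun s x => by simp [Finset.smul_sum, smul_smul] }
  have hLb : ∀ x j, polarBilin Q (L x) (b j) = x j * (2 * c) := fun x j => by
    simp only [L, LinearMap.coe_mk, AddHom.coe_mk, map_sum, map_smul, LinearMap.sum_apply, LinearMap.smul_apply,
      polarBilin_apply_apply, hbb, smul_eq_mul, mul_ite, mul_zero, Finset.sum_ite_eq', Finset.mem_univ, if_true]
  have hQL : ∀ x, Q (L x) = c * qf t F x := fun x => by
    refine mul_left_cancel₀ h2 ?_
    have h3 : polarBilin Q (L x) (L x) = (x ⬝ᵥ x) * (2 * c) := by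
      conv_lhs => arg 2; simp only [L, LinearMap.coe_mk, AddHom.coe_mk]
      rw [map_sum, dotProduct, Finset.sum_mul]
      refine Finset.sum_congr rfl fun j _ => ?_
      rw [map_smul, hLb, smul_eq_mul, mul_assoc]
    rw [polarBilin_apply_apply, polar_self'] at h3
    rw [qf_apply]
    linear_combination h3
  have hLinj : Function.Injective L := (injective_iff_map_eq_zero L).2 fun x hx => funext fun j => by
    have := hLb x j
    rw [hx, map_zero, LinearMap.zero_apply] at this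
    exact (mul_eq_zero.1 this.symm).resolve_right (mul_ne_zero h2 hc)
  let E : (Fin t → F) ≃ₗ[F] (ι → F) := LinearEquiv.ofBijective L
    ⟨hLinj, (LinearMap.injective_iff_surjective_of_finrank_eq_finrank (by simp [ht])).1 hLinj⟩
  have hE : ∀ x, Q (E x) = c * qf t F x := hQL
  have hEb : ∀ i, E (bv i) = b i := fun i => by
    show L (bv i) = b i
    simp only [L, LinearMap.coe_mk, AddHom.coe_mk]
    rw [Finset.sum_eq_single i (fun j _ hj => by rw [bv_ne hj, zero_smul]) (by simp), bv_self, one_smul]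
  have hkeep : ∀ g : (Fin t → F) ≃ₗ[F] (Fin t → F), Mono g → KeepsParts D (conjE E g) := fun g hg i => by
    obtain ⟨j, a, h⟩ := hg i
    refine ⟨j, fun v hv => ?_⟩
    obtain ⟨s, rfl⟩ := hspan i v hv
    rw [map_smul, ← hEb, conjE_apply, h, map_smul, hEb]
    exact Submodule.smul_mem _ _ (Submodule.smul_mem _ _ (hb j))
  have hmono : ∀ g : (Fin t → F) ≃ₗ[F] (Fin t → F), KeepsParts D (conjE E g) → Mono g := fun g hg i => by
    obtain ⟨j, hj⟩ := hg i
    obtain ⟨s, hs⟩ := hspan j _ (hj _ (hb i))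
    refine ⟨j, s, E.injective ?_⟩
    rw [map_smul, hEb, ← conjE_apply, hEb, hs]
  rw [← map_siegelGroup hc hE] at hle hst ⊢
  obtain ⟨g₁, hg₁, hg₁m⟩ := hmv
  obtain ⟨g₀, hg₀, rfl⟩ := hle hg₁
  rw [Subgroup.map_le_iff_le_comap]
  refine le_of_monomial h2 (by omega) (hnorm t ht) (fun g hg => ?_) (fun g hg hm => hst _ (Subgroup.mem_map_of_mem _ hg) (hkeep g hm))
    ⟨g₀, hg₁, fun hm => hg₁m (hkeep g₀ hm)⟩
  obtain ⟨g', hg', he'⟩ := hle hg
  rwa [← conjE_injective E he']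

/-- The stabiliser of a decomposition into isometric lines is maximal. -/
theorem frame_maximal_of {ι : Type} [Fintype ι] [DecidableEq ι] {Q : QuadraticForm F (ι → F)} (h2 : (2 : F) ≠ 0)
    (hQ : (polarBilin Q).Nondegenerate) (hn : 5 ≤ Fintype.card ι)
    (hp : 10 ≤ Fintype.card ι ∨ Odd (Fintype.card ι)) {t : ℕ} {D : Fin t → Submodule F (ι → F)}
    (hD : Cfsg.Geo.IsOrthogonalMDecomposition (⇑Q) 1 D) :
    Cfsg.Geo.IsMaximalIn (Cfsg.Geo.omegaGL (⇑Q))
      (Cfsg.Geo.decompositionStabilizer D ⊓ Cfsg.Geo.omegaGL (⇑Q)) :=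
  frame_maximal_core h2 hQ hn (fun _ e _ C _ hρ => (e ▸ hp).elim (fun h => C.normal h hρ) fun h => C.normal_odd h hρ) hD

/-- The stabiliser of a decomposition into six isometric lines is maximal. -/
theorem frame_maximal_six {ι : Type} [Fintype ι] [DecidableEq ι] {Q : QuadraticForm F (ι → F)} (h2 : (2 : F) ≠ 0)
    (hQ : (polarBilin Q).Nondegenerate) (hn : Fintype.card ι = 6) {t : ℕ} {D : Fin t → Submodule F (ι → F)}
    (hD : Cfsg.Geo.IsOrthogonalMDecomposition (⇑Q) 1 D) :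
    Cfsg.Geo.IsMaximalIn (Cfsg.Geo.omegaGL (⇑Q))
      (Cfsg.Geo.decompositionStabilizer D ⊓ Cfsg.Geo.omegaGL (⇑Q)) :=
  frame_maximal_core h2 hQ (by omega)
    (fun n e X C ρ hρ => by
      obtain rfl : n = 6 := e.trans hn
      exact Six.normal_six C hρ) hD

/-- The frame stabiliser is maximal from dimension 13 on. -/
theorem frame_maximal {ι : Type} [Fintype ι] [DecidableEq ι] {Q : QuadraticForm F (ι → F)} (h2 : (2 : F) ≠ 0)
    (hQ : (polarBilin Q).Nondegenerate) (hn : 13 ≤ Fintype.card ι) {t : ℕ} {D : Fin t → Submodule F (ι → F)}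
    (hD : Cfsg.Geo.IsOrthogonalMDecomposition (⇑Q) 1 D) :
    Cfsg.Geo.IsMaximalIn (Cfsg.Geo.omegaGL (⇑Q))
      (Cfsg.Geo.decompositionStabilizer D ⊓ Cfsg.Geo.omegaGL (⇑Q)) :=
  frame_maximal_of h2 hQ (by omega) (Or.inl (by omega)) hD

end CfsgLib.OrthFrame
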