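import Cfsg.Agent.Lib.OrthMax.Bridge

/-!
The form `∑ xᵢ²`, its reflections, and signed permutation isometries.
-/

set_option autoImplicit false
set_option linter.unusedSectionVars false

open scoped Classical

namespace CfsgLib.OrthFrame

open QuadraticMap CfsgLib.Geometry

variable {F : Type*} [Field F] {n : ℕ}

/-- The sum of squares. -/
noncomputable def qf (n : ℕ) (F : Type*) [Field F] : QuadraticForm F (Fin n → F) :=
  QuadraticMap.weightedSumSquares F (fun _ : Fin n => (1 : F))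

/-- The coordinate vectors. -/
def bv (i : Fin n) : Fin n → F := Pi.single i 1

theorem qf_apply (v : Fin n → F) : qf n F v = v ⬝ᵥ v := by
  simp [qf, QuadraticMap.weightedSumSquares_apply, dotProduct]

theorem polar_qf (v w : Fin n → F) : polar (qf n F) v w = 2 * (v ⬝ᵥ w) := by
  rw [QuadraticMap.polar, qf_apply, qf_apply, qf_apply, add_dotProduct, dotProduct_add, dotProduct_add,
    dotProduct_comm w v]
  ring

theorem bv_apply (i j : Fin n) : (bv i : Fin n → F) j = if j = i then 1 else 0 := by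
  simp [bv, Pi.single_apply]

@[simp] theorem bv_self (i : Fin n) : (bv i : Fin n → F) i = 1 := by simp [bv]

theorem bv_ne {i j : Fin n} (h : j ≠ i) : (bv i : Fin n → F) j = 0 := by simp [bv, h]

@[simp] theorem bv_dot (i : Fin n) (v : Fin n → F) : bv i ⬝ᵥ v = v i := by simp [bv]

@[simp] theorem dot_bv (i : Fin n) (v : Fin n → F) : v ⬝ᵥ bv i = v i := by simp [bv]

theorem qf_nondeg (h2 : (2 : F) ≠ 0) : (polarBilin (qf n F)).Nondegenerate := by
  refine ⟨fun v hv => funext fun i => ?_, fun v hv => funext fun i => ?_⟩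
  · have := hv (bv i)
    rw [polarBilin_apply_apply, polar_qf, dot_bv] at this
    exact (mul_eq_zero.1 this).resolve_left h2
  · have := hv (bv i)
    rw [polarBilin_apply_apply, polar_qf, bv_dot] at this
    exact (mul_eq_zero.1 this).resolve_left h2

theorem dot_orth {g : (Fin n → F) ≃ₗ[F] (Fin n → F)} (h2 : (2 : F) ≠ 0) (hg : g ∈ orth (qf n F))
    (v w : Fin n → F) : g v ⬝ᵥ g w = v ⬝ᵥ w := by
  have := orth_polar hg v w
  rw [polar_qf, polar_qf] at this
  exact mul_left_cancel₀ h2 this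

theorem dot_orth_self {g : (Fin n → F) ≃ₗ[F] (Fin n → F)} (hg : g ∈ orth (qf n F))
    (v : Fin n → F) : g v ⬝ᵥ g v = v ⬝ᵥ v := by
  rw [← qf_apply, ← qf_apply, mem_orth.1 hg]

/-- The reflection, or `1` at a singular vector. -/
noncomputable def rf (v : Fin n → F) : (Fin n → F) ≃ₗ[F] (Fin n → F) :=
  if h : qf n F v ≠ 0 then refl (qf n F) v h else 1

theorem rf_eq {v : Fin n → F} (h : qf n F v ≠ 0) : rf v = refl (qf n F) v h := by
  rw [rf, dif_pos h]

theorem rf_apply {v : Fin n → F} (h : v ⬝ᵥ v ≠ 0) (x : Fin n → F) :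
    rf v x = x - ((v ⬝ᵥ v)⁻¹ * (2 * (x ⬝ᵥ v))) • v := by
  rw [rf_eq (by rwa [qf_apply]), refl_apply, qf_apply, polar_qf]

theorem rf_self_neg {v : Fin n → F} (h : v ⬝ᵥ v ≠ 0) : rf v v = -v := by
  rw [rf_eq (by rwa [qf_apply]), refl_self]

theorem rf_fix {v x : Fin n → F} (hx : x ⬝ᵥ v = 0) : rf v x = x := by
  by_cases h : v ⬝ᵥ v = 0
  · rw [rf, dif_neg (by rw [qf_apply]; simp [h])]; rfl
  · rw [rf_apply h, hx]; simp

theorem rf_mem_orth (v : Fin n → F) : rf v ∈ orth (qf n F) := by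
  by_cases h : qf n F v ≠ 0
  · rw [rf_eq h]; exact refl_mem_orth _ _ _
  · rw [rf, dif_neg h]; exact one_mem _

theorem rf_mul_self (v : Fin n → F) : rf v * rf v = 1 := by
  by_cases h : qf n F v ≠ 0
  · rw [rf_eq h]; exact refl_mul_self _ _ _
  · rw [rf, dif_neg h, one_mul]

theorem rf_inv (v : Fin n → F) : (rf v)⁻¹ = rf v := inv_eq_of_mul_eq_one_right (rf_mul_self v)

theorem rf_conj {g : (Fin n → F) ≃ₗ[F] (Fin n → F)} (hg : g ∈ orth (qf n F)) (v : Fin n → F) :
    g * rf v * g⁻¹ = rf (g v) := by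
  by_cases h : qf n F v ≠ 0
  · rw [rf_eq h, refl_conj _ hg, rf_eq]
  · have h' : ¬ qf n F (g v) ≠ 0 := by rwa [mem_orth.1 hg]
    rw [rf, dif_neg h, rf, dif_neg h']; group

theorem rf_smul {t : F} (ht : t ≠ 0) (v : Fin n → F) : rf (t • v) = rf v := by
  by_cases h : qf n F v ≠ 0
  · have h' : qf n F (t • v) ≠ 0 := by rw [Geometry.map_smul']; simp [ht, h]
    rw [rf_eq h', rf_eq h, refl_smul _ _ h ht h']
  · have h' : ¬ qf n F (t • v) ≠ 0 := by rw [Geometry.map_smul']; simp at h; simp [h]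
    simp only [rf, dif_neg h, dif_neg h']

theorem rf_comm {v w : Fin n → F} (hvw : v ⬝ᵥ w = 0) : rf v * rf w = rf w * rf v := by
  have := rf_conj (rf_mem_orth v) w
  rw [rf_fix (x := w) (by rwa [dotProduct_comm]), rf_inv] at this
  conv_rhs => rw [← this]
  rw [mul_assoc, rf_mul_self, mul_one]

/-- Monomial maps. -/
def Mono (g : (Fin n → F) ≃ₗ[F] (Fin n → F)) : Prop := ∀ i, ∃ (j : Fin n) (a : F), g (bv i) = a • bv j

/-- The vectors `bᵢ`, `bᵢ ± bⱼ`. -/
def IsB (v : Fin n → F) : Prop := ∃ i, v = bv i ∨ ∃ j, j ≠ i ∧ (v = bv i + bv j ∨ v = bv i - bv j)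

/-- Multiples of the vectors `bᵢ`, `bᵢ ± bⱼ`. -/
def RootLike (v : Fin n → F) : Prop := ∃ (ρ : Fin n → F) (a : F), IsB ρ ∧ v = a • ρ

theorem sum_bv (x : Fin n → F) : x = ∑ i, x i • bv i := by
  ext l; simp [bv_apply, Finset.sum_apply]

theorem bv_dot_bv (i j : Fin n) : (bv i : Fin n → F) ⬝ᵥ bv j = if i = j then 1 else 0 := by
  simp [bv_apply, eq_comm]

theorem mono_spec (h2 : (2 : F) ≠ 0) {g : (Fin n → F) ≃ₗ[F] (Fin n → F)} (hg : g ∈ orth (qf n F)) (hm : Mono g) :
    ∃ (π : Equiv.Perm (Fin n)) (ε : Fin n → F), (∀ i, ε i * ε i = 1) ∧ (∀ i, g (bv i) = ε i • bv (π i)) ∧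
      ∀ x i, g x (π i) = ε i * x i := by
  choose p a hpa using hm
  have ha : ∀ i, a i * a i = 1 := fun i => by
    have := dot_orth h2 hg (bv i) (bv i)
    rw [hpa] at this
    simpa [bv_apply] using this
  have hinj : Function.Injective p := by
    intro i j hij
    by_contra hne
    have := dot_orth h2 hg (bv i) (bv j)
    rw [hpa, hpa, hij, smul_dotProduct, dotProduct_smul, bv_dot_bv, bv_dot_bv, if_pos rfl, if_neg hne,
      smul_eq_mul, smul_eq_mul, mul_one] at this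
    have hai := ha i
    have haj := ha j
    rcases mul_eq_zero.1 this with h | h
    · rw [h] at hai; simp at hai
    · rw [h] at haj; simp at haj
  let π := Equiv.ofBijective p (Finite.injective_iff_bijective.1 hinj)
  refine ⟨π, a, ha, hpa, fun x i => ?_⟩
  conv_lhs => rw [sum_bv x, map_sum]
  simp only [map_smul, hpa, Finset.sum_apply, Pi.smul_apply, smul_eq_mul, bv_apply]
  rw [Finset.sum_eq_single i]
  · simp [π, Equiv.ofBijective_apply]; ring
  · intro j _ hj
    simp [π, Equiv.ofBijective_apply, (hinj.ne hj).symm]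
  · simp

/-- The monomial isometries. -/
def monoGroup (h2 : (2 : F) ≠ 0) : Subgroup ((Fin n → F) ≃ₗ[F] (Fin n → F)) where
  carrier := {g | g ∈ orth (qf n F) ∧ Mono g}
  one_mem' := ⟨one_mem _, fun i => ⟨i, 1, by simp⟩⟩
  mul_mem' := fun {g k} hg hk => ⟨mul_mem hg.1 hk.1, fun i => by
    obtain ⟨j, a, h⟩ := hk.2 i
    obtain ⟨l, b, h'⟩ := hg.2 j
    exact ⟨l, a * b, by rw [LinearEquiv.mul_apply, h, map_smul, h', smul_smul]⟩⟩
  inv_mem' := fun {g} hg => ⟨inv_mem hg.1, fun i => by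
    obtain ⟨π, ε, hε, h, -⟩ := mono_spec h2 hg.1 hg.2
    refine ⟨π.symm i, ε (π.symm i), ?_⟩
    show g.symm (bv i) = _
    rw [LinearEquiv.symm_apply_eq, map_smul, h, π.apply_symm_apply, smul_smul, hε, one_smul]⟩

theorem mem_monoGroup {h2 : (2 : F) ≠ 0} {g : (Fin n → F) ≃ₗ[F] (Fin n → F)} :
    g ∈ monoGroup h2 ↔ g ∈ orth (qf n F) ∧ Mono g := Iff.rfl

theorem isB_dot (h2 : (2 : F) ≠ 0) {ρ : Fin n → F} (h : IsB ρ) : ρ ⬝ᵥ ρ ≠ 0 := by
  obtain ⟨i, rfl | ⟨j, hji, rfl | rfl⟩⟩ := h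
  · simp
  · simp [dotProduct_add, bv_ne hji, bv_ne hji.symm, one_add_one_eq_two, h2]
  · simp [dotProduct_sub, bv_ne hji, bv_ne hji.symm, one_add_one_eq_two, h2]

theorem mono_rf (h2 : (2 : F) ≠ 0) {ρ : Fin n → F} (h : IsB ρ) : rf ρ ∈ monoGroup h2 := by
  refine ⟨rf_mem_orth _, fun l => ?_⟩
  have hd := isB_dot h2 h
  obtain ⟨i, rfl | ⟨j, hji, rfl | rfl⟩⟩ := h
  · by_cases hl : l = i
    · exact ⟨i, -1, by subst hl; rw [rf_self_neg hd]; simp⟩
    · exact ⟨l, 1, by rw [rf_fix (by simp [bv_ne hl, bv_ne (Ne.symm hl)]), one_smul]⟩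
  · rw [show (bv i + bv j : Fin n → F) ⬝ᵥ (bv i + bv j) = 2 by
      simp [dotProduct_add, bv_ne hji, bv_ne hji.symm, one_add_one_eq_two]] at hd
    by_cases hl : l = i
    · refine ⟨j, -1, ?_⟩
      subst hl
      rw [rf_apply (by simp [dotProduct_add, bv_ne hji, bv_ne hji.symm, one_add_one_eq_two, h2])]
      simp [dotProduct_add, bv_ne hji, bv_ne hji.symm, one_add_one_eq_two, h2]
    · by_cases hl' : l = j
      · refine ⟨i, -1, ?_⟩
        subst hl'
        rw [rf_apply (by simp [dotProduct_add, bv_ne hji, bv_ne hji.symm, one_add_one_eq_two, h2])]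
        simp [dotProduct_add, bv_ne hji, bv_ne hji.symm, one_add_one_eq_two, h2]
      · exact ⟨l, 1, by rw [rf_fix (by simp [bv_ne (Ne.symm hl), bv_ne (Ne.symm hl')]), one_smul]⟩
  · by_cases hl : l = i
    · refine ⟨j, 1, ?_⟩
      subst hl
      rw [rf_apply (by simp [dotProduct_sub, bv_ne hji, bv_ne hji.symm, one_add_one_eq_two, h2])]
      simp [dotProduct_sub, bv_ne hji, bv_ne hji.symm, one_add_one_eq_two, h2]
    · by_cases hl' : l = j
      · refine ⟨i, 1, ?_⟩
        subst hl'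
        rw [rf_apply (by simp [dotProduct_sub, bv_ne hji, bv_ne hji.symm, one_add_one_eq_two, h2])]
        simp [dotProduct_sub, bv_ne hji, bv_ne hji.symm, one_add_one_eq_two, h2]
      · exact ⟨l, 1, by rw [rf_fix (by simp [bv_ne (Ne.symm hl), bv_ne (Ne.symm hl')]), one_smul]⟩

theorem RootLike.two {v : Fin n → F} (h : RootLike v) {x y z : Fin n} (hxy : x ≠ y) (hxz : x ≠ z) (hyz : y ≠ z)
    (hx : v x ≠ 0) (hy : v y ≠ 0) (hz : v z ≠ 0) : False := by
  obtain ⟨ρ, a, ⟨i, hρ⟩, rfl⟩ := h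
  obtain ⟨j, hj⟩ : ∃ j, ∀ l, l ≠ i → l ≠ j → ρ l = 0 := by
    rcases hρ with rfl | ⟨j, -, rfl | rfl⟩
    · exact ⟨i, fun l h _ => bv_ne h⟩
    · exact ⟨j, fun l h h' => by simp [bv_ne h, bv_ne h']⟩
    · exact ⟨j, fun l h h' => by simp [bv_ne h, bv_ne h']⟩
  have hmem : ∀ l, (a • ρ) l ≠ 0 → l = i ∨ l = j := fun l hl => by
    by_contra hc
    push Not at hc
    exact hl (by rw [Pi.smul_apply, hj l hc.1 hc.2, smul_zero])
  rcases hmem x hx with rfl | rfl <;> rcases hmem y hy with rfl | rfl <;>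
    rcases hmem z hz with rfl | rfl <;> simp_all

/-- A monomial reflection is that of a root. -/
theorem mono_rootLike (h2 : (2 : F) ≠ 0) {v : Fin n → F} (hv : v ⬝ᵥ v ≠ 0) (hm : Mono (rf v)) :
    RootLike v := by
  obtain ⟨c, hc⟩ : ∃ c, v c ≠ 0 := by
    by_contra h
    push Not at h
    exact hv (by simp [funext h, dotProduct])
  obtain ⟨π, ε, hε, hπ, -⟩ := mono_spec h2 (rf_mem_orth v) hm
  have h := hπ c
  rw [rf_apply hv, bv_dot] at h
  set k := (v ⬝ᵥ v)⁻¹ * (2 * v c)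
  have hk : k ≠ 0 := mul_ne_zero (inv_ne_zero hv) (mul_ne_zero h2 hc)
  have hv' : v = k⁻¹ • (bv c - ε c • bv (π c)) := by
    rw [← h, sub_sub_cancel, smul_smul, inv_mul_cancel₀ hk, one_smul]
  by_cases hd : π c = c
  · exact ⟨bv c, k⁻¹ * (1 - ε c), ⟨c, Or.inl rfl⟩, by rw [hv', hd]; module⟩
  rcases mul_self_eq_one_iff.1 (hε c) with e | e
  · exact ⟨bv c - bv (π c), k⁻¹, ⟨c, Or.inr ⟨π c, hd, Or.inr rfl⟩⟩, by rw [hv', e, one_smul]⟩
  · exact ⟨bv c + bv (π c), k⁻¹, ⟨c, Or.inr ⟨π c, hd, Or.inl rfl⟩⟩, by rw [hv', e]; module⟩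

/-- A monomial isometry moving into a plane moves at most four coordinates. -/
theorem mono_moved (h2 : (2 : F) ≠ 0) {s : (Fin n → F) ≃ₗ[F] (Fin n → F)} (hs : s ∈ orth (qf n F)) (hm : Mono s)
    {v w : Fin n → F} (hmv : ∀ x, ∃ a b : F, x - s x = a • v + b • w) :
    ∃ J : Finset (Fin n), J.card ≤ 4 ∧ ∀ c ∉ J, s (bv c) = bv c := by
  obtain ⟨π, ε, hε, hπ, hco⟩ := mono_spec h2 hs hm
  let J := Finset.univ.filter fun c => s (bv c) ≠ bv c
  refine ⟨J, ?_, fun c hc => by simpa [J] using hc⟩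
  by_contra hJ
  push Not at hJ
  let d : Fin n → Fin n → F := fun c => bv c - s (bv c)
  have hself : ∀ c ∈ J, d c c ≠ 0 := by
    intro c hc
    have hc' : s (bv c) ≠ bv c := (Finset.mem_filter.1 hc).2
    show bv c c - s (bv c) c ≠ 0
    rw [hπ, Pi.smul_apply, bv_self, bv_apply]
    by_cases h : c = π c
    · rw [if_pos h, smul_eq_mul, mul_one, sub_ne_zero]
      intro e
      exact hc' (by rw [hπ, ← e, one_smul, ← h])
    · rw [if_neg h]; simp
  have hoff : ∀ c l, l ≠ c → π c ≠ l → d c l = 0 := fun c l h h' => by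
    show bv c l - s (bv c) l = 0
    rw [hπ, Pi.smul_apply, bv_ne h, bv_ne (Ne.symm h')]; simp
  obtain ⟨a, ha⟩ := Finset.card_pos.1 (show 0 < J.card by omega)
  obtain ⟨b, hb, hb'⟩ : ∃ b ∈ J, b ∉ ({a, π.symm a} : Finset _) := Finset.exists_mem_notMem_of_card_lt_card
    (Finset.card_le_two.trans_lt (by omega))
  obtain ⟨c, hc, hc'⟩ : ∃ c ∈ J, c ∉ ({a, π.symm a, b, π.symm b} : Finset _) :=
    Finset.exists_mem_notMem_of_card_lt_card (Finset.card_le_four.trans_lt (by omega))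
  simp only [Finset.mem_insert, Finset.mem_singleton, not_or, Equiv.eq_symm_apply] at hb' hc'
  obtain ⟨a1, a2, hda⟩ := hmv (bv a)
  obtain ⟨b1, b2, hdb⟩ := hmv (bv b)
  obtain ⟨c1, c2, hdc⟩ := hmv (bv c)
  have hrel : (b1 * c2 - b2 * c1) • d a + (c1 * a2 - c2 * a1) • d b + (a1 * b2 - a2 * b1) • d c = 0 := by
    simp only [d, hda, hdb, hdc]; module
  have hb1 : b ≠ a := hb'.1
  have hc1 : c ≠ a := hc'.1
  have hc2 : c ≠ b := hc'.2.2.1
  have h1 := congrFun hrel a
  simp [hoff b a hb1.symm hb'.2, hoff c a hc1.symm hc'.2.1, hself a ha] at h1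
  have h2' := congrFun hrel b
  simp [h1, hoff c b hc2.symm hc'.2.2.2, hself b hb] at h2'
  have h3 := congrFun hrel c
  simp [h1, h2', hself c hc] at h3
  -- all three minors vanish: `d a` and `d b` are dependent
  have hdep : a1 • d b - b1 • d a = 0 ∧ a2 • d b - b2 • d a = 0 := by
    constructor
    · simp only [d, hda, hdb]
      rw [show a1 • (b1 • v + b2 • w) - b1 • (a1 • v + a2 • w) = (a1 * b2 - a2 * b1) • w by module, h3, zero_smul]
    · simp only [d, hda, hdb]
      rw [show a2 • (b1 • v + b2 • w) - b2 • (a1 • v + a2 • w) = -((a1 * b2 - a2 * b1) • v) by module, h3, zero_smul,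
        neg_zero]
  have e1 := congrFun hdep.1 b
  have e2 := congrFun hdep.2 b
  by_cases hab : π a = b
  · have f1 := congrFun hdep.1 a
    have f2 := congrFun hdep.2 a
    simp [hoff b a hb1.symm hb'.2, hself a ha] at f1 f2
    have g1 := congrFun hdb b
    simp [f1, f2] at g1
    exact hself b hb (by simpa [d] using g1)
  · simp [hoff a b hb1 hab, hself b hb] at e1 e2
    have g1 := congrFun hda a
    simp [e1, e2] at g1
    exact hself a ha (by simpa [d] using g1)

/-- A root image outside the roots, from a map which is not monomial on `A`. -/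
theorem root_nonmono (h2 : (2 : F) ≠ 0) {g : (Fin n → F) ≃ₗ[F] (Fin n → F)} (hg : g ∈ orth (qf n F))
    (A : Finset (Fin n)) (hA : 3 ≤ A.card) {i : Fin n} (hi : i ∈ A) (hgi : ∀ (j : Fin n) (a : F), g (bv i) ≠ a • bv j) :
    (∃ i ∈ A, ¬ RootLike (g (bv i))) ∨
      ((∀ i ∈ A, RootLike (g (bv i))) ∧ (∃ a : F, 2 * (a * a) = 1) ∧
        ∃ i ∈ A, ∃ k ∈ A, k ≠ i ∧ ¬ RootLike (g (bv i - bv k))) := by
  by_cases hall : ∀ i ∈ A, RootLike (g (bv i))
  swap
  · push Not at hall; exact Or.inl hall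
  refine Or.inr ⟨hall, ?_⟩
  obtain ⟨ρ, α, hρ, he⟩ := hall i hi
  obtain ⟨x, rfl | ⟨y, hyx, hρy⟩⟩ := hρ
  · exact absurd he (hgi x α)
  obtain ⟨ε, hε, rfl⟩ : ∃ ε : F, (ε = 1 ∨ ε = -1) ∧ ρ = bv x + ε • bv y := by
    rcases hρy with rfl | rfl
    · exact ⟨1, Or.inl rfl, by simp⟩
    · exact ⟨-1, Or.inr rfl, by module⟩
  have hvx : g (bv i) x = α := by rw [he]; simp [bv_ne hyx.symm]
  have hvy : g (bv i) y = α * ε := by rw [he]; simp [bv_ne hyx]
  have hv0 : ∀ l, l ≠ x → l ≠ y → g (bv i) l = 0 := fun l h h' => by rw [he]; simp [bv_ne h, bv_ne h']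
  have hee : ε * ε = 1 := by rcases hε with rfl | rfl <;> ring
  have hαe : 2 * (α * α) = 1 := by
    have h := dot_orth_self hg (bv i)
    rw [he, bv_dot, bv_self] at h
    simp [add_dotProduct, dotProduct_add, bv_ne hyx, bv_ne hyx.symm] at h
    linear_combination h - α * α * hee
  have hα : α ≠ 0 := fun h => by simp [h] at hαe
  refine ⟨⟨α, hαe⟩, i, hi, ?_⟩
  have horth : ∀ k, k ≠ i → g (bv k) x + ε * g (bv k) y = 0 := by
    intro k hk
    have h := dot_orth h2 hg (bv i) (bv k)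
    rw [he, bv_dot, bv_ne hk.symm, smul_dotProduct, add_dotProduct, smul_dotProduct, bv_dot, bv_dot] at h
    exact (mul_eq_zero.1 h).resolve_left hα
  -- some other image leaves the two coordinates
  obtain ⟨k, hk, hki, z, hzx, hzy, hz⟩ :
      ∃ k ∈ A, k ≠ i ∧ ∃ z, z ≠ x ∧ z ≠ y ∧ g (bv k) z ≠ 0 := by
    by_contra hc
    push Not at hc
    obtain ⟨k, hk⟩ := Finset.card_pos.1 (show 0 < (A.erase i).card by rw [Finset.card_erase_of_mem hi]; omega)
    obtain ⟨l, hl⟩ := Finset.card_pos.1 (show 0 < ((A.erase i).erase k).card by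
      rw [Finset.card_erase_of_mem hk, Finset.card_erase_of_mem hi]; omega)
    simp only [Finset.mem_erase] at hk hl
    have e : ∀ u v : Fin n → F, (∀ z, z ≠ x → z ≠ y → u z = 0) → u ⬝ᵥ v = u x * v x + u y * v y := by
      intro u v hu
      rw [dotProduct, ← Finset.sum_subset (Finset.subset_univ {x, y}) (fun z _ hz => by
        simp at hz; rw [hu z hz.1 hz.2, zero_mul]), Finset.sum_pair hyx.symm]
    have h := dot_orth h2 hg (bv k) (bv l)
    have h' := dot_orth_self hg (bv k)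
    have h'' := dot_orth_self hg (bv l)
    rw [e _ _ (hc k hk.2 hk.1)] at h h'
    rw [e _ _ (hc l hl.2.2 hl.2.1)] at h''
    rw [bv_dot, bv_ne hl.1.symm] at h
    rw [bv_dot, bv_self] at h' h''
    have ex : g (bv k) x = -ε * g (bv k) y := by linear_combination horth k hk.1
    have ex' : g (bv l) x = -ε * g (bv l) y := by linear_combination horth l hl.2.1
    rw [ex, ex'] at h
    rw [ex] at h'
    rw [ex'] at h''
    have h4 : g (bv k) y * g (bv l) y * 2 = 0 := by linear_combination h - g (bv k) y * g (bv l) y * hee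
    rcases mul_eq_zero.1 ((mul_eq_zero.1 h4).resolve_right h2) with h5 | h5
    · simp [h5] at h'
    · simp [h5] at h''
  refine ⟨k, hk, hki, fun hr => hr.two hyx.symm hzx.symm hzy.symm ?_ ?_ ?_⟩
  · rw [map_sub, Pi.sub_apply, hvx, sub_ne_zero]
    intro e
    have hy' : g (bv k) y ≠ 0 := fun e' => hα (by
      have := horth k hki; rw [e', mul_zero, add_zero, ← e] at this; exact this)
    exact (hall k hk).two hyx.symm hzx.symm hzy.symm (by rw [← e]; exact hα) hy' hz
  · rw [map_sub, Pi.sub_apply, hvy, sub_ne_zero]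
    intro e
    have hαε : α * ε ≠ 0 := mul_ne_zero hα (fun e' => by simp [e'] at hee)
    have hx' : g (bv k) x ≠ 0 := fun e' => by
      have := horth k hki; rw [e', zero_add, ← e] at this
      exact hα (by linear_combination this - α * hee)
    exact (hall k hk).two hyx.symm hzx.symm hzy.symm hx' (by rw [← e]; exact hαε) hz
  · rw [map_sub, Pi.sub_apply, hv0 z hzx hzy, zero_sub, neg_ne_zero]; exact hz

/-- Products of reflections of two orthogonal vectors, one of them not a root: the other lives on its support. -/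
theorem mono_pair_supp (h2 : (2 : F) ≠ 0) {v w : Fin n → F} (hv : v ⬝ᵥ v ≠ 0) (hw : w ⬝ᵥ w ≠ 0)
    (hvw : v ⬝ᵥ w = 0) (hr : ¬ RootLike v) (hm : Mono (rf v * rf w)) :
    (∀ c, v c = 0 → w c = 0) ∧ ∃ J : Finset (Fin n), J.card ≤ 4 ∧ ∀ c ∉ J, v c = 0 := by
  have hs : rf v * rf w ∈ orth (qf n F) := mul_mem (rf_mem_orth _) (rf_mem_orth _)
  obtain ⟨π, ε, hε, hπ, hco⟩ := mono_spec h2 hs hm
  have hsv : (rf v * rf w) v = -v := by rw [LinearEquiv.mul_apply, rf_fix hvw, rf_self_neg hv]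
  refine ⟨fun c hc => ?_, ?_⟩
  · by_contra hwc
    have hd : v (π c) = 0 := by
      have h := hco v c
      rw [hsv, Pi.neg_apply, hc, mul_zero, neg_eq_zero] at h
      exact h
    have hsc : (rf v * rf w) (bv c) = bv c - ((w ⬝ᵥ w)⁻¹ * (2 * w c)) • w := by
      rw [LinearEquiv.mul_apply, rf_apply hw, bv_dot, map_sub, map_smul, rf_fix (by simpa using hc),
        rf_fix (by rwa [dotProduct_comm])]
    set k := (w ⬝ᵥ w)⁻¹ * (2 * w c)
    have hk : k ≠ 0 := mul_ne_zero (inv_ne_zero hw) (mul_ne_zero h2 hwc)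
    have hw' : w = k⁻¹ • (bv c - ε c • bv (π c)) := by
      rw [← hπ, hsc, sub_sub_cancel, smul_smul, inv_mul_cancel₀ hk, one_smul]
    -- `rf w` is monomial
    have hrw : Mono (rf w) := by
      by_cases hcc : π c = c
      · rw [hw', hcc, show bv c - ε c • bv c = (1 - ε c) • (bv c : Fin n → F) by module, smul_smul]
        by_cases h0 : k⁻¹ * (1 - ε c) = 0
        · exact absurd (by rw [hw', hcc, show bv c - ε c • bv c = (1 - ε c) • (bv c : Fin n → F) by module,
            smul_smul, h0, zero_smul, zero_dotProduct]) hw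
        · rw [rf_smul h0]; exact (mono_rf h2 ⟨c, Or.inl rfl⟩).2
      · rw [hw', rf_smul (inv_ne_zero hk)]
        rcases mul_self_eq_one_iff.1 (hε c) with e | e
        · rw [e, one_smul]; exact (mono_rf h2 ⟨c, Or.inr ⟨π c, hcc, Or.inr rfl⟩⟩).2
        · rw [e, neg_one_smul, sub_neg_eq_add]; exact (mono_rf h2 ⟨c, Or.inr ⟨π c, hcc, Or.inl rfl⟩⟩).2
    have := mul_mem (show rf v * rf w ∈ monoGroup h2 from ⟨hs, hm⟩)
      (show rf w ∈ monoGroup h2 from ⟨rf_mem_orth _, hrw⟩)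
    rw [mul_assoc, rf_mul_self, mul_one] at this
    exact hr (mono_rootLike h2 hv this.2)
  · obtain ⟨J, hJ, hfix⟩ := mono_moved h2 hs hm (v := v) (w := w) (fun x => by
      refine ⟨(v ⬝ᵥ v)⁻¹ * (2 * (rf w x ⬝ᵥ v)), (w ⬝ᵥ w)⁻¹ * (2 * (x ⬝ᵥ w)), ?_⟩
      rw [LinearEquiv.mul_apply, rf_apply hv, rf_apply hw]
      abel)
    refine ⟨J, hJ, fun c hc => ?_⟩
    have h := dot_orth h2 hs (bv c) v
    rw [hfix c hc, hsv, dotProduct_neg, bv_dot] at h
    exact (mul_eq_zero.1 (show (2 : F) * v c = 0 by linear_combination -h)).resolve_left h2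

/-- Independent vectors with few coordinates. -/
theorem card_le_of_supp {g : (Fin n → F) ≃ₗ[F] (Fin n → F)} (A S : Finset (Fin n))
    (h : ∀ j ∈ A, ∀ c ∉ S, g (bv j) c = 0) : A.card ≤ S.card := by
  have hli : LinearIndependent F (fun j : A => fun c : S => g (bv (j : Fin n)) c) := by
    rw [Fintype.linearIndependent_iff]
    intro a ha j
    have h1 : g (∑ j : A, a j • bv (j : Fin n)) = 0 := by
      ext c
      by_cases hc : c ∈ S
      · have := congrFun ha ⟨c, hc⟩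
        simpa [map_sum, Finset.sum_apply] using this
      · rw [map_sum, Finset.sum_apply]
        exact Finset.sum_eq_zero fun j _ => by simp [h j j.2 c hc]
    rw [LinearEquiv.map_eq_zero_iff] at h1
    have := congrFun h1 j
    rw [Finset.sum_apply, Finset.sum_eq_single j] at this
    · simpa using this
    · exact fun k _ hk => by simp [bv_ne (fun e => hk (Subtype.ext e.symm))]
    · simp
  have := hli.fintype_card_le_finrank
  simpa using this

end CfsgLib.OrthFrame
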