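import Mathlib

/-!
A group in which every non-trivial element has one axis: the orbit of an axis of order four.
-/

set_option autoImplicit false
set_option linter.unusedSectionVars false

open scoped Classical

namespace CfsgLib.OrthFrame

open MulAction

variable {G A : Type*} [Group G] [Finite G] [MulAction G A]

/-- The arithmetic of three axis classes, one of order divisible by four. -/
theorem axis_arith_two {g o₁ c₁ o₂ c₂ : ℕ} (h₁ : g = o₁ * 2 * c₁) (hc₁ : 4 ≤ c₁) (hc₂ : 2 ≤ c₂) (ho₂ : 1 ≤ o₂)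
    (h₂ : g = o₂ * c₂ ∨ g = o₂ * 2 * c₂) (hsum : o₁ * (c₁ - 1) + o₂ * (c₂ - 1) = g - 1) : o₁ ≤ 3 := by
  have e₁ : o₁ * (c₁ - 1) + o₁ = o₁ * c₁ := by
    rw [← Nat.mul_succ]; congr 1; omega
  have e₂ : o₂ * (c₂ - 1) + o₂ = o₂ * c₂ := by
    rw [← Nat.mul_succ]; congr 1; omega
  have b₁ : 4 * o₁ ≤ o₁ * c₁ := by rw [mul_comm 4]; exact Nat.mul_le_mul_left _ hc₁
  rw [show o₁ * 2 * c₁ = 2 * (o₁ * c₁) by ring] at h₁
  rcases h₂ with h₂ | h₂
  · rcases Nat.lt_or_ge c₂ 3 with h | h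
    · obtain rfl : c₂ = 2 := by omega
      omega
    · have b₂ : 3 * o₂ ≤ o₂ * c₂ := by rw [mul_comm 3]; exact Nat.mul_le_mul_left _ h
      omega
  · rw [show o₂ * 2 * c₂ = 2 * (o₂ * c₂) by ring] at h₂
    omega

/-- The arithmetic of three axis classes, one of order divisible by four. -/
theorem axis_arith_three {g o₁ c₁ o₂ c₂ o₃ c₃ : ℕ} (h₁ : g = o₁ * 2 * c₁) (hc₁ : 4 ∣ c₁) (hg : 1 ≤ o₁ * c₁)
    (hc₂ : 2 ≤ c₂) (hc₃ : 2 ≤ c₃) (h₂ : g = o₂ * c₂ ∨ g = o₂ * 2 * c₂) (h₃ : g = o₃ * c₃ ∨ g = o₃ * 2 * c₃)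
    (hsum : o₁ * (c₁ - 1) + o₂ * (c₂ - 1) + o₃ * (c₃ - 1) = g - 1) : o₁ ≤ 3 := by
  obtain ⟨k, rfl⟩ := hc₁
  have hk : 1 ≤ k := by
    rcases Nat.eq_zero_or_pos k with rfl | hk
    · simp at hg
    · exact hk
  have e₁ : o₁ * (4 * k - 1) + o₁ = o₁ * (4 * k) := by
    rw [← Nat.mul_succ]; congr 1; omega
  have e₂ : o₂ * (c₂ - 1) + o₂ = o₂ * c₂ := by
    rw [← Nat.mul_succ]; congr 1; omega
  have e₃ : o₃ * (c₃ - 1) + o₃ = o₃ * c₃ := by
    rw [← Nat.mul_succ]; congr 1; omega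
  have b₁ : 4 * o₁ ≤ o₁ * (4 * k) := by rw [mul_comm 4 o₁]; exact Nat.mul_le_mul_left _ (by omega)
  have b₂ : 2 * o₂ ≤ o₂ * c₂ := by rw [mul_comm 2]; exact Nat.mul_le_mul_left _ hc₂
  have b₃ : 2 * o₃ ≤ o₃ * c₃ := by rw [mul_comm 2]; exact Nat.mul_le_mul_left _ hc₃
  rw [show o₁ * 2 * (4 * k) = 2 * (o₁ * (4 * k)) by ring] at h₁
  rcases h₂ with h₂ | h₂
  · rcases h₃ with h₃ | h₃
    · omega
    · rw [show o₃ * 2 * c₃ = 2 * (o₃ * c₃) by ring] at h₃
      omega
  rw [show o₂ * 2 * c₂ = 2 * (o₂ * c₂) by ring] at h₂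
  rcases h₃ with h₃ | h₃
  · omega
  rw [show o₃ * 2 * c₃ = 2 * (o₃ * c₃) by ring] at h₃
  have key : ∀ (x y a b : ℕ), g = 2 * (x * a) → g = 2 * (y * b) → 2 ≤ a → 2 ≤ b →
      o₁ + x + y = g / 2 + 1 → a ≤ b → o₁ ≤ 3 := by
    intro x y a b hx hy ha hb hs hab
    rcases Nat.lt_or_ge a 3 with h | h
    · obtain rfl : a = 2 := by omega
      rcases Nat.lt_or_ge b 3 with h' | h'
      · obtain rfl : b = 2 := by omega
        omega
      rcases Nat.lt_or_ge b 4 with h'' | h''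
      · obtain rfl : b = 3 := by omega
        rcases Nat.lt_or_ge k 2 with hk2 | hk2
        · obtain rfl : k = 1 := by omega
          omega
        · have : 8 * o₁ ≤ o₁ * (4 * k) := by rw [mul_comm 8 o₁]; exact Nat.mul_le_mul_left _ (by omega)
          omega
      · have : 4 * y ≤ y * b := by rw [mul_comm 4]; exact Nat.mul_le_mul_left _ h''
        omega
    · have hb3 : 3 * y ≤ y * b := by rw [mul_comm 3]; exact Nat.mul_le_mul_left _ (h.trans hab)
      have : 3 * x ≤ x * a := by rw [mul_comm 3]; exact Nat.mul_le_mul_left _ h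
      omega
  rcases le_total c₂ c₃ with h | h
  · exact key o₂ o₃ c₂ c₃ h₂ h₃ hc₂ hc₃ (by omega) h
  · exact key o₃ o₂ c₃ c₂ h₃ h₂ hc₃ hc₂ (by omega) h

/-- With one axis for each non-trivial element, an element of order four has an axis with at most three images. -/
theorem orbit_le_three (ax : G → A) (hax : ∀ g h : G, g ≠ 1 → ax (h * g * h⁻¹) = h • ax g)
    (hfix : ∀ g : G, g ≠ 1 → g • ax g = ax g)
    (hsub : ∀ g : G, g ≠ 1 → ∃ C : Subgroup G, (∀ h, h ∈ C ↔ h = 1 ∨ ax h = ax g) ∧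
      ∀ h k : G, h • ax g = ax g → k • ax g = ax g → h ∉ C → k ∉ C → h * k ∈ C)
    {g₄ : G} (h₄ : orderOf g₄ = 4) : Nat.card (orbit G (ax g₄)) ≤ 3 := by
  classical
  haveI := Fintype.ofFinite G
  set E : A → Finset G := fun a => (Finset.univ.erase (1 : G)).filter fun h => ax h ∈ orbit G a with hE
  -- the size of the set of elements whose axis is in a given orbit
  have data : ∀ g : G, g ≠ 1 → ∃ o c : ℕ, o = Nat.card (orbit G (ax g)) ∧ 1 ≤ o ∧ 2 ≤ c ∧
      (Nat.card G = o * c ∨ Nat.card G = o * 2 * c) ∧ (E (ax g)).card = o * (c - 1) ∧ orderOf g ∣ c := by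
    intro g hg
    obtain ⟨C, hC, hCm⟩ := hsub g hg
    have hCs : C ≤ stabilizer G (ax g) := by
      intro h hh
      rcases (hC h).1 hh with rfl | e
      · exact one_mem _
      · by_cases h1 : h = 1
        · subst h1; exact one_mem _
        · rw [mem_stabilizer_iff, ← e]; exact hfix h h1
    have hgC : g ∈ C := (hC g).2 (Or.inr rfl)
    refine ⟨Nat.card (orbit G (ax g)), Nat.card C, rfl, ?_, ?_, ?_, ?_, ?_⟩
    · haveI : Finite (orbit G (ax g)) := (Set.finite_range fun h : G => h • ax g).to_subtype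
      exact Nat.one_le_iff_ne_zero.2 (Nat.card_ne_zero.2 ⟨⟨⟨_, mem_orbit_self _⟩⟩, inferInstance⟩)
    · exact Finite.one_lt_card_iff_nontrivial.2 ⟨⟨⟨g, hgC⟩, 1, fun e => hg (congrArg Subtype.val e)⟩⟩
    · have hS : Nat.card (orbit G (ax g)) * Nat.card (stabilizer G (ax g)) = Nat.card G := by
        rw [← Nat.card_prod]
        exact Nat.card_congr (orbitProdStabilizerEquivGroup G (ax g))
      by_cases hall : stabilizer G (ax g) ≤ C
      · left
        rw [← hS, le_antisymm hall hCs]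
      · right
        obtain ⟨k, hk, hkC⟩ := Set.not_subset.1 hall
        have hks : k • ax g = ax g := hk
        have : Nat.card (stabilizer G (ax g)) = 2 * Nat.card C := by
          rw [← Subgroup.relIndex_mul_relIndex ⊥ C (stabilizer G (ax g)) bot_le hCs |>.trans
            (Subgroup.relIndex_bot_left _), Subgroup.relIndex_bot_left]
          rw [mul_comm]
          congr 1
          rw [Subgroup.relIndex, Subgroup.index_eq_two_iff]
          refine ⟨⟨k, hk⟩, fun b => ?_⟩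
          simp only [Subgroup.mem_subgroupOf, Subgroup.coe_mul]
          by_cases hb : (b : G) ∈ C
          · refine Or.inr ⟨hb, fun h => hkC ?_⟩
            have := mul_mem (inv_mem hb) h
            simpa using this
          · exact Or.inl ⟨hCm _ _ b.2 hks hb hkC, hb⟩
        rw [← hS, this]; ring
    · have hfib : ∀ a ∈ orbit G (ax g), ((Finset.univ.erase (1 : G)).filter fun h => ax h = a).card = Nat.card C - 1 := by
        rintro _ ⟨k, rfl⟩
        rw [show Nat.card C - 1 = ((Finset.univ.filter fun h => h ∈ C).erase 1).card by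
          rw [Finset.card_erase_of_mem (by simp [one_mem]), Nat.card_eq_fintype_card, Fintype.card_subtype]]
        refine Finset.card_nbij' (fun h => k⁻¹ * h * k) (fun h => k * h * k⁻¹) ?_ ?_ ?_ ?_
        · intro h hh
          simp only [Finset.coe_filter, Finset.mem_erase, Finset.mem_univ, and_true, Set.mem_setOf_eq] at hh
          simp only [Finset.coe_erase, Finset.coe_filter, Finset.mem_univ, true_and, Set.mem_sdiff, Set.mem_setOf_eq,
            Set.mem_singleton_iff]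
          refine ⟨(hC _).2 (Or.inr ?_), fun e => hh.1 ?_⟩
          · have := hax h k⁻¹ hh.1
            rw [inv_inv] at this
            rw [this, hh.2, inv_smul_smul]
          · calc h = k * (k⁻¹ * h * k) * k⁻¹ := by group
              _ = 1 := by rw [e]; group
        · intro h hh
          simp only [Finset.coe_erase, Finset.coe_filter, Finset.mem_univ, true_and, Set.mem_sdiff, Set.mem_setOf_eq,
            Set.mem_singleton_iff] at hh
          simp only [Finset.coe_filter, Finset.mem_erase, Finset.mem_univ, and_true, Set.mem_setOf_eq]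
          refine ⟨fun e => hh.2 ?_, ?_⟩
          · calc h = k⁻¹ * (k * h * k⁻¹) * k := by group
              _ = 1 := by rw [e]; group
          · rw [hax h k hh.2, ((hC h).1 hh.1).resolve_left hh.2]
        · intro h _; group
        · intro h _; group
      haveI : Fintype (orbit G (ax g)) := Set.Finite.fintype (Set.finite_range fun h : G => h • ax g)
      have : E (ax g) = (orbit G (ax g)).toFinset.biUnion fun a =>
          (Finset.univ.erase (1 : G)).filter fun h => ax h = a := by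
        ext h; simp [hE, and_comm]
      rw [this, Finset.card_biUnion, Finset.sum_congr rfl fun a ha => hfib a (Set.mem_toFinset.1 ha),
        Finset.sum_const, smul_eq_mul, Nat.card_eq_card_toFinset]
      intro a _ b _ hab
      simp only [Finset.disjoint_left, Finset.mem_filter, not_and]
      rintro h ⟨-, rfl⟩ _ e
      exact hab e
    · have := orderOf_dvd_natCard (⟨g, hgC⟩ : C)
      rwa [Subgroup.orderOf_mk] at this
  have h41 : g₄ ≠ 1 := fun h => by rw [h, orderOf_one] at h₄; omega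
  obtain ⟨o₁, c₁, ho₁, ho₁1, hc₁, hG₁, hE₁, hd₁⟩ := data g₄ h41
  rw [h₄] at hd₁
  rw [← ho₁]
  have hc₁4 : 4 ≤ c₁ := Nat.le_of_dvd (by omega) hd₁
  have hall : (Finset.univ.erase (1 : G)).card = Nat.card G - 1 := by
    rw [Finset.card_erase_of_mem (Finset.mem_univ _), Finset.card_univ, Nat.card_eq_fintype_card]
  have hdisj : ∀ a b : A, b ∉ orbit G a → Disjoint (E a) (E b) := by
    intro a b hab
    refine Finset.disjoint_left.2 fun h h1 h1' => hab ?_
    have e1 := orbit_eq_iff.2 (Finset.mem_filter.1 h1).2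
    have e2 := orbit_eq_iff.2 (Finset.mem_filter.1 h1').2
    rw [← e1, e2]
    exact mem_orbit_self b
  have hsubE : ∀ a, E a ⊆ Finset.univ.erase (1 : G) := fun a => Finset.filter_subset _ _
  by_cases hone : ∀ g : G, g ≠ 1 → ax g ∈ orbit G (ax g₄)
  · have : E (ax g₄) = Finset.univ.erase (1 : G) := Finset.filter_true_of_mem fun h hh => hone h (Finset.ne_of_mem_erase hh)
    rw [this, hall] at hE₁
    have e₁ : o₁ * (c₁ - 1) + o₁ = o₁ * c₁ := by rw [← Nat.mul_succ]; congr 1; omega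
    have : 4 ≤ o₁ * c₁ := le_trans hc₁4 (Nat.le_mul_of_pos_left _ (by omega))
    rw [show o₁ * 2 * c₁ = 2 * (o₁ * c₁) by ring] at hG₁
    omega
  push Not at hone
  obtain ⟨g₂, hg₂, hn₂⟩ := hone
  obtain ⟨o₂, c₂, -, ho₂, hc₂, hG₂, hE₂, -⟩ := data g₂ hg₂
  have d12 := hdisj _ _ hn₂
  have hle12 : (E (ax g₄) ∪ E (ax g₂)).card ≤ Nat.card G - 1 :=
    hall ▸ Finset.card_le_card (Finset.union_subset (hsubE _) (hsubE _))
  rw [Finset.card_union_of_disjoint d12, hE₁, hE₂] at hle12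
  have e₁ : o₁ * (c₁ - 1) + o₁ = o₁ * c₁ := by rw [← Nat.mul_succ]; congr 1; omega
  have e₂ : o₂ * (c₂ - 1) + o₂ = o₂ * c₂ := by rw [← Nat.mul_succ]; congr 1; omega
  have b₁ : 4 * o₁ ≤ o₁ * c₁ := by rw [mul_comm 4]; exact Nat.mul_le_mul_left _ hc₁4
  have b₂ : 2 * o₂ ≤ o₂ * c₂ := by rw [mul_comm 2]; exact Nat.mul_le_mul_left _ hc₂
  have hG₁' : Nat.card G = o₁ * 2 * c₁ := by
    rcases hG₁ with h | h
    · exfalso
      rcases hG₂ with h' | h'
      · omega
      · rw [show o₂ * 2 * c₂ = 2 * (o₂ * c₂) by ring] at h'; omega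
    · exact h
  by_cases htwo : ∀ g : G, g ≠ 1 → ax g ∈ orbit G (ax g₄) ∨ ax g ∈ orbit G (ax g₂)
  · have : E (ax g₄) ∪ E (ax g₂) = Finset.univ.erase (1 : G) := by
      rw [hE, ← Finset.filter_or]
      exact Finset.filter_true_of_mem fun h hh => htwo h (Finset.ne_of_mem_erase hh)
    have h := congrArg Finset.card this
    rw [Finset.card_union_of_disjoint d12, hE₁, hE₂, hall] at h
    exact axis_arith_two hG₁' hc₁4 hc₂ ho₂ hG₂ h
  push Not at htwo
  obtain ⟨g₃, hg₃, hn₃, hn₃'⟩ := htwo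
  obtain ⟨o₃, c₃, -, ho₃, hc₃, hG₃, hE₃, -⟩ := data g₃ hg₃
  have d123 : Disjoint (E (ax g₄) ∪ E (ax g₂)) (E (ax g₃)) :=
    Finset.disjoint_union_left.2 ⟨hdisj _ _ hn₃, hdisj _ _ hn₃'⟩
  by_cases hthree : ∀ g : G, g ≠ 1 →
      ax g ∈ orbit G (ax g₄) ∨ ax g ∈ orbit G (ax g₂) ∨ ax g ∈ orbit G (ax g₃)
  · have : E (ax g₄) ∪ E (ax g₂) ∪ E (ax g₃) = Finset.univ.erase (1 : G) := by
      rw [hE, ← Finset.filter_or, ← Finset.filter_or]
      exact Finset.filter_true_of_mem fun h hh => by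
        rcases hthree h (Finset.ne_of_mem_erase hh) with h' | h' | h' <;> simp [h']
    have h := congrArg Finset.card this
    rw [Finset.card_union_of_disjoint d123, Finset.card_union_of_disjoint d12, hE₁, hE₂, hE₃, hall] at h
    exact axis_arith_three hG₁' hd₁ (by omega) hc₂ hc₃ hG₂ hG₃ h
  push Not at hthree
  obtain ⟨g₅, hg₅, hn₅, hn₅', hn₅''⟩ := hthree
  obtain ⟨o₅, c₅, -, ho₅, hc₅, hG₅, hE₅, -⟩ := data g₅ hg₅
  have d1235 : Disjoint (E (ax g₄) ∪ E (ax g₂) ∪ E (ax g₃)) (E (ax g₅)) :=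
    Finset.disjoint_union_left.2 ⟨Finset.disjoint_union_left.2 ⟨hdisj _ _ hn₅, hdisj _ _ hn₅'⟩, hdisj _ _ hn₅''⟩
  have hle : (E (ax g₄) ∪ E (ax g₂) ∪ E (ax g₃) ∪ E (ax g₅)).card ≤ Nat.card G - 1 :=
    hall ▸ Finset.card_le_card (Finset.union_subset (Finset.union_subset (Finset.union_subset (hsubE _) (hsubE _)) (hsubE _)) (hsubE _))
  rw [Finset.card_union_of_disjoint d1235, Finset.card_union_of_disjoint d123, Finset.card_union_of_disjoint d12,
    hE₁, hE₂, hE₃, hE₅] at hle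
  have e₃ : o₃ * (c₃ - 1) + o₃ = o₃ * c₃ := by rw [← Nat.mul_succ]; congr 1; omega
  have e₅ : o₅ * (c₅ - 1) + o₅ = o₅ * c₅ := by rw [← Nat.mul_succ]; congr 1; omega
  have b₃ : 2 * o₃ ≤ o₃ * c₃ := by rw [mul_comm 2]; exact Nat.mul_le_mul_left _ hc₃
  have b₅ : 2 * o₅ ≤ o₅ * c₅ := by rw [mul_comm 2]; exact Nat.mul_le_mul_left _ hc₅
  simp only [show ∀ o c : ℕ, o * 2 * c = 2 * (o * c) from fun o c => by ring] at hG₁' hG₂ hG₃ hG₅
  rcases hG₂ with h | h <;> rcases hG₃ with h' | h' <;> rcases hG₅ with h'' | h'' <;> omega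

end CfsgLib.OrthFrame
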