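import Cfsg.Agent.Lib.OrthFrame.Roots

/-!
Shrinking the support of a root, for primes at least seven.
-/

set_option autoImplicit false
set_option linter.unusedSectionVars false

open scoped Classical

namespace CfsgLib.OrthFrame

open QuadraticMap CfsgLib.Geometry

variable {F : Type*} [Field F] [Finite F] [Fact (Nat.card F).Prime] {n : ℕ}
  {R : Subgroup ((Fin n → F) ≃ₗ[F] (Fin n → F))}

/-- The support. -/
noncomputable def supp (v : Fin n → F) : Finset (Fin n) := Finset.univ.filter fun l => v l ≠ 0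

theorem mem_supp {v : Fin n → F} {l : Fin n} : l ∈ supp v ↔ v l ≠ 0 := by simp [supp]

theorem sum_supp (v : Fin n → F) : ∑ l ∈ supp v, v l * v l = v ⬝ᵥ v :=
  Finset.sum_subset (Finset.subset_univ _) fun l _ hl => by simp [mem_supp] at hl; simp [hl]

theorem exists_two_squares (h2 : (2 : F) ≠ 0) (h3 : (3 : F) ≠ 0) (h5 : (5 : F) ≠ 0) :
    ∃ s t : F, s * s + t * t = -1 ∧ s ≠ 0 ∧ t ≠ 0 ∧ t * t ≠ 1 := by
  have base : ∃ s t : F, s * s + t * t = -1 ∧ s ≠ 0 ∧ t ≠ 0 := by
    obtain ⟨s, t, hst⟩ : ∃ s t : F, s * s + t * t = -1 := by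
      obtain ⟨c, hc⟩ := CharP.exists F
      haveI := hc
      haveI : NeZero c := ⟨(CharP.char_ne_zero_of_finite F c)⟩
      obtain ⟨a, b, hab⟩ := CharP.sq_add_sq F c (-1)
      exact ⟨a, b, by rw [← pow_two, ← pow_two]; simpa using hab⟩
    by_cases h : s ≠ 0 ∧ t ≠ 0
    · exact ⟨s, t, hst, h.1, h.2⟩
    obtain ⟨i, hi⟩ : ∃ i : F, i * i = -1 := by
      by_cases hs : s = 0
      · exact ⟨t, by rw [hs] at hst; linear_combination hst⟩
      · have ht : t = 0 := by
          by_contra ht
          exact h ⟨hs, ht⟩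
        exact ⟨s, by rw [ht] at hst; linear_combination hst⟩
    have hi0 : i ≠ 0 := fun e => by simp [e] at hi
    refine ⟨3 / 4, 5 / (4 * i), ?_, ?_, ?_⟩
    · have h4 : (4 : F) ≠ 0 := by rw [show (4 : F) = 2 * 2 by norm_num]; exact mul_ne_zero h2 h2
      field_simp
      linear_combination (9 + 16 : F) * hi
    · exact div_ne_zero h3 (by rw [show (4 : F) = 2 * 2 by norm_num]; exact mul_ne_zero h2 h2)
    · exact div_ne_zero h5 (mul_ne_zero (by rw [show (4 : F) = 2 * 2 by norm_num]; exact mul_ne_zero h2 h2) hi0)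
  obtain ⟨s, t, hst, hs, ht⟩ := base
  by_cases h1 : t * t = 1
  · refine ⟨t, s, by linear_combination hst, ht, hs, fun h => h3 ?_⟩
    linear_combination hst - h1 - h
  · exact ⟨s, t, hst, hs, ht, h1⟩

/-- The coordinates of a new root in the plane of `bⱼ` and `w`. -/
theorem exists_target (h2 : (2 : F) ≠ 0) (h3 : (3 : F) ≠ 0) (h5 : (5 : F) ≠ 0) {W : F} (hW : W ≠ 0) :
    ∃ β γ : F, β ≠ 0 ∧ γ ≠ 0 ∧ β * β + W * (γ * γ) = 1 ∧ IsSquare (-2 * W * (1 - β)) := by
  have h4 : (4 : F) ≠ 0 := by rw [show (4 : F) = 2 * 2 by norm_num]; exact mul_ne_zero h2 h2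
  by_cases hsq : IsSquare W
  · obtain ⟨v, hv⟩ := hsq
    have hv0 : v ≠ 0 := fun e => hW (by rw [hv, e, mul_zero])
    obtain ⟨s, t, hst, hs, ht, ht1⟩ := exists_two_squares h2 h3 h5
    have hd : 1 + t * t ≠ 0 := by
      rw [show 1 + t * t = -(s * s) by linear_combination hst]; simp [hs]
    refine ⟨(1 - t * t) / (1 + t * t), 2 * t / (v * (1 + t * t)),
      div_ne_zero (sub_ne_zero.2 (Ne.symm ht1)) hd, div_ne_zero (mul_ne_zero h2 ht) (mul_ne_zero hv0 hd), ?_, ?_⟩
    · rw [hv, show 1 + t * t = -(s * s) by linear_combination hst]; field_simp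
      linear_combination (1 + t ^ 2 - s ^ 2) * hst
    · refine ⟨2 * v * t / s, ?_⟩
      rw [hv, show 1 + t * t = -(s * s) by linear_combination hst]; field_simp
      linear_combination -hst
  · obtain ⟨t, ht0, hd, hb⟩ : ∃ t : F, t ≠ 0 ∧ 1 + W * (t * t) ≠ 0 ∧ 1 - W * (t * t) ≠ 0 := by
      by_cases hm : W = -1
      · refine ⟨2, h2, ?_, ?_⟩
        · rw [hm]; intro e; exact h3 (by linear_combination -e)
        · rw [hm]; intro e; exact h5 (by linear_combination e)
      · refine ⟨1, one_ne_zero, fun e => hm (by linear_combination e), fun e => hsq ⟨1, by linear_combination -e⟩⟩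
    set β := (1 - W * (t * t)) / (1 + W * (t * t))
    set γ := 2 * t / (1 + W * (t * t))
    have hβ : β ≠ 0 := div_ne_zero hb hd
    have hγ : γ ≠ 0 := div_ne_zero (mul_ne_zero h2 ht0) hd
    have heq : β * β + W * (γ * γ) = 1 := by
      obtain ⟨D, hD⟩ : ∃ D, D = 1 + W * (t * t) := ⟨_, rfl⟩
      simp only [β, γ, ← hD]
      have hD0 : D ≠ 0 := hD ▸ hd
      field_simp
      rw [hD]; ring
    by_cases h : IsSquare (-2 * W * (1 - β))
    · exact ⟨β, γ, hβ, hγ, heq, h⟩
    refine ⟨-β, γ, neg_ne_zero.2 hβ, hγ, by linear_combination heq, ?_⟩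
    by_contra h'
    obtain ⟨r, hr⟩ := CfsgLib.Geometry.isSquare_mul_of_not h h'
    refine hsq ⟨r / (2 * W * γ), ?_⟩
    clear_value β γ
    field_simp
    linear_combination hr + (4 * W ^ 2) * heq

variable (hR : RCtx R)
include hR

/-- A good pair shrinks the support. -/
theorem good_step (h3 : (3 : F) ≠ 0) (h5 : (5 : F) ≠ 0) {u : Fin n → F} (hu : Root R u) {i j : Fin n}
    (hg : GoodPair u i j) :
    ∃ β γ : F, β ≠ 0 ∧ γ ≠ 0 ∧ Root R (β • bv j + γ • (u - u i • bv i - u j • bv j)) := by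
  have h2 := hR.two
  set W := 1 - u i * u i - u j * u j
  have hW : W ≠ 0 := fun h => hg.2.1 (by linear_combination -h)
  obtain ⟨β, γ, hβ, hγ, heq, x, hx⟩ := exists_target h2 h3 h5 hW
  have h := (pair_space hR hu hg).2 ![0, β, γ] ![x, W * γ, 1 - β] ?_ ?_ ?_ ?_
  · exact ⟨β, γ, hβ, hγ, by simpa [emb] using h⟩
  · simp [q3_apply]; linear_combination heq
  · simp [q3_apply]; linear_combination -hx + W * heq
  · simp [polar_q3, ev, h2, hW, hγ]
  · simp [polar_q3, ev, h2, W]; ring

/-- The support after shrinking. -/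
theorem supp_step {u : Fin n → F} {i j : Fin n} (hij : i ≠ j) (hj : u j ≠ 0) {β γ : F} (hβ : β ≠ 0) (hγ : γ ≠ 0) :
    supp (β • bv j + γ • (u - u i • bv i - u j • bv j)) = (supp u).erase i := by
  ext l
  rw [Finset.mem_erase, mem_supp, mem_supp]
  by_cases h1 : l = i
  · subst h1; simp [bv_ne hij]
  by_cases h2 : l = j
  · subst h2; simp [bv_ne h1, hβ, hj, h1]
  simp [bv_ne h1, bv_ne h2, hγ, h1]

omit hR in
/-- Two coordinates of the support which are not usable. -/
theorem bad_pair (h2 : (2 : F) ≠ 0) {u : Fin n → F} {i j : Fin n} (hij : i ≠ j) (hi : u i ≠ 0) (hj : u j ≠ 0)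
    (hb : ¬ GoodPair u i j) : u i * u i + u j * u j = 1 ∨ (4 * (u i * u i) = 1 ∧ 4 * (u j * u j) = 1) := by
  by_cases h : u i * u i + u j * u j = 1
  · exact Or.inl h
  refine Or.inr ?_
  have h1 : ¬ (2 * (1 - u i * u i - u j * u j) = 1 → u i * u j ≠ 0 ∧ u i * u i ≠ u j * u j) :=
    fun h' => hb ⟨hij, h, Or.inl hi, h'⟩
  simp only [Classical.not_imp, not_and_or, not_not, mul_eq_zero, hi, hj, or_self, false_or] at h1
  obtain ⟨hsum, heq⟩ := h1
  exact ⟨by linear_combination -hsum + (2 : F) * heq, by linear_combination -hsum - (2 : F) * heq⟩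

omit hR in
theorem good_distinct {u : Fin n → F} {i j : Fin n} (hij : i ≠ j) (hi : u i ≠ 0) (hj : u j ≠ 0)
    (hs : u i * u i + u j * u j ≠ 1) (hd : u i * u i ≠ u j * u j) : GoodPair u i j :=
  ⟨hij, hs, Or.inl hi, fun _ => ⟨mul_ne_zero hi hj, hd⟩⟩

/-- A root on three coordinates gives a triple. -/
theorem trip_three (h3 : (3 : F) ≠ 0) {u : Fin n → F} (hu : Root R u) (hS : (supp u).card = 3) :
    ∃ a b c, Trip R a b c := by
  have h2 := hR.two
  obtain ⟨a, b, c, hab, hac, hbc, heq⟩ := Finset.card_eq_three.1 hS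
  have hout : ∀ l, l ≠ a → l ≠ b → l ≠ c → u l = 0 := fun l h h' h'' => by
    by_contra hl
    have := mem_supp.2 hl
    rw [heq] at this
    simp [h, h', h''] at this
  have ha : u a ≠ 0 := mem_supp.1 (by rw [heq]; simp)
  have hb : u b ≠ 0 := mem_supp.1 (by rw [heq]; simp)
  have hc : u c ≠ 0 := mem_supp.1 (by rw [heq]; simp)
  have hsum : u a * u a + u b * u b + u c * u c = 1 := by
    rw [← hu.1, ← sum_supp, heq, Finset.sum_insert (by simp [hab, hac]), Finset.sum_pair hbc]; ring
  by_cases g1 : GoodPair u a b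
  · exact ⟨a, b, c, trip_of_pair hR hu g1 hac hbc hout⟩
  by_cases g2 : GoodPair u a c
  · exact ⟨a, c, b, trip_of_pair hR hu g2 hab hbc.symm fun l h h' h'' => hout l h h'' h'⟩
  exfalso
  rcases bad_pair h2 hab ha hb g1 with h | ⟨h, h'⟩
  · exact hc (mul_self_eq_zero.1 (by linear_combination hsum - h))
  rcases bad_pair h2 hac ha hc g2 with e | ⟨-, e⟩
  · exact hb (mul_self_eq_zero.1 (by linear_combination hsum - e))
  exact one_ne_zero (α := F) (by linear_combination h + h' + e - 4 * hsum)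

omit hR in
/-- Without a good pair the squares are all quarters, all halves, or one three-quarters among quarters. -/
theorem bad_shape (h2 : (2 : F) ≠ 0) {u : Fin n → F} (hk : 3 ≤ (supp u).card)
    (hb : ∀ i ∈ supp u, ∀ j ∈ supp u, ¬ GoodPair u i j) :
    (∀ l ∈ supp u, 4 * (u l * u l) = 1) ∨ (∀ l ∈ supp u, 2 * (u l * u l) = 1) ∨
      ∃ a ∈ supp u, 4 * (u a * u a) = 3 ∧ ∀ l ∈ supp u, l ≠ a → 4 * (u l * u l) = 1 := by
  have pair : ∀ i ∈ supp u, ∀ j ∈ supp u, i ≠ j →
      u i * u i + u j * u j = 1 ∨ (4 * (u i * u i) = 1 ∧ 4 * (u j * u j) = 1) :=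
    fun i hi j hj hij => bad_pair h2 hij (mem_supp.1 hi) (mem_supp.1 hj) (hb i hi j hj)
  by_cases hq : ∀ l ∈ supp u, 4 * (u l * u l) = 1
  · exact Or.inl hq
  push Not at hq
  obtain ⟨a, ha, hqa⟩ := hq
  have sa : ∀ l ∈ supp u, l ≠ a → u a * u a + u l * u l = 1 := fun l hl hla =>
    (pair a ha l hl hla.symm).resolve_right fun h => hqa h.1
  by_cases hone : ∀ l ∈ supp u, l ≠ a → 4 * (u l * u l) = 1
  · obtain ⟨c, hc, hca⟩ : ∃ c ∈ supp u, c ∉ ({a} : Finset (Fin n)) :=
      Finset.exists_mem_notMem_of_card_lt_card (by rw [Finset.card_singleton]; omega)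
    rw [Finset.mem_singleton] at hca
    refine Or.inr (Or.inr ⟨a, ha, ?_, hone⟩)
    linear_combination 4 * sa c hc hca - hone c hc hca
  push Not at hone
  obtain ⟨b, hbS, hba, hqb⟩ := hone
  have h1 := sa b hbS hba
  refine Or.inr (Or.inl ?_)
  have key : ∀ c ∈ supp u, c ≠ a → c ≠ b → 2 * (u a * u a) = 1 := by
    intro c hc hca hcb
    have h1' := sa c hc hca
    have h1'' := (pair b hbS c hc hcb.symm).resolve_right fun h => hqb h.1
    linear_combination h1 + h1' - h1''
  obtain ⟨c, hc, hc'⟩ : ∃ c ∈ supp u, c ∉ ({a, b} : Finset (Fin n)) :=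
    Finset.exists_mem_notMem_of_card_lt_card (Finset.card_le_two.trans_lt (by omega))
  simp only [Finset.mem_insert, Finset.mem_singleton, not_or] at hc'
  have hA := key c hc hc'.1 hc'.2
  intro l hl
  by_cases hla : l = a
  · rw [hla]; exact hA
  · linear_combination 2 * sa l hl hla - hA

omit hR in
/-- The sum of the squares when all squares on the support are equal. -/
theorem sum_const_sq {u : Fin n → F} (hu : u ⬝ᵥ u = 1) {c d : F} (h : ∀ l ∈ supp u, c * (u l * u l) = d) :
    ((supp u).card : F) * d = c := by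
  have e : c * ∑ l ∈ supp u, u l * u l = c := by rw [sum_supp, hu, mul_one]
  rw [Finset.mul_sum, Finset.sum_congr rfl h, Finset.sum_const, nsmul_eq_mul] at e
  exact e

/-- Reflecting a vector with four flipped quarters, or two flipped halves. -/
theorem flip_root {u : Fin n → F} (hu : Root R u) (T : Finset (Fin n)) (hT : ∑ l ∈ T, u l * u l = 1) :
    Root R (fl T u + (2 : F) • u) := by
  have := hu.reflect hR (hu.flip hR T)
  rwa [dot_fl, hu.1, hT, show (2 : F) * (1 - 2 * 1) = -2 by ring, neg_smul, sub_neg_eq_add] at this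

omit hR in
theorem supp_flip (h3 : (3 : F) ≠ 0) (u : Fin n → F) (T : Finset (Fin n)) :
    supp (fl T u + (2 : F) • u) = supp u := by
  ext l
  rw [mem_supp, mem_supp, Pi.add_apply, Pi.smul_apply, smul_eq_mul, fl]
  split_ifs
  · rw [show -u l + 2 * u l = u l by ring]
  · rw [show u l + 2 * u l = 3 * u l by ring]; simp [h3]

/-- Four equal quarters: a root on five coordinates. -/
theorem four_quarters {u : Fin n → F} (hu : Root R u) {a b c d e : Fin n}
    (hsupp : supp u = {a, b, c, d}) (hne : [a, b, c, d, e].Nodup) (hq : ∀ l ∈ supp u, 4 * (u l * u l) = 1) :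
    ∃ v : Fin n → F, Root R v ∧ 16 * (v a * v a) = 1 ∧ 16 * (v b * v b) = 1 ∧ 16 * (v c * v c) = 1 ∧
      16 * (v d * v d) = 9 ∧ 4 * (v e * v e) = 1 ∧ ∀ l, l ≠ a → l ≠ b → l ≠ c → l ≠ d → l ≠ e → v l = 0 := by
  simp only [List.nodup_cons, List.mem_cons, List.not_mem_nil, or_false, not_or, List.nodup_nil, and_true,
    not_false_eq_true] at hne
  obtain ⟨⟨hab, hac, had, hae⟩, ⟨hbc, hbd, hbe⟩, ⟨hcd, hce⟩, hde⟩ := hne
  have hmem : ∀ l ∈ ({a, b, c, d} : Finset (Fin n)), 4 * (u l * u l) = 1 := fun l hl => hq l (hsupp ▸ hl)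
  have hout : ∀ l, l ≠ a → l ≠ b → l ≠ c → l ≠ d → u l = 0 := fun l h1 h1' h3 h4 => by
    by_contra hl
    have := mem_supp.2 hl
    rw [hsupp] at this
    simp [h1, h1', h3, h4] at this
  have h2 := hR.two
  have hue : u e = 0 := hout e (Ne.symm hae) (Ne.symm hbe) (Ne.symm hce) (Ne.symm hde)
  set v := u ∘ Equiv.swap d e with hv
  have hdot : 4 * (v ⬝ᵥ u) = 3 := by
    have h1 : v ⬝ᵥ u = u a * u a + u b * u b + u c * u c := by
      rw [dotProduct, ← Finset.sum_subset (Finset.subset_univ {a, b, c}) fun l _ hl => ?_]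
      · rw [Finset.sum_insert (by simp [hab, hac]), Finset.sum_pair hbc]
        simp [hv, Equiv.swap_apply_of_ne_of_ne, had, hae, hbd, hbe, hcd, hce]; ring
      · simp at hl
        by_cases hld : l = d
        · subst hld; simp [hv, hue]
        · simp [hout l hl.1 hl.2.1 hl.2.2 hld]
    rw [h1]
    linear_combination hmem a (by simp) + hmem b (by simp) + hmem c (by simp)
  refine ⟨v - (2 * (v ⬝ᵥ u)) • u, hu.reflect hR (hu.swap hR hde), ?_, ?_, ?_, ?_, ?_, fun l h1 h1' h3 h4 h5 => ?_⟩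
  all_goals simp only [Pi.sub_apply, Pi.smul_apply, smul_eq_mul, hv, Function.comp_apply]
  all_goals simp only [← hv]
  all_goals simp [hv, Equiv.swap_apply_of_ne_of_ne, had, hae, hbd, hbe, hcd, hce, hue]
  · linear_combination hmem a (by simp) + (4 * (u a * u a)) * (4 * ((u ∘ Equiv.swap d e) ⬝ᵥ u) - 1) * hdot
  · linear_combination hmem b (by simp) + (4 * (u b * u b)) * (4 * ((u ∘ Equiv.swap d e) ⬝ᵥ u) - 1) * hdot
  · linear_combination hmem c (by simp) + (4 * (u c * u c)) * (4 * ((u ∘ Equiv.swap d e) ⬝ᵥ u) - 1) * hdot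
  · linear_combination 9 * hmem d (by simp) + (4 * (u d * u d)) * (4 * ((u ∘ Equiv.swap d e) ⬝ᵥ u) + 3) * hdot
  · linear_combination hmem d (by simp)
  · simp [Equiv.swap_apply_of_ne_of_ne, h4, h5, hout l h1 h1' h3 h4]

/-- Four coordinates, not all quarters. -/
theorem trip_four_mixed (h3 : (3 : F) ≠ 0) (h5 : (5 : F) ≠ 0) {u : Fin n → F} (hu : Root R u)
    (hS : (supp u).card = 4) {a : Fin n} (ha : a ∈ supp u) (hqa : 4 * (u a * u a) ≠ 1) :
    ∃ a b c, Trip R a b c := by
  have h2 := hR.two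
  by_cases hg : ∀ i ∈ supp u, ∀ j ∈ supp u, ¬ GoodPair u i j
  · exfalso
    rcases bad_shape h2 (by omega) hg with h | h | ⟨b, hb, hbb, h⟩
    · exact hqa (h a ha)
    · have := sum_const_sq hu.1 h
      rw [hS] at this
      exact h2 (by push_cast at this; linear_combination this)
    · have e : 4 * ∑ l ∈ supp u, u l * u l = 4 := by rw [sum_supp, hu.1, mul_one]
      rw [Finset.mul_sum, ← Finset.add_sum_erase _ _ hb, hbb,
        Finset.sum_congr rfl fun l hl => h l (Finset.mem_of_mem_erase hl) (Finset.ne_of_mem_erase hl),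
        Finset.sum_const, Finset.card_erase_of_mem hb, hS] at e
      exact h2 (by simp at e; linear_combination e)
  push Not at hg
  obtain ⟨i, hi, j, hj, hg⟩ := hg
  obtain ⟨β, γ, hβ, hγ, hy⟩ := good_step hR h3 h5 hu hg
  exact trip_three hR h3 hy (by rw [supp_step hR hg.1 (mem_supp.1 hj) hβ hγ, Finset.card_erase_of_mem hi, hS])

theorem trip_four (h3 : (3 : F) ≠ 0) (h5 : (5 : F) ≠ 0) {u : Fin n → F} (hu : Root R u) (hS : (supp u).card = 4) :
    ∃ a b c, Trip R a b c := by
  have h2 := hR.two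
  by_cases hq : ∀ l ∈ supp u, 4 * (u l * u l) = 1
  swap
  · push Not at hq
    obtain ⟨a, ha, hqa⟩ := hq
    exact trip_four_mixed hR h3 h5 hu hS ha hqa
  obtain ⟨a, b, c, d, hab, hac, had, hbc, hbd, hcd, heq⟩ := Finset.card_eq_four.1 hS
  obtain ⟨e, -, he⟩ : ∃ e ∈ Finset.univ, e ∉ supp u :=
    Finset.exists_mem_notMem_of_card_lt_card (by simp [hS]; linarith [hR.big])
  rw [heq] at he
  simp only [Finset.mem_insert, Finset.mem_singleton, not_or] at he
  obtain ⟨hea, heb, hec, hed⟩ := he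
  obtain ⟨v, hv, va, vb, vc, vd, ve, v0⟩ := four_quarters hR hu (e := e) heq
    (by simp [hab, hac, had, hbc, hbd, hcd, Ne.symm hea, Ne.symm heb, Ne.symm hec, Ne.symm hed]) hq
  have h16 : (16 : F) ≠ 0 := by
    rw [show (16 : F) = 2 * 2 * (2 * 2) by norm_num]; exact mul_ne_zero (mul_ne_zero h2 h2) (mul_ne_zero h2 h2)
  have na : v a ≠ 0 := fun h => by simp [h] at va
  have nb : v b ≠ 0 := fun h => by simp [h] at vb
  have nc : v c ≠ 0 := fun h => by simp [h] at vc
  have ne' : v e ≠ 0 := fun h => by simp [h] at ve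
  have nd : v d ≠ 0 := fun h => mul_ne_zero h3 h3 (by rw [h] at vd; linear_combination -vd)
  have hg : GoodPair v d a := good_distinct had.symm nd na
    (fun h => mul_ne_zero h2 h3 (by linear_combination vd + va - 16 * h))
    (fun h => mul_ne_zero h2 (mul_ne_zero h2 h2) (by linear_combination va - vd + 16 * h))
  obtain ⟨β, γ, hβ, hγ, hy⟩ := good_step hR h3 h5 hv hg
  have hsupp : supp v = {a, b, c, d, e} := by
    ext l
    simp only [mem_supp, Finset.mem_insert, Finset.mem_singleton]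
    constructor
    · intro hl; by_contra h; push Not at h; exact hl (v0 l h.1 h.2.1 h.2.2.1 h.2.2.2.1 h.2.2.2.2)
    · rintro (rfl | rfl | rfl | rfl | rfl) <;> assumption
  have hys := supp_step hR hg.1 na (γ := γ) hβ hγ
  have hc4 : (supp (β • bv a + γ • (v - v d • bv d - v a • bv a))).card = 4 := by
    rw [hys, hsupp, Finset.card_erase_of_mem (by simp),
      Finset.card_insert_of_notMem (by simp [hab, hac, had, Ne.symm hea]),
      Finset.card_insert_of_notMem (by simp [hbc, hbd, Ne.symm heb]),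
      Finset.card_insert_of_notMem (by simp [hcd, Ne.symm hec]),
      Finset.card_pair (Ne.symm hed)]
  set y := β • bv a + γ • (v - v d • bv d - v a • bv a) with hy'
  have yb : y b = γ * v b := by simp [hy', bv_ne hab.symm, bv_ne hbd]
  have ye : y e = γ * v e := by simp [hy', bv_ne hea, bv_ne hed]
  by_cases hqb : 4 * (y b * y b) = 1
  · refine trip_four_mixed hR h3 h5 hy hc4 (a := e) (mem_supp.2 (by rw [ye]; exact mul_ne_zero hγ ne')) fun hqe => ?_
    rw [yb] at hqb; rw [ye] at hqe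
    exact mul_ne_zero h3 (mul_ne_zero hγ hγ)
      (by linear_combination (4 : F) * hqe - 4 * hqb - 4 * γ * γ * ve + γ * γ * vb)
  · exact trip_four_mixed hR h3 h5 hy hc4 (mem_supp.2 (by rw [yb]; exact mul_ne_zero hγ nb)) hqb

/-- Any root on at least three coordinates gives a triple. -/
theorem trip_of_many (h3 : (3 : F) ≠ 0) (h5 : (5 : F) ≠ 0) :
    ∀ (k : ℕ) {u : Fin n → F}, Root R u → (supp u).card = k → 3 ≤ k → ∃ a b c, Trip R a b c := by
  have h2 := hR.two
  intro k
  induction k using Nat.strong_induction_on with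
  | _ k ih =>
    intro u hu hS hk
    rcases Nat.lt_or_ge k 4 with h | h
    · exact trip_three hR h3 hu (by omega)
    rcases Nat.lt_or_ge k 5 with h' | h'
    · exact trip_four hR h3 h5 hu (by omega)
    have step : ∀ {v : Fin n → F}, Root R v → supp v = supp u → ∀ i ∈ supp v, ∀ j ∈ supp v, GoodPair v i j →
        ∃ a b c, Trip R a b c := by
      intro v hv hvS i hi j hj hg
      obtain ⟨β, γ, hβ, hγ, hy⟩ := good_step hR h3 h5 hv hg
      refine ih (k - 1) (by omega) hy ?_ (by omega)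
      rw [supp_step hR hg.1 (mem_supp.1 hj) hβ hγ, Finset.card_erase_of_mem hi, hvS, hS]
    by_cases hg : ∀ i ∈ supp u, ∀ j ∈ supp u, ¬ GoodPair u i j
    swap
    · push Not at hg
      obtain ⟨i, hi, j, hj, hg⟩ := hg
      exact step hu rfl i hi j hj hg
    have quarters : ∀ A : Finset (Fin n), A ⊆ supp u → 5 ≤ A.card → (∀ l ∈ A, 4 * (u l * u l) = 1) →
        ∃ a b c, Trip R a b c := by
      intro A hA hA5 hq
      obtain ⟨T, hTA, hT⟩ := Finset.exists_subset_card_eq (s := A) (n := 4) (by omega)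
      obtain ⟨c, hc, hcT⟩ : ∃ c ∈ A, c ∉ T := Finset.exists_mem_notMem_of_card_lt_card (by omega)
      obtain ⟨f, hf⟩ := Finset.card_pos.1 (show 0 < T.card by omega)
      have hT1 : ∑ l ∈ T, u l * u l = 1 := by
        have e : 4 * ∑ l ∈ T, u l * u l = 4 := by
          rw [Finset.mul_sum, Finset.sum_congr rfl fun l hl => hq l (hTA hl), Finset.sum_const, hT]; simp
        exact mul_left_cancel₀ (show (4 : F) ≠ 0 by
          rw [show (4 : F) = 2 * 2 by norm_num]; exact mul_ne_zero h2 h2) (by rw [e, mul_one])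
      set v := fl T u + (2 : F) • u with hv
      have hvS := supp_flip h3 u T
      have vf : v f = u f := by simp [hv, fl, hf]; ring
      have vc : v c = 3 * u c := by simp [hv, fl, hcT]; ring
      have hcu := mem_supp.1 (hA hc)
      have hfu := mem_supp.1 (hA (hTA hf))
      refine step (flip_root hR hu T hT1) hvS f (by rw [hvS]; exact hA (hTA hf)) c (by rw [hvS]; exact hA hc)
        (good_distinct (u := v) (fun e => hcT (e ▸ hf)) (by rw [vf]; exact hfu) (by rw [vc]; exact mul_ne_zero h3 hcu) ?_ ?_)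
      · rw [vf, vc]; intro e
        exact mul_ne_zero h2 h3 (by linear_combination 4 * e - hq f (hTA hf) - 9 * hq c hc)
      · rw [vf, vc]; intro e
        exact mul_ne_zero h2 (mul_ne_zero h2 h2) (by linear_combination hq f (hTA hf) - 9 * hq c hc - 4 * e)
    rcases bad_shape h2 (by omega) hg with hq | hh | ⟨a, ha, haa, hq⟩
    · exact quarters (supp u) subset_rfl (by omega) hq
    · obtain ⟨x, hx, y, hy, hxy⟩ := Finset.one_lt_card.1 (show 1 < (supp u).card by omega)
      obtain ⟨c, hc, hc'⟩ : ∃ c ∈ supp u, c ∉ ({x, y} : Finset (Fin n)) :=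
        Finset.exists_mem_notMem_of_card_lt_card (Finset.card_le_two.trans_lt (by omega))
      simp only [Finset.mem_insert, Finset.mem_singleton, not_or] at hc'
      have hT1 : ∑ l ∈ ({x, y} : Finset (Fin n)), u l * u l = 1 := by
        rw [Finset.sum_pair hxy]
        exact mul_left_cancel₀ h2 (by linear_combination hh x hx + hh y hy)
      set v := fl {x, y} u + (2 : F) • u with hv
      have hvS := supp_flip h3 u {x, y}
      have vx : v x = u x := by simp [hv, fl]; ring
      have vc : v c = 3 * u c := by simp [hv, fl, hc'.1, hc'.2]; ring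
      refine step (flip_root hR hu _ hT1) hvS x (by rw [hvS]; exact hx) c (by rw [hvS]; exact hc)
        (good_distinct (u := v) (Ne.symm hc'.1) (by rw [vx]; exact mem_supp.1 hx)
          (by rw [vc]; exact mul_ne_zero h3 (mem_supp.1 hc)) ?_ ?_)
      · rw [vx, vc]; intro e
        exact mul_ne_zero (mul_ne_zero h2 h2) h2 (by linear_combination 2 * e - hh x hx - 9 * hh c hc)
      · rw [vx, vc]; intro e
        exact mul_ne_zero h2 (mul_ne_zero h2 h2) (by linear_combination hh x hx - 9 * hh c hc - 2 * e)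
    · refine quarters ((supp u).erase a) (Finset.erase_subset _ _) ?_
        fun l hl => hq l (Finset.mem_of_mem_erase hl) (Finset.ne_of_mem_erase hl)
      rw [Finset.card_erase_of_mem ha, hS]
      by_contra hlt
      have hk5 : k = 5 := by omega
      have e : 4 * ∑ l ∈ supp u, u l * u l = 4 := by rw [sum_supp, hu.1, mul_one]
      rw [Finset.mul_sum, ← Finset.add_sum_erase _ _ ha, haa,
        Finset.sum_congr rfl fun l hl => hq l (Finset.mem_of_mem_erase hl) (Finset.ne_of_mem_erase hl),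
        Finset.sum_const, Finset.card_erase_of_mem ha, hS, hk5] at e
      exact h3 (by simp at e; linear_combination e)

/-- A root with two unequal squares on two coordinates gives a triple. -/
theorem trip_two {u : Fin n → F} (hu : Root R u) {i j l : Fin n} (hij : i ≠ j) (hil : i ≠ l) (hjl : j ≠ l)
    (hi : u i ≠ 0) (hj : u j ≠ 0) (hout : ∀ c, c ≠ i → c ≠ j → u c = 0) (hne : u i * u i ≠ u j * u j) :
    Trip R i l j := by
  have hsum : u i * u i + u j * u j = 1 := by
    rw [← hu.1, ← sum_supp, show supp u = {i, j} from ?_, Finset.sum_pair hij]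
    ext c
    simp only [mem_supp, Finset.mem_insert, Finset.mem_singleton]
    exact ⟨fun h => by by_contra h'; push Not at h'; exact h (hout c h'.1 h'.2),
      by rintro (rfl | rfl) <;> assumption⟩
  have hl : u l = 0 := hout l hil.symm hjl.symm
  refine trip_of_pair hR hu ⟨hil, ?_, Or.inl hi, ?_⟩ hij hjl.symm fun c h h' h'' => hout c h h''
  · rw [hl]; intro h
    exact hj (mul_self_eq_zero.1 (by linear_combination hsum - h))
  · rw [hl]; intro h
    exact absurd (by linear_combination -h - hsum) hne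

end CfsgLib.OrthFrame
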