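import Cfsg.Agent.Lib.OrthFrame.Seed

/-!
Root reflections normalise a minimal non-monomial overgroup of the monomial group.
-/

set_option autoImplicit false
set_option linter.unusedSectionVars false
set_option maxHeartbeats 1000000

open scoped Classical

namespace CfsgLib.OrthFrame

open QuadraticMap CfsgLib.Geometry

variable {F : Type*} [Field F] [Finite F] {n : ℕ}

theorem InP.dot_eq {p q v d : Fin n → F} (h : InP p q v) (hp : d ⬝ᵥ p = 0) (hq : d ⬝ᵥ q = 0) :
    d ⬝ᵥ v = 0 := by
  obtain ⟨a, b, rfl⟩ := h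
  simp [dotProduct_add, dotProduct_smul, hp, hq]

theorem InP.add {p q v w : Fin n → F} (hv : InP p q v) (hw : InP p q w) : InP p q (v + w) := by
  obtain ⟨a, b, rfl⟩ := hv
  obtain ⟨c, d, rfl⟩ := hw
  exact ⟨a + c, b + d, by module⟩

theorem InP.smul {p q v : Fin n → F} (hv : InP p q v) (t : F) : InP p q (t • v) := by
  obtain ⟨a, b, rfl⟩ := hv
  exact ⟨t * a, t * b, by module⟩

theorem InP.sub {p q v w : Fin n → F} (hv : InP p q v) (hw : InP p q w) : InP p q (v - w) := by
  obtain ⟨a, b, rfl⟩ := hv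
  obtain ⟨c, d, rfl⟩ := hw
  exact ⟨a - c, b - d, by module⟩

theorem inP_left (p q : Fin n → F) : InP p q p := ⟨1, 0, by simp⟩

theorem inP_right (p q : Fin n → F) : InP p q q := ⟨0, 1, by simp⟩

/-- The columns `i`, `j` agree up to sign. -/
def Rel' (p q : Fin n → F) (i j : Fin n) : Prop := ∃ e : F, e * e = 1 ∧ p j = e * p i ∧ q j = e * q i

theorem Rel'.symm {p q : Fin n → F} {i j : Fin n} (h : Rel' p q i j) : Rel' p q j i := by
  obtain ⟨e, he, hp, hq⟩ := h
  exact ⟨e, he, by rw [hp, ← mul_assoc, he, one_mul], by rw [hq, ← mul_assoc, he, one_mul]⟩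

theorem Rel'.trans {p q : Fin n → F} {i j k : Fin n} (h : Rel' p q i j) (h' : Rel' p q j k) : Rel' p q i k := by
  obtain ⟨e, he, hp, hq⟩ := h
  obtain ⟨f, hf, hp', hq'⟩ := h'
  exact ⟨f * e, by linear_combination e * e * hf + he, by rw [hp', hp, mul_assoc], by rw [hq', hq, mul_assoc]⟩

namespace Plane

variable {N : Subgroup ((Fin n → F) ≃ₗ[F] (Fin n → F))} {p q : Fin n → F}

theorem eq_zero_of_perp (P : Plane N p q) {v : Fin n → F} (hv : InP p q v) (hp : v ⬝ᵥ p = 0) (hq : v ⬝ᵥ q = 0) :
    v = 0 := by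
  obtain ⟨a, b, rfl⟩ := hv
  simp [add_dotProduct, smul_dotProduct, P.pq, dotProduct_comm q p, P.pp, P.qq] at hp hq
  simp [hp, hq]

/-- Two vectors of the plane vanishing at a non-zero column are proportional. -/
theorem prop_of_zero (P : Plane N p q) {w v : Fin n → F} (hw : InP p q w) (hv : InP p q v) (hw0 : w ≠ 0)
    {j : Fin n} (hj : ¬ (p j = 0 ∧ q j = 0)) (hwj : w j = 0) (hvj : v j = 0) : ∃ c : F, v = c • w := by
  obtain ⟨a, b, rfl⟩ := hw
  obtain ⟨c, d, rfl⟩ := hv
  simp only [Pi.add_apply, Pi.smul_apply, smul_eq_mul] at hwj hvj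
  have hdet : a * d - b * c = 0 := by
    by_contra h
    exact hj ⟨(mul_eq_zero.1 (show (a * d - b * c) * p j = 0 by linear_combination d * hwj - b * hvj)).resolve_left h,
      (mul_eq_zero.1 (show (a * d - b * c) * q j = 0 by linear_combination a * hvj - c * hwj)).resolve_left h⟩
  by_cases ha : a = 0
  · have hb : b ≠ 0 := fun hb => hw0 (by simp [ha, hb])
    have hc : c = 0 := by
      rw [ha, zero_mul, zero_sub, neg_eq_zero, mul_eq_zero] at hdet
      exact hdet.resolve_left hb
    exact ⟨d / b, by rw [ha, hc]; simp [smul_smul, hb]⟩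
  · refine ⟨c / a, ?_⟩
    rw [smul_add, smul_smul, smul_smul, div_mul_cancel₀ c ha,
      show c / a * b = d by field_simp; linear_combination -hdet]

/-- Another vector of the plane, orthogonal to a given non-singular one. -/
theorem exists_other (P : Plane N p q) {w : Fin n → F} (hw : InP p q w) (hw0 : w ≠ 0) :
    ∃ v, InP p q v ∧ v ≠ 0 ∧ w ⬝ᵥ v = 0 := by
  obtain ⟨a, b, rfl⟩ := hw
  refine ⟨(b * (q ⬝ᵥ q)) • p + (-(a * (p ⬝ᵥ p))) • q, ⟨_, _, rfl⟩, ?_, ?_⟩
  · intro h
    have h1 := congrArg (fun v => p ⬝ᵥ v) h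
    have h2 := congrArg (fun v => q ⬝ᵥ v) h
    simp [dotProduct_add, dotProduct_smul, P.pq, dotProduct_comm q p, P.pp, P.qq] at h1 h2
    exact hw0 (by simp [h1, h2])
  · simp [add_dotProduct, dotProduct_add, smul_dotProduct, dotProduct_smul, P.pq, dotProduct_comm q p]
    ring

theorem fix_perp_root (P : Plane N p q) {ρ : Fin n → F} (hp : ρ ⬝ᵥ p = 0) (hq : ρ ⬝ᵥ q = 0) :
    Fix (rf p * rf q) ρ := Or.inl (P.fix_of_perp hp hq)

theorem fix_inP_root (P : Plane N p q) {ρ : Fin n → F} (h : InP p q ρ) : Fix (rf p * rf q) ρ :=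
  Or.inr (P.neg_of_inP h)

theorem fix_zero_col (P : Plane N p q) {j : Fin n} (h : p j = 0 ∧ q j = 0) : (rf p * rf q) (bv j) = bv j :=
  P.fix_of_perp (by rw [bv_dot]; exact h.1) (by rw [bv_dot]; exact h.2)

/-- Vectors with disjoint supports in the plane. -/
theorem goodA_of_disjoint (C : Ctx N) (P : Plane N p q) {u v : Fin n → F} (hu : InP p q u) (hv : InP p q v)
    (hu0 : u ≠ 0) (hdis : ∀ c, u c = 0 ∨ v c = 0) {S : Finset (Fin n)} (hS : 5 ≤ S.card) (hSv : ∀ c ∈ S, v c ≠ 0) :
    GoodA N := by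
  have h2 := C.two
  obtain ⟨l, hl, j, hj, hlj⟩ := Finset.one_lt_card.1 (show 1 < S.card by omega)
  obtain ⟨k, hk, hk'⟩ : ∃ k ∈ S, k ∉ ({l, j} : Finset (Fin n)) :=
    Finset.exists_mem_notMem_of_card_lt_card (Finset.card_le_two.trans_lt (by omega))
  simp only [Finset.mem_insert, Finset.mem_singleton, not_or] at hk'
  have huv : u ⬝ᵥ v = 0 := Finset.sum_eq_zero fun c _ => by rcases hdis c with h | h <;> simp [h]
  have hv0 : v ≠ 0 := fun h => hSv l hl (by simp [h])
  have hspan : ∀ w, InP p q w → w ⬝ᵥ u = 0 → w ⬝ᵥ v = 0 → w = 0 := by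
    intro w hw h1 h3
    obtain ⟨a, b, rfl⟩ := hu
    obtain ⟨c, d, rfl⟩ := hv
    simp [dotProduct_add, dotProduct_smul] at h1 h3
    have hdet : a * d - b * c ≠ 0 := by
      intro h
      obtain ⟨i, hi⟩ : ∃ i, (a • p + b • q) i ≠ 0 := by
        by_contra hc; push Not at hc; exact hu0 (funext hc)
      have hvi : (c • p + d • q) i = 0 := (hdis i).resolve_left hi
      simp only [Pi.add_apply, Pi.smul_apply, smul_eq_mul] at hi hvi
      refine hv0 (funext fun e => ?_)
      have h1 : ∀ t, c * (a * p t + b * q t) = a * (c * p t + d * q t) := fun t => by linear_combination -(q t) * h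
      have h2' : ∀ t, d * (a * p t + b * q t) = b * (c * p t + d * q t) := fun t => by linear_combination (p t) * h
      have hc0 : c = 0 := by
        have := h1 i; rw [hvi, mul_zero] at this; exact (mul_eq_zero.1 this).resolve_right hi
      have hd0 : d = 0 := by
        have := h2' i; rw [hvi, mul_zero] at this; exact (mul_eq_zero.1 this).resolve_right hi
      simp [hc0, hd0]
    exact P.eq_zero_of_perp hw
      ((mul_eq_zero.1 (show (a * d - b * c) * (w ⬝ᵥ p) = 0 by linear_combination d * h1 - b * h3)).resolve_left hdet)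
      ((mul_eq_zero.1 (show (a * d - b * c) * (w ⬝ᵥ q) = 0 by linear_combination a * h3 - c * h1)).resolve_left hdet)
  have huu : u ⬝ᵥ u ≠ 0 := fun h => hu0 (hspan u hu h huv)
  have hvv : v ⬝ᵥ v ≠ 0 := fun h => hv0 (hspan v hv (by rwa [dotProduct_comm]) h)
  set s := rf p * rf q with hs
  have hso : s ∈ orth (qf n F) := mul_mem (rf_mem_orth _) (rf_mem_orth _)
  have hs' : s = rf u * rf v := by
    refine LinearEquiv.ext fun x => sub_eq_zero.1 (hspan _ ?_ ?_ ?_)
    · have h1 : InP p q ((x - (rf u * rf v) x)) := by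
        rw [LinearEquiv.mul_apply, rf_apply huu, rf_apply hvv,
          show x - (x - ((v ⬝ᵥ v)⁻¹ * (2 * (x ⬝ᵥ v))) • v -
            ((u ⬝ᵥ u)⁻¹ * (2 * ((x - ((v ⬝ᵥ v)⁻¹ * (2 * (x ⬝ᵥ v))) • v) ⬝ᵥ u))) • u) =
            ((v ⬝ᵥ v)⁻¹ * (2 * (x ⬝ᵥ v))) • v +
            ((u ⬝ᵥ u)⁻¹ * (2 * ((x - ((v ⬝ᵥ v)⁻¹ * (2 * (x ⬝ᵥ v))) • v) ⬝ᵥ u))) • u by abel]
        exact (hv.smul _).add (hu.smul _)
      have := h1.sub (P.sub_inP x)
      rwa [sub_sub_sub_cancel_left] at this
    · have e1 : s x ⬝ᵥ u = -(x ⬝ᵥ u) := by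
        have := dot_orth h2 hso x u
        rw [show s u = -u from P.neg_of_inP hu, dotProduct_neg] at this
        linear_combination -this
      have hro : rf u * rf v ∈ orth (qf n F) := mul_mem (rf_mem_orth _) (rf_mem_orth _)
      have e2 : (rf u * rf v) x ⬝ᵥ u = -(x ⬝ᵥ u) := by
        have := dot_orth h2 hro x u
        rw [LinearEquiv.mul_apply _ _ u, rf_fix (x := u) huv, rf_self_neg huu, dotProduct_neg] at this
        linear_combination -this
      rw [sub_dotProduct, e1, e2, sub_self]
    · have e1 : s x ⬝ᵥ v = -(x ⬝ᵥ v) := by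
        have := dot_orth h2 hso x v
        rw [show s v = -v from P.neg_of_inP hv, dotProduct_neg] at this
        linear_combination -this
      have hro : rf u * rf v ∈ orth (qf n F) := mul_mem (rf_mem_orth _) (rf_mem_orth _)
      have e2 : (rf u * rf v) x ⬝ᵥ v = -(x ⬝ᵥ v) := by
        have := dot_orth h2 hro x v
        rw [LinearEquiv.mul_apply _ _ v, rf_self_neg hvv, map_neg, rf_fix (x := v) (by rwa [dotProduct_comm]),
          dotProduct_neg] at this
        linear_combination -this
      rw [sub_dotProduct, e1, e2, sub_self]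
  -- flip two coordinates of `v`
  set h := rf (bv j : Fin n → F) * rf (bv k) with hh'
  have hhN : h ∈ N := C.pair_mem ⟨j, Or.inl rfl⟩ ⟨k, Or.inl rfl⟩ (by simp)
  have hho := C.mem_orth hhN
  have hjk : k ≠ j := hk'.2
  have hcoord : ∀ (x : Fin n → F) c, h x c = if c = j ∨ c = k then -x c else x c := by
    intro x c
    rw [LinearEquiv.mul_apply, rf_apply (by simp), rf_apply (by simp)]
    simp only [dot_bv, bv_self, inv_one, one_mul, Pi.sub_apply, Pi.smul_apply, smul_eq_mul]
    by_cases hc : c = j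
    · subst hc; simp [bv_ne hjk.symm]; ring
    · by_cases hc' : c = k
      · subst hc'; simp [bv_ne hc, bv_ne hjk.symm]; ring
      · simp [bv_ne hc, bv_ne hc', hc, hc']
  have hhu : h u = u := funext fun c => by
    rw [hcoord]
    split_ifs with hc
    · rcases hc with rfl | rfl
      · simp [(hdis c).resolve_right (hSv c hj)]
      · simp [(hdis c).resolve_right (hSv c hk)]
    · rfl
  have huhv : u ⬝ᵥ h v = 0 := Finset.sum_eq_zero fun c _ => by
    rw [hcoord]; rcases hdis c with e | e <;> simp [e]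
  set y := rf v * rf (h v) with hy
  have hyN : y ∈ N := by
    have hsN : s ∈ N := P.mem
    have := mul_mem hsN (mul_mem (mul_mem hhN hsN) (inv_mem hhN))
    rw [hs', show h * (rf u * rf v) * h⁻¹ = (h * rf u * h⁻¹) * (h * rf v * h⁻¹) by group, rf_conj hho, rf_conj hho,
      hhu, rf_comm huv, show rf v * rf u * (rf u * rf (h v)) = rf v * (rf u * rf u) * rf (h v) by group,
      rf_mul_self, mul_one] at this
    exact this
  have hhv : h v ⬝ᵥ h v ≠ 0 := by rw [dot_orth_self hho]; exact hvv
  obtain ⟨a, ha⟩ : ∃ a, u a ≠ 0 := by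
    by_contra hc; push Not at hc; exact hu0 (funext hc)
  have hva : v a = 0 := (hdis a).resolve_left ha
  have hya : y (bv a) = bv a := by
    rw [hy, LinearEquiv.mul_apply, rf_fix (x := bv a) (by rw [bv_dot, hcoord, hva]; simp), rf_fix (by rw [bv_dot]; exact hva)]
  refine ⟨y, hyN, fun hm => ?_, a, Or.inl hya⟩
  obtain ⟨J, hJ, hJfix⟩ := mono_moved h2 (C.mem_orth hyN) hm (v := v) (w := h v) (fun x =>
    ⟨(v ⬝ᵥ v)⁻¹ * (2 * (rf (h v) x ⬝ᵥ v)), (h v ⬝ᵥ h v)⁻¹ * (2 * (x ⬝ᵥ h v)), by
      rw [hy, LinearEquiv.mul_apply, rf_apply hvv, rf_apply hhv]; abel⟩)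
  set x : Fin n → F := v l • bv j + v j • bv l with hx
  have hlk : l ≠ k := Ne.symm hk'.1
  have hxh : x ⬝ᵥ h v = 0 := by
    rw [hx, add_dotProduct, smul_dotProduct, smul_dotProduct, bv_dot, bv_dot, hcoord, hcoord]
    simp [hlj, hlk]; ring
  have hxv : x ⬝ᵥ v = 2 * (v l * v j) := by
    rw [hx, add_dotProduct, smul_dotProduct, smul_dotProduct, bv_dot, bv_dot]; simp; ring
  have hxv0 : x ⬝ᵥ v ≠ 0 := by rw [hxv]; exact mul_ne_zero h2 (mul_ne_zero (hSv l hl) (hSv j hj))
  have hyx : y x = x - ((v ⬝ᵥ v)⁻¹ * (2 * (x ⬝ᵥ v))) • v := by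
    rw [hy, LinearEquiv.mul_apply, rf_fix hxh, rf_apply hvv]
  obtain ⟨c, hc, hcJ⟩ : ∃ c ∈ S, c ∉ J := Finset.exists_mem_notMem_of_card_lt_card (by omega)
  have := dot_orth h2 (C.mem_orth hyN) (bv c) x
  rw [hJfix c hcJ, hyx, bv_dot, bv_dot, Pi.sub_apply, Pi.smul_apply, smul_eq_mul, sub_eq_self] at this
  exact (mul_ne_zero (mul_ne_zero (inv_ne_zero hvv) (mul_ne_zero h2 hxv0)) (hSv c hc)) this

end Plane

theorem dot_two {w v : Fin n → F} {a b : Fin n} (hab : b ≠ a) (h : ∀ c, w c ≠ 0 → c = a ∨ c = b) :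
    w ⬝ᵥ v = w a * v a + w b * v b := by
  rw [dotProduct, ← Finset.sum_subset (Finset.subset_univ {a, b}) fun c _ hc => ?_, Finset.sum_pair hab.symm]
  simp at hc
  by_contra h'
  rcases h c (fun h'' => h' (by simp [h''])) with e | e
  · exact hc.1 e
  · exact hc.2 e

namespace Comm

variable {N : Subgroup ((Fin n → F) ≃ₗ[F] (Fin n → F))} {p q : Fin n → F} {T : Finset (Fin n)}
  {z : (Fin n → F) ≃ₗ[F] (Fin n → F)}

/-- The coordinate data. -/
theorem spec (Z : Comm N p q T z) (C : Ctx N) :
    ∃ (π : Equiv.Perm (Fin n)) (ε : Fin n → F), (∀ i, ε i * ε i = 1) ∧ (∀ i, z (bv i) = ε i • bv (π i)) ∧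
      (∀ x i, z x (π i) = ε i * x i) ∧ (∀ i, π (π i) = i ∧ ε (π i) = ε i) ∧ (∀ i, π i ∈ T ↔ i ∈ T) := by
  obtain ⟨π, ε, hε, hπ, hco⟩ := mono_spec C.two (C.mem_orth Z.mem) Z.mono
  refine ⟨π, ε, hε, hπ, hco, fun i => ?_, fun i => ?_⟩
  · have h := Z.invol (bv i)
    rw [hπ, map_smul, hπ, smul_smul] at h
    have h' := congrFun h i
    rw [Pi.smul_apply, bv_self, bv_apply] at h'
    split_ifs at h' with e
    · refine ⟨e.symm, ?_⟩
      simp only [smul_eq_mul, mul_one] at h'
      linear_combination ε i * h' - ε (π i) * hε i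
    · simp at h'
  · have hne : ε i ≠ 0 := fun h => by have := hε i; simp [h] at this
    constructor
    · intro h
      by_contra hc
      have := Z.outT i hc _ h
      rw [hπ, Pi.smul_apply, bv_self, smul_eq_mul, mul_one] at this
      exact hne this
    · intro h
      by_contra hc
      have := Z.inT i h _ hc
      rw [hπ, Pi.smul_apply, bv_self, smul_eq_mul, mul_one] at this
      exact hne this

/-- Outside `T` nothing moves, if the plane has no short vector. -/
theorem quiet_of (Z : Comm N p q T z) (C : Ctx N)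
    (H : ∀ v x y, InP p q v → (∀ c ∉ T, c ≠ x → c ≠ y → v c = 0) → ∀ c ∉ T, v c = 0) :
    ∀ c ∉ T, z (bv c) = bv c := by
  obtain ⟨π, ε, hε, hπ, -, -, hT⟩ := Z.spec C
  intro c hc
  obtain ⟨a, b, hab⟩ := Z.moved (bv c)
  have h0 := H (a • p + b • q) c (π c) ⟨a, b, rfl⟩ fun l hl h1 h3 => by
    have := hab l hl
    rw [hπ, bv_ne h1, Pi.smul_apply, bv_ne h3] at this
    simpa using this.symm
  ext l
  by_cases hl : l ∈ T
  · rw [Z.outT c hc l hl, bv_ne (fun e : l = c => hc (e ▸ hl))]
  · have h1 := hab l hl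
    have h3 := h0 l hl
    simp only [Pi.add_apply, Pi.smul_apply, smul_eq_mul] at h3
    linear_combination -h1 - h3

/-- Moving nothing outside `T`, it fixes the plane. -/
theorem fixP (Z : Comm N p q T z) (C : Ctx N) (hq : ∀ c ∉ T, z (bv c) = bv c)
    (H : ∀ v, InP p q v → (∀ c ∉ T, v c = 0) → v = 0) : ∀ v, InP p q v → z v = v := by
  intro v hv
  refine sub_eq_zero.1 (H _ ((Z.pres v hv).sub hv) fun c hc => ?_)
  rw [Pi.sub_apply, sub_eq_zero]
  have := dot_orth C.two (C.mem_orth Z.mem) v (bv c)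
  rwa [hq c hc, dot_bv, dot_bv] at this

/-- A moved coordinate gives a displacement orthogonal to the fixed vectors. -/
theorem moved_perp (Z : Comm N p q T z) (C : Ctx N) {v : Fin n → F} (hv : z v = v) (x : Fin n) :
    (bv x - z (bv x)) ⬝ᵥ v = 0 := by
  have := dot_orth C.two (C.mem_orth Z.mem) (bv x) v
  rw [hv] at this
  rw [sub_dotProduct, this, sub_self]

/-- If the plane is fixed, a moved coordinate of `T` gives a root orthogonal to the plane. -/
theorem exists_pair_perp (Z : Comm N p q T z) (C : Ctx N) {x : Fin n} (hxnz : ¬ (p x = 0 ∧ q x = 0))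
    (hfix : ∀ v, InP p q v → z v = v) (hx : x ∈ T) (hmv : z (bv x) ≠ bv x) :
    ∃ (y : Fin n) (e : F), y ∈ T ∧ y ≠ x ∧ e * e = 1 ∧ z (bv x) = e • bv y ∧ z (bv y) = e • bv x ∧
      (bv x + (-e) • bv y) ⬝ᵥ p = 0 ∧ (bv x + (-e) • bv y) ⬝ᵥ q = 0 := by
  obtain ⟨π, ε, hε, hπ, -, hinv, hT⟩ := Z.spec C
  have hp := Z.moved_perp C (hfix p (inP_left p q)) x
  have hq := Z.moved_perp C (hfix q (inP_right p q)) x
  rw [hπ] at hp hq hmv
  by_cases hxx : π x = x
  · rw [hxx] at hp hq hmv
    rcases mul_self_eq_one_iff.1 (hε x) with e | e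
    · exact absurd (by rw [e, one_smul]) hmv
    · rw [e, show bv x - (-1 : F) • bv x = (2 : F) • (bv x : Fin n → F) by module, smul_dotProduct, bv_dot,
        smul_eq_mul, mul_eq_zero] at hp hq
      exact absurd ⟨hp.resolve_left C.two, hq.resolve_left C.two⟩ hxnz
  · refine ⟨π x, ε x, (hT x).2 hx, hxx, hε x, hπ x, by rw [hπ, (hinv x).1, (hinv x).2], ?_, ?_⟩
    · rwa [neg_smul, ← sub_eq_add_neg]
    · rwa [neg_smul, ← sub_eq_add_neg]

/-- If short vectors lie on a line with two coordinates, that line is a root or nothing moves. -/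
theorem quiet_or_root (Z : Comm N p q T z) (C : Ctx N) {w : Fin n → F} {a b : Fin n} (ha : w a ≠ 0) (hb : w b ≠ 0)
    (hba : b ≠ a) (haT : a ∉ T) (hbT : b ∉ T) (hw : ∀ c, w c ≠ 0 → c = a ∨ c = b)
    (short : ∀ v x y, InP p q v → (∀ c ∉ T, c ≠ x → c ≠ y → v c = 0) → ∃ t : F, v = t • w) :
    (∀ c ∉ T, z (bv c) = bv c) ∨ ∃ e : F, e * e = 1 ∧ w b = e * w a := by
  obtain ⟨π, ε, hε, hπ, -, -, hπT⟩ := Z.spec C
  refine or_iff_not_imp_right.2 fun hroot c hc => ?_
  by_contra hmv
  obtain ⟨u, u', huv⟩ := Z.moved (bv c)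
  obtain ⟨t, ht⟩ := short (u • p + u' • q) c (π c) ⟨u, u', rfl⟩ fun l hl h1 h3 => by
    have := huv l hl
    rw [hπ, bv_ne h1, Pi.smul_apply, bv_ne h3] at this
    simpa using this.symm
  have hd : ∀ l ∉ T, bv c l - ε c * bv (π c) l = t * w l := fun l hl => by
    have h1 := huv l hl
    have h3 := congrFun ht l
    rw [hπ] at h1
    simp only [Pi.add_apply, Pi.smul_apply, smul_eq_mul] at h1 h3
    linear_combination h1 + h3
  by_cases hcc : π c = c
  · have e1 := hd c hc
    rw [hcc, bv_self] at e1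
    have hce : ε c ≠ 1 := fun e => hmv (by rw [hπ, hcc, e, one_smul])
    rcases hw c (fun h => by rw [h, mul_zero] at e1; exact hce (by linear_combination -e1)) with rfl | rfl
    · have e2 := hd b hbT
      rw [hcc, bv_ne hba] at e2
      simp [hb] at e2
      rw [e2] at e1
      exact hce (by linear_combination -e1)
    · have e2 := hd a haT
      rw [hcc, bv_ne hba.symm] at e2
      simp [ha] at e2
      rw [e2] at e1
      exact hce (by linear_combination -e1)
  · have e1 := hd c hc
    have e2 := hd (π c) (fun h => hc ((hπT c).1 h))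
    rw [bv_self, bv_ne (Ne.symm hcc)] at e1
    rw [bv_self, bv_ne hcc] at e2
    have ht0 : t ≠ 0 := fun h => by simp [h] at e1
    have hwc : w c ≠ 0 := fun h => by simp [h] at e1
    have hwp : w (π c) ≠ 0 := fun h => by
      rw [h] at e2; simp at e2
      have := hε c; simp [e2] at this
    rcases hw c hwc with rfl | rfl <;> rcases hw (π c) hwp with h | h
    · exact hcc h
    · rw [h] at e2
      exact hroot ⟨-ε c, by linear_combination hε c, mul_left_cancel₀ ht0 (by linear_combination -e2 - ε c * e1)⟩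
    · rw [h] at e2
      exact hroot ⟨-ε c, by linear_combination hε c,
        mul_left_cancel₀ ht0 (by linear_combination -e1 - ε c * e2 - hε c)⟩
    · exact hcc h

theorem exists_moved (Z : Comm N p q T z) (hq : ∀ c ∉ T, z (bv c) = bv c) : ∃ x ∈ T, z (bv x) ≠ bv x := by
  by_contra h
  push Not at h
  refine Z.ne (LinearEquiv.ext fun v => ?_)
  rw [sum_bv v, map_sum]
  refine Finset.sum_congr rfl fun l _ => ?_
  rw [map_smul]
  by_cases hl : l ∈ T
  · rw [h l hl]
  · rw [hq l hl]

/-- The element is not a reflection. -/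
theorem not_one_pair (Z : Comm N p q T z) (C : Ctx N) {i j : Fin n} (hij : j ≠ i) {e : F} (he : e * e = 1)
    (hi : z (bv i) = e • bv j) (hj : z (bv j) = e • bv i) (hrest : ∀ l, l ≠ i → l ≠ j → z (bv l) = bv l) :
    False := by
  have h := eq_rf_of_moved C.two hij he hi hj hrest
  have hN := C.le Z.mem
  rw [h] at hN
  exact rf_notMem C.two (by linarith [C.big]) (isB_dot C.two (isB_pair hij (by linear_combination he))) hN

/-- A coordinate without a partner of equal column rules the involution out. -/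
theorem not_lone (Z : Comm N p q T z) (C : Ctx N) (hT : T.card = 4) (hnz : ∀ j ∈ T, ¬ (p j = 0 ∧ q j = 0))
    (hq : ∀ c ∉ T, z (bv c) = bv c) (hfix : ∀ v, InP p q v → z v = v) {a : Fin n} (haT : a ∈ T)
    (ha : ∀ y ∈ T, y ≠ a → ¬ Rel' p q a y) : False := by
  have pair : ∀ x ∈ T, z (bv x) ≠ bv x → ∃ (y : Fin n) (e : F), y ∈ T ∧ y ≠ x ∧ x ≠ a ∧ y ≠ a ∧ e * e = 1 ∧
      z (bv x) = e • bv y ∧ z (bv y) = e • bv x := by
    intro x hx hmv
    obtain ⟨y, e, hy, hyx, he, h1, h1', hp, hq'⟩ := Z.exists_pair_perp C (hnz x hx) hfix hx hmv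
    have hr : Rel' p q x y := by
      simp only [add_dotProduct, smul_dotProduct, bv_dot, smul_eq_mul] at hp hq'
      exact ⟨e, he, by linear_combination -e * hp - p y * he, by linear_combination -e * hq' - q y * he⟩
    exact ⟨y, e, hy, hyx, fun h => ha y hy (h ▸ hyx) (h ▸ hr), fun h => ha x hx (h ▸ hyx.symm) (h ▸ hr.symm),
      he, h1, h1'⟩
  obtain ⟨x, hx, hmv⟩ := Z.exists_moved hq
  obtain ⟨y, e, hy, hyx, hxa, hya, he, h1, h1'⟩ := pair x hx hmv
  refine Z.not_one_pair C hyx he h1 h1' fun l hlx hly => ?_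
  by_cases hl : l ∈ T
  swap
  · exact hq l hl
  by_contra hml
  obtain ⟨m, e', hm, hml', hla, hma, he', h3, h3'⟩ := pair l hl hml
  obtain ⟨π, ε, hε, hπ, hco, hinv, -⟩ := Z.spec C
  have hne : ∀ {t : F}, t * t = 1 → t ≠ 0 := fun ht h => by simp [h] at ht
  have hmx : m ≠ x := fun h => by
    subst h
    rw [h1] at h3'
    have h4 := congrFun h3' y
    rw [Pi.smul_apply, bv_self, Pi.smul_apply, bv_ne (Ne.symm hly)] at h4
    exact hne he (by simpa using h4)
  have hmy : m ≠ y := fun h => by
    subst h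
    rw [h1'] at h3'
    have h4 := congrFun h3' x
    rw [Pi.smul_apply, bv_self, Pi.smul_apply, bv_ne (Ne.symm hlx)] at h4
    exact hne he (by simpa using h4)
  have hsub : ({a, x, y, l, m} : Finset (Fin n)) ⊆ T := by
    intro u hu
    simp only [Finset.mem_insert, Finset.mem_singleton] at hu
    rcases hu with rfl | rfl | rfl | rfl | rfl <;> assumption
  have := Finset.card_le_card hsub
  rw [Finset.card_insert_of_notMem (by simp [hxa.symm, hya.symm, hla.symm, hma.symm]),
    Finset.card_insert_of_notMem (by simp [hyx.symm, Ne.symm hlx, hmx.symm]),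
    Finset.card_insert_of_notMem (by simp [Ne.symm hly, hmy.symm]), Finset.card_pair hml'.symm] at this
  omega

end Comm

namespace Plane

variable {N : Subgroup ((Fin n → F) ≃ₗ[F] (Fin n → F))} {p q : Fin n → F}

/-- Short vectors are multiples of `w`, so absent. -/
theorem no_short (P : Plane N p q) {w : Fin n → F} (hw : InP p q w) (hw0 : w ≠ 0) (T L K : Finset (Fin n))
    (hL : ∀ j ∈ L, ¬ (p j = 0 ∧ q j = 0) ∧ w j = 0) (hLT : 3 ≤ (L \ T).card)
    (hK : ∀ c ∈ K, w c ≠ 0) (hKT : 3 ≤ (K \ T).card) :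
    ∀ v x y, InP p q v → (∀ c ∉ T, c ≠ x → c ≠ y → v c = 0) → v = 0 := by
  intro v x y hv h
  obtain ⟨j, hj, hj'⟩ : ∃ j ∈ L \ T, j ∉ ({x, y} : Finset (Fin n)) :=
    Finset.exists_mem_notMem_of_card_lt_card (Finset.card_le_two.trans_lt (by omega))
  obtain ⟨c, hc, hc'⟩ : ∃ c ∈ K \ T, c ∉ ({x, y} : Finset (Fin n)) :=
    Finset.exists_mem_notMem_of_card_lt_card (Finset.card_le_two.trans_lt (by omega))
  simp only [Finset.mem_insert, Finset.mem_singleton, not_or, Finset.mem_sdiff] at hj hj' hc hc'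
  obtain ⟨a, rfl⟩ := P.prop_of_zero hw hv hw0 (hL j hj.1).1 (hL j hj.1).2 (h j hj.2 hj'.1 hj'.2)
  have := h c hc.2 hc'.1 hc'.2
  rw [Pi.smul_apply, smul_eq_mul, mul_eq_zero] at this
  rw [this.resolve_right (hK c hc.1), zero_smul]

theorem goodB (C : Ctx N) (P : Plane N p q) (hb : 10 ≤ n) : GoodB N := by
  have h2 := C.two
  have hn := hb
  by_contra hG
  have hB : ∀ (i j : Fin n) (e : F), j ≠ i → e * e = 1 → ¬ Fix (rf p * rf q) (bv i + e • bv j) :=
    fun i j e hij he hf => hG ⟨_, P.mem, P.nmono, i, j, e, hij, he, hf⟩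
  have hperp : ∀ (i j : Fin n) (e : F), j ≠ i → e * e = 1 →
      (bv i + e • bv j) ⬝ᵥ p = 0 → (bv i + e • bv j) ⬝ᵥ q = 0 → False :=
    fun i j e hij he hp hq => hB i j e hij he (P.fix_perp_root hp hq)
  set Z0 := Finset.univ.filter fun j => p j = 0 ∧ q j = 0 with hZ0
  have hZc : Z0.card ≤ 1 := by
    by_contra h
    obtain ⟨i, hi, j, hj, hij⟩ := Finset.one_lt_card.1 (show 1 < Z0.card by omega)
    exact hG (good_of_two P.mem P.nmono hij.symm (P.fix_zero_col (Finset.mem_filter.1 hi).2)
      (P.fix_zero_col (Finset.mem_filter.1 hj).2)).2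
  -- no monomial involution fixing the plane
  have finish : ∀ T : Finset (Fin n), T.card = 4 →
      (∀ z, Comm N p q T z → (∀ c ∉ T, z (bv c) = bv c) ∧ ∀ v, InP p q v → (∀ c ∉ T, v c = 0) → v = 0) → False := by
    intro T hT H
    rcases P.good_or_comm C (by omega) hT with h | ⟨z, Z⟩
    · exact hG h.2
    obtain ⟨hq, hPT⟩ := H z Z
    by_cases hmz : ∃ x ∈ T, z (bv x) ≠ bv x ∧ ¬ (p x = 0 ∧ q x = 0)
    · obtain ⟨x, hx, hmv, hxnz⟩ := hmz
      obtain ⟨y, e, -, hyx, he, -, -, hp, hq'⟩ := Z.exists_pair_perp C hxnz (Z.fixP C hq hPT) hx hmv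
      exact hperp x y (-e) hyx (by linear_combination he) hp hq'
    -- only a coordinate off the plane moves
    push Not at hmz
    obtain ⟨π, ε, hε, hπ, -, hinv, hπT⟩ := Z.spec C
    obtain ⟨x, hx, hmv⟩ := Z.exists_moved hq
    have hxx : π x = x := by
      by_contra h
      have hm : z (bv (π x)) ≠ bv (π x) := fun e => by
        rw [hπ, (hinv x).1] at e
        have h' := congrFun e (π x)
        rw [Pi.smul_apply, bv_ne h, bv_self] at h'
        simp at h'
      have := Finset.card_le_card (show ({x, π x} : Finset (Fin n)) ⊆ Z0 by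
        intro u hu
        simp only [Finset.mem_insert, Finset.mem_singleton] at hu
        rcases hu with rfl | rfl
        · simpa [hZ0] using hmz u hx hmv
        · simpa [hZ0] using hmz _ ((hπT x).2 hx) hm)
      rw [Finset.card_pair (Ne.symm h)] at this
      omega
    have hzr : z = rf (bv x) := LinearEquiv.ext fun v => by
      rw [sum_bv v, map_sum, map_sum]
      refine Finset.sum_congr rfl fun l _ => ?_
      rw [map_smul, map_smul]
      congr 1
      by_cases hlx : l = x
      · subst hlx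
        rcases mul_self_eq_one_iff.1 (hε l) with e | e
        · exact absurd (by rw [hπ, hxx, e, one_smul]) hmv
        · rw [hπ, hxx, e, rf_self_neg (by simp)]; simp
      rw [rf_fix (x := bv l) (by simp [bv_ne hlx, bv_ne (Ne.symm hlx)])]
      by_cases hl : l ∈ T
      · by_contra hm
        have := Finset.card_le_card (show ({x, l} : Finset (Fin n)) ⊆ Z0 by
          intro u hu
          simp only [Finset.mem_insert, Finset.mem_singleton] at hu
          rcases hu with rfl | rfl
          · simpa [hZ0] using hmz u hx hmv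
          · simpa [hZ0] using hmz u hl hm)
        rw [Finset.card_pair (Ne.symm hlx)] at this
        omega
      · exact hq l hl
    have hN := C.le Z.mem
    rw [hzr] at hN
    exact rf_notMem h2 (by omega) (by simp) hN
  by_cases hsm : ∃ w, InP p q w ∧ w ≠ 0 ∧ (Finset.univ.filter fun c => w c ≠ 0).card ≤ 6
  swap
  · push Not at hsm
    obtain ⟨T, hTs, hT⟩ := Finset.exists_subset_card_eq (s := Finset.univ \ Z0) (n := 4)
      (by rw [Finset.card_univ_sdiff, Fintype.card_fin]; omega)
    have short : ∀ v x y, InP p q v → (∀ c ∉ T, c ≠ x → c ≠ y → v c = 0) → v = 0 := by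
      intro v x y hv h
      by_contra hv0
      have h6 := hsm v hv hv0
      have hsub : (Finset.univ.filter fun c => v c ≠ 0) ⊆ insert x (insert y T) := fun c hc => by
        simp at hc ⊢
        by_contra h'
        push Not at h'
        exact hc (h c h'.2.2 h'.1 h'.2.1)
      have := Finset.card_le_card hsub
      have := Finset.card_insert_le x (insert y T)
      have := Finset.card_insert_le y T
      omega
    exact finish T hT fun z Z => ⟨Z.quiet_of C fun v x y hv h c hc => by rw [short v x y hv h]; rfl,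
      fun v hv h => short v ⟨0, by omega⟩ ⟨0, by omega⟩ hv fun c hc _ _ => h c hc⟩
  obtain ⟨w, hw, hw0, hw6⟩ := hsm
  set K := Finset.univ.filter fun c => w c ≠ 0 with hK
  set L := Finset.univ \ (Z0 ∪ K) with hLdef
  have hL : ∀ j ∈ L, ¬ (p j = 0 ∧ q j = 0) ∧ w j = 0 := fun j hj => by
    simp [hLdef, hZ0, hK] at hj
    exact ⟨fun h => hj.1 h.1 h.2, hj.2⟩
  have hKnz : ∀ c ∈ K, ¬ (p c = 0 ∧ q c = 0) := fun c hc h => by
    obtain ⟨a, b, rfl⟩ := hw
    simp [hK, h] at hc
  have hLc : n - Z0.card - K.card ≤ L.card := by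
    rw [hLdef, Finset.card_univ_sdiff, Fintype.card_fin]
    have := Finset.card_union_le Z0 K
    omega
  have hKL : ∀ c ∈ K, c ∉ L := fun c hc hc' => by simp [hLdef, hc] at hc'
  by_cases hk3 : 3 ≤ K.card
  · obtain ⟨T, hT, hKT, hLT⟩ : ∃ T : Finset (Fin n), T.card = 4 ∧ 3 ≤ (K \ T).card ∧ 3 ≤ (L \ T).card := by
      obtain ⟨T₁, h1s, h1⟩ := Finset.exists_subset_card_eq (s := K) (n := min 4 (K.card - 3)) (by omega)
      obtain ⟨T₂, h2s, h2'⟩ := Finset.exists_subset_card_eq (s := L)
        (n := 4 - min 4 (K.card - 3) - Z0.card) (by omega)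
      have hd : Disjoint T₁ T₂ := Finset.disjoint_left.2 fun c hc hc' => hKL c (h1s hc) (h2s hc')
      have hd0 : Disjoint (T₁ ∪ T₂) Z0 := Finset.disjoint_left.2 fun c hc hc' => by
        simp only [hZ0, Finset.mem_filter] at hc'
        rcases Finset.mem_union.1 hc with hc | hc
        · exact hKnz c (h1s hc) hc'.2
        · exact (hL c (h2s hc)).1 hc'.2
      refine ⟨T₁ ∪ T₂ ∪ Z0, by rw [Finset.card_union_of_disjoint hd0, Finset.card_union_of_disjoint hd]; omega,
        ?_, ?_⟩
      · have h : K \ (T₁ ∪ T₂ ∪ Z0) = K \ T₁ := by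
          ext c
          simp only [Finset.mem_sdiff, Finset.mem_union]
          refine ⟨fun h => ⟨h.1, fun h' => h.2 (Or.inl (Or.inl h'))⟩, fun h => ⟨h.1, ?_⟩⟩
          rintro ((h' | h') | h')
          · exact h.2 h'
          · exact hKL c h.1 (h2s h')
          · exact hKnz c h.1 (Finset.mem_filter.1 h').2
        rw [h, Finset.card_sdiff_of_subset h1s]; omega
      · have h : L \ (T₁ ∪ T₂ ∪ Z0) = L \ T₂ := by
          ext c
          simp only [Finset.mem_sdiff, Finset.mem_union]
          refine ⟨fun h => ⟨h.1, fun h' => h.2 (Or.inl (Or.inr h'))⟩, fun h => ⟨h.1, ?_⟩⟩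
          rintro ((h' | h') | h')
          · exact hKL c (h1s h') h.1
          · exact h.2 h'
          · exact (hL c h.1).1 (Finset.mem_filter.1 h').2
        rw [h, Finset.card_sdiff_of_subset h2s]; omega
    have short := P.no_short hw hw0 T L K hL hLT (fun c hc => (Finset.mem_filter.1 hc).2) hKT
    exact finish T hT fun z Z => ⟨Z.quiet_of C fun v x y hv h c hc => by rw [short v x y hv h]; rfl,
      fun v hv h => short v ⟨0, by omega⟩ ⟨0, by omega⟩ hv fun c hc _ _ => h c hc⟩
  obtain ⟨T, hTs, hT⟩ := Finset.exists_subset_card_eq (s := L) (n := 4) (by omega)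
  have hTnz : ∀ j ∈ T, ¬ (p j = 0 ∧ q j = 0) := fun j hj => (hL j (hTs hj)).1
  obtain ⟨a, ha⟩ : ∃ a, w a ≠ 0 := by by_contra hc; push Not at hc; exact hw0 (funext hc)
  have haK : a ∈ K := by simp [hK, ha]
  have haT : a ∉ T := fun h => hKL a haK (hTs h)
  -- short vectors are multiples of `w`
  have short : ∀ v x y, InP p q v → (∀ c ∉ T, c ≠ x → c ≠ y → v c = 0) → ∃ t : F, v = t • w := by
    intro v x y hv h
    obtain ⟨j, hj, hj'⟩ : ∃ j ∈ L \ T, j ∉ ({x, y} : Finset (Fin n)) :=
      Finset.exists_mem_notMem_of_card_lt_card (Finset.card_le_two.trans_lt (by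
        rw [Finset.card_sdiff_of_subset hTs]; omega))
    simp only [Finset.mem_insert, Finset.mem_singleton, not_or, Finset.mem_sdiff] at hj hj'
    exact P.prop_of_zero hw hv hw0 (hL j hj.1).1 (hL j hj.1).2 (h j hj.2 hj'.1 hj'.2)
  have hPT : ∀ v, InP p q v → (∀ c ∉ T, v c = 0) → v = 0 := fun v hv h => by
    obtain ⟨t, rfl⟩ := short v ⟨0, by omega⟩ ⟨0, by omega⟩ hv fun c hc _ _ => h c hc
    have := h a haT
    rw [Pi.smul_apply, smul_eq_mul, mul_eq_zero] at this
    rw [this.resolve_right ha, zero_smul]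
  by_cases hk2 : ∃ b, b ≠ a ∧ w b ≠ 0
  · obtain ⟨b, hba, hb⟩ := hk2
    have hKab : ∀ c, w c ≠ 0 → c = a ∨ c = b := fun c hc => by
      by_contra h
      push Not at h
      refine hk3 ?_
      have : ({a, b, c} : Finset (Fin n)) ⊆ K := fun u hu => by
        simp at hu; rcases hu with rfl | rfl | rfl <;> simp [hK, *]
      have := Finset.card_le_card this
      rw [Finset.card_eq_three.2 ⟨a, b, c, hba.symm, h.1.symm, h.2.symm, rfl⟩] at this
      omega
    refine finish T hT fun z Z => ⟨?_, hPT⟩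
    have hbT : b ∉ T := fun h => hb ((hL b (hTs h)).2)
    rcases Z.quiet_or_root C ha hb hba haT hbT hKab short with h | ⟨e, he, hwe⟩
    · exact h
    exfalso
    refine hB a b e hba he (P.fix_inP_root ?_)
    have : bv a + e • bv b = (w a)⁻¹ • w := funext fun l => by
      by_cases hla : l = a
      · subst hla; simp [bv_ne hba.symm, ha]
      by_cases hlb : l = b
      · subst hlb; simp [bv_ne hba, hwe]; field_simp
      simp [bv_ne hla, bv_ne hlb]
      by_contra hl
      rcases hKab l (fun h => hl (Or.inr h)) with h | h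
      · exact hla h
      · exact hlb h
    rw [this]; exact hw.smul _
  · push Not at hk2
    have hwa : InP p q (bv a) := by
      have : w = w a • bv a := funext fun l => by
        by_cases hl : l = a
        · subst hl; simp
        · simp [bv_ne hl, hk2 l hl]
      have h' := hw.smul (w a)⁻¹
      rwa [this, smul_smul, Pi.smul_apply, bv_self, smul_eq_mul, mul_one, inv_mul_cancel₀ ha, one_smul] at h'
    rcases P.good_or_comm C (by omega) hT with h | ⟨z, Z⟩
    · exact hG h.2
    obtain ⟨π, ε, hε, hπ, hco, hinv, hπT⟩ := Z.spec C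
    have hout : ∀ c ∉ T, c ≠ a → z (bv c) = bv c := by
      intro c hc hca
      obtain ⟨u, u', huv⟩ := Z.moved (bv c)
      obtain ⟨t, ht⟩ := short (u • p + u' • q) c (π c) ⟨u, u', rfl⟩ fun l hl h1 h3 => by
        have := huv l hl
        rw [hπ, bv_ne h1, Pi.smul_apply, bv_ne h3] at this
        simpa using this.symm
      have h1 := huv c hc
      have h3 := congrFun ht c
      simp only [Pi.add_apply, Pi.smul_apply, smul_eq_mul, hk2 c hca, mul_zero] at h1 h3
      rw [hπ, bv_self, Pi.smul_apply, bv_apply, h3] at h1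
      by_cases hcc : c = π c
      · rw [if_pos hcc, smul_eq_mul, mul_one, sub_eq_zero] at h1
        rw [hπ, ← h1, one_smul, ← hcc]
      · rw [if_neg hcc] at h1; simp at h1
    have hza : π a = a := by
      by_contra h
      have h1 := hout (π a) (fun h' => haT ((hπT a).1 h')) h
      rw [hπ, (hinv a).1] at h1
      have h3 := congrFun h1 (π a)
      rw [Pi.smul_apply, bv_ne h, bv_self] at h3
      simp at h3
    obtain ⟨q', hq', hq'0, hq'a⟩ := P.exists_other hwa (fun h => by have := congrFun h a; simp at this)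
    rw [bv_dot] at hq'a
    rcases mul_self_eq_one_iff.1 (hε a) with e | e
    · have hquiet : ∀ c ∉ T, z (bv c) = bv c := fun c hc => by
        by_cases hca : c = a
        · subst hca; rw [hπ, hza, e, one_smul]
        · exact hout c hc hca
      obtain ⟨x, hx, hmv⟩ := Z.exists_moved hquiet
      obtain ⟨y, e', -, hyx, he', -, -, hp, hq''⟩ := Z.exists_pair_perp C (hTnz x hx) (Z.fixP C hquiet hPT) hx hmv
      exact hperp x y (-e') hyx (by linear_combination he') hp hq''
    have hfq : z q' = q' := by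
      have h1 : ∀ c ∉ T, z q' c = q' c := fun c hc => by
        by_cases hca : c = a
        · subst hca
          have := hco q' c
          rw [hza, hq'a, mul_zero] at this
          rw [this, hq'a]
        · have := dot_orth h2 (C.mem_orth Z.mem) q' (bv c)
          rwa [hout c hc hca, dot_bv, dot_bv] at this
      exact sub_eq_zero.1 (hPT _ ((Z.pres q' hq').sub hq') fun c hc => by rw [Pi.sub_apply, h1 c hc, sub_self])
    have hmove : ∀ x ∈ T, z (bv x) = bv x := by
      intro x hx
      by_contra hmv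
      have hxa : x ≠ a := fun h => haT (h ▸ hx)
      have hd := Z.moved_perp C hfq x
      have hda : (bv x - z (bv x)) ⬝ᵥ bv a = 0 := by
        rw [sub_dotProduct, dot_bv, dot_bv, bv_ne hxa.symm, Z.inT x hx a haT, sub_zero]
      have hperp' : ∀ v, InP p q v → (bv x - z (bv x)) ⬝ᵥ v = 0 := fun v hv => by
        have hna : ¬ (p a = 0 ∧ q a = 0) := hKnz a haK
        obtain ⟨t, ht⟩ := P.prop_of_zero hq' (hv.sub (hwa.smul (v a))) hq'0 hna hq'a (by simp)
        rw [show v = v a • bv a + t • q' by rw [← ht]; abel, dotProduct_add, dotProduct_smul, dotProduct_smul, hda, hd]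
        simp
      have hp := hperp' p (inP_left p q)
      have hq2 := hperp' q (inP_right p q)
      rw [hπ] at hp hq2 hmv
      by_cases hxx : π x = x
      · rw [hxx] at hp hq2 hmv
        rcases mul_self_eq_one_iff.1 (hε x) with e1 | e1
        · exact hmv (by rw [e1, one_smul])
        · rw [e1, show bv x - (-1 : F) • bv x = (2 : F) • (bv x : Fin n → F) by module, smul_dotProduct, bv_dot,
            smul_eq_mul, mul_eq_zero] at hp hq2
          exact hTnz x hx ⟨hp.resolve_left h2, hq2.resolve_left h2⟩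
      · exact hperp x (π x) (-ε x) hxx (by linear_combination hε x)
          (by rwa [neg_smul, ← sub_eq_add_neg]) (by rwa [neg_smul, ← sub_eq_add_neg])
    have hz : z = rf (bv a) := LinearEquiv.ext fun v => by
      rw [sum_bv v, map_sum, map_sum]
      refine Finset.sum_congr rfl fun l _ => ?_
      rw [map_smul, map_smul]
      congr 1
      by_cases hla : l = a
      · subst hla; rw [hπ, hza, e, rf_self_neg (by simp)]; simp
      · rw [rf_fix (x := bv l) (by simp [bv_ne hla, bv_ne (Ne.symm hla)])]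
        by_cases hlT : l ∈ T
        · exact hmove l hlT
        · exact hout l hlT hla
    have hN := C.le Z.mem
    rw [hz] at hN
    exact rf_notMem h2 (by omega) (by simp) hN

theorem goodA (C : Ctx N) (P : Plane N p q) (hn : 10 ≤ n) : GoodA N := by
  have h2 := C.two
  by_contra hG
  have hnz : ∀ j, ¬ (p j = 0 ∧ q j = 0) := fun j h =>
    hG ⟨_, P.mem, P.nmono, j, Or.inl (P.fix_zero_col h)⟩
  have hcoord : ∀ j, ¬ InP p q (bv j) := fun j h => hG ⟨_, P.mem, P.nmono, j, P.fix_inP_root h⟩
  by_cases hsm : ∃ w, InP p q w ∧ w ≠ 0 ∧ (Finset.univ.filter fun c => w c ≠ 0).card ≤ 6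
  swap
  · push Not at hsm
    have short : ∀ T : Finset (Fin n), T.card ≤ 4 → ∀ v x y, InP p q v →
        (∀ c ∉ T, c ≠ x → c ≠ y → v c = 0) → v = 0 := by
      intro T hT v x y hv h
      by_contra hv0
      have h6 := hsm v hv hv0
      have hsub : (Finset.univ.filter fun c => v c ≠ 0) ⊆ insert x (insert y T) := fun c hc => by
        simp at hc ⊢
        by_contra h'
        push Not at h'
        exact hc (h c h'.2.2 h'.1 h'.2.1)
      have := Finset.card_le_card hsub
      have := Finset.card_insert_le x (insert y T)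
      have := Finset.card_insert_le y T
      omega
    by_cases h3 : ∃ a b c, ¬ Rel' p q a b ∧ ¬ Rel' p q a c ∧ ¬ Rel' p q b c
    · obtain ⟨a, b, c, hab, hac, hbc⟩ := h3
      have nab : a ≠ b := fun e => hab (e ▸ ⟨1, by simp⟩)
      have nac : a ≠ c := fun e => hac (e ▸ ⟨1, by simp⟩)
      have nbc : b ≠ c := fun e => hbc (e ▸ ⟨1, by simp⟩)
      obtain ⟨d, -, hd⟩ : ∃ d ∈ Finset.univ, d ∉ ({a, b, c} : Finset (Fin n)) :=
        Finset.exists_mem_notMem_of_card_lt_card (Finset.card_le_three.trans_lt (by simp; omega))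
      simp only [Finset.mem_insert, Finset.mem_singleton, not_or] at hd
      have hT : ({a, b, c, d} : Finset (Fin n)).card = 4 :=
        Finset.card_eq_four.2 ⟨a, b, c, d, nab, nac, Ne.symm hd.1, nbc, Ne.symm hd.2.1, Ne.symm hd.2.2, rfl⟩
      rcases P.good_or_comm C (by omega) hT with h | ⟨z, Z⟩
      · exact hG h.1
      have hq := Z.quiet_of C fun v x y hv h l hl => by rw [short _ hT.le v x y hv h]; rfl
      have hfix := Z.fixP C hq fun v hv h => short _ hT.le v a a hv fun l hl _ _ => h l hl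
      have pair : ∀ x ∈ ({a, b, c, d} : Finset (Fin n)), z (bv x) ≠ bv x →
          ∃ (y : Fin n) (e : F), (x = d ∨ y = d) ∧ y ≠ x ∧ e * e = 1 ∧ z (bv x) = e • bv y ∧ z (bv y) = e • bv x ∧ Rel' p q x y := by
        intro x hx hmv
        obtain ⟨y, e, hy, hyx, he, h1, h1', hp, hq'⟩ := Z.exists_pair_perp C (hnz x) hfix hx hmv
        have hr : Rel' p q x y := by
          simp only [add_dotProduct, smul_dotProduct, bv_dot, smul_eq_mul] at hp hq'
          exact ⟨e, he, by linear_combination -e * hp - p y * he, by linear_combination -e * hq' - q y * he⟩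
        refine ⟨y, e, ?_, hyx, he, h1, h1', hr⟩
        simp only [Finset.mem_insert, Finset.mem_singleton] at hx hy
        by_contra h
        push Not at h
        rcases hx with rfl | rfl | rfl | rfl <;> rcases hy with rfl | rfl | rfl | rfl <;>
          first | exact hyx rfl | exact h.1 rfl | exact h.2 rfl | exact hab hr | exact hac hr | exact hbc hr |
            exact hab hr.symm | exact hac hr.symm | exact hbc hr.symm
      obtain ⟨x, hx, hmv⟩ := Z.exists_moved hq
      obtain ⟨y, e, hxy, hyx, he, h1, h1', hr⟩ := pair x hx hmv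
      refine Z.not_one_pair C hyx he h1 h1' fun l hlx hly => ?_
      by_cases hl : l ∈ ({a, b, c, d} : Finset (Fin n))
      swap
      · exact hq l hl
      by_contra hml
      obtain ⟨y', e', hly', hy'l, -, h3, h3', hr'⟩ := pair l hl hml
      have hmem : ∀ u, u ∈ ({a, b, c, d} : Finset (Fin n)) → u ≠ d → u = a ∨ u = b ∨ u = c := by
        intro u hu hud; simp at hu; rcases hu with h | h | h | h <;> simp_all
      have rel_only : ∀ u v, u ∈ ({a, b, c, d} : Finset (Fin n)) → v ∈ ({a, b, c, d} : Finset (Fin n)) → u ≠ d →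
          v ≠ d → Rel' p q u d → Rel' p q v d → u = v := by
        intro u v hu hv hud hvd ru rv
        have := ru.trans rv.symm
        rcases hmem u hu hud with rfl | rfl | rfl <;> rcases hmem v hv hvd with rfl | rfl | rfl <;>
          first | rfl | exact absurd this hab | exact absurd this hac | exact absurd this hbc |
            exact absurd this.symm hab | exact absurd this.symm hac | exact absurd this.symm hbc
      have hTmem : ∀ u v (t : F), t * t = 1 → u ∈ ({a, b, c, d} : Finset (Fin n)) → z (bv u) = t • bv v →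
          v ∈ ({a, b, c, d} : Finset (Fin n)) := fun u v t ht hu huv => by
        by_contra hv
        have := Z.inT u hu v hv
        rw [huv, Pi.smul_apply, bv_self, smul_eq_mul, mul_one] at this
        simp [this] at ht
      have hy : y ∈ ({a, b, c, d} : Finset (Fin n)) := hTmem x y e he hx h1
      rcases hxy with rfl | rfl
      · -- `x = d`
        rcases hly' with rfl | rfl
        · exact hlx rfl
        · have := rel_only y l hy hl hyx hlx hr.symm hr'
          exact hly this.symm
      · rcases hly' with rfl | rfl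
        · exact hly rfl
        · have := rel_only x l hx hl hyx.symm hly hr hr'
          exact hlx this.symm
    · push Not at h3
      have hdet0 : ∃ a b, p a * q b - q a * p b ≠ 0 := by
        by_contra h
        push Not at h
        obtain ⟨i, hi⟩ : ∃ i, p i ≠ 0 := by
          by_contra hc; push Not at hc; exact P.pp (by simp [funext hc, dotProduct])
        have hq : q = (q i / p i) • p := funext fun j => by
          rw [Pi.smul_apply, smul_eq_mul]; field_simp; linear_combination h i j
        have := P.pq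
        rw [hq, dotProduct_smul, smul_eq_mul, mul_eq_zero] at this
        rcases this with h' | h'
        · exact P.qq (by rw [hq, h']; simp)
        · exact P.pp h'
      obtain ⟨a, b, hdet⟩ := hdet0
      have hab : ¬ Rel' p q a b := fun ⟨e, _, h1, h1'⟩ => hdet (by rw [h1, h1']; ring)
      have hall : ∀ j, Rel' p q a j ∨ Rel' p q b j := fun j => by
        by_contra h
        push Not at h
        exact h.2 (h3 a b j hab h.1)
      set D := p a * q b - q a * p b
      set u : Fin n → F := (q b / D) • p + (-(p b / D)) • q with hu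
      set v : Fin n → F := (-(q a / D)) • p + (p a / D) • q with hv
      have hua : u a = 1 := by simp [hu]; field_simp; ring
      have hub : u b = 0 := by simp [hu]; field_simp; ring
      have hva : v a = 0 := by simp [hv]; field_simp; ring
      have hvb : v b = 1 := by simp [hv]; field_simp; ring
      have hval : ∀ (w : Fin n → F), InP p q w → ∀ i j, Rel' p q i j → w i = 0 → w j = 0 := by
        rintro w ⟨c, d, rfl⟩ i j ⟨e, -, h1, h1'⟩ h0
        simp only [Pi.add_apply, Pi.smul_apply, smul_eq_mul] at h0 ⊢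
        rw [h1, h1']; linear_combination e * h0
      have huP : InP p q u := ⟨_, _, rfl⟩
      have hvP : InP p q v := ⟨_, _, rfl⟩
      have hv6 := hsm v hvP (fun h => by simp [h] at hvb)
      exact hG (P.goodA_of_disjoint C huP hvP (fun h => by simp [h] at hua)
        (fun c => (hall c).elim (fun h => Or.inr (hval v hvP a c h hva)) (fun h => Or.inl (hval u huP b c h hub)))
        (S := Finset.univ.filter fun c => v c ≠ 0) (by omega) (fun c hc => (Finset.mem_filter.1 hc).2))
  obtain ⟨w, hw, hw0, hw6⟩ := hsm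
  set K := Finset.univ.filter fun c => w c ≠ 0 with hK
  set L := Finset.univ \ K with hLdef
  have hL : ∀ j ∈ L, ¬ (p j = 0 ∧ q j = 0) ∧ w j = 0 := fun j hj => by
    simp [hLdef, hK] at hj
    exact ⟨hnz j, hj⟩
  have hLc : L.card = n - K.card := by rw [hLdef, Finset.card_univ_sdiff, Fintype.card_fin]
  have hKL : ∀ c ∈ K, c ∉ L := fun c hc hc' => by simp [hLdef, hc] at hc'
  -- `T` off the support of `w` admits no monomial involution fixing the plane
  have collinear : ∀ T : Finset (Fin n), T.card = 4 → T ⊆ L → ∀ z, Comm N p q T z →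
      (∀ c ∉ T, z (bv c) = bv c) → (∀ v, InP p q v → z v = v) → False := by
    intro T hT hTs z Z hq hfix
    obtain ⟨x, hx, hmv⟩ := Z.exists_moved hq
    obtain ⟨y, e, hy, hyx, he, hxy, hyx', hp, hq'⟩ := Z.exists_pair_perp C (hnz x) hfix hx hmv
    obtain ⟨j, hj, hj'⟩ : ∃ j ∈ T, j ∉ ({x, y} : Finset (Fin n)) :=
      Finset.exists_mem_notMem_of_card_lt_card (Finset.card_le_two.trans_lt (by omega))
    simp only [Finset.mem_insert, Finset.mem_singleton, not_or] at hj'
    obtain ⟨ε, hεε, hsc⟩ := Z.scalar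
    obtain ⟨π, η, hη, hπ, hco, hinv, -⟩ := Z.spec C
    have hpx : π x = y := by
      by_contra h
      have h1 := congrFun (hxy.symm.trans (hπ x)) y
      rw [Pi.smul_apply, bv_self, Pi.smul_apply, bv_ne (Ne.symm h)] at h1
      simp at h1; simp [h1] at he
    have hjx : π j ≠ x := fun h => by
      have := (hinv j).1
      rw [h, hpx] at this
      exact hj'.2 this.symm
    have hcross : p j * q x - p x * q j = 0 := by
      obtain ⟨c, d, hcd⟩ := hw
      have e1 := (hL x (hTs hx)).2
      have e2 := (hL j (hTs hj)).2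
      rw [hcd] at e1 e2
      simp only [Pi.add_apply, Pi.smul_apply, smul_eq_mul] at e1 e2
      by_contra h
      have hc : c = 0 := (mul_eq_zero.1 (show (p j * q x - p x * q j) * c = 0 by
        linear_combination q x * e2 - q j * e1)).resolve_left h
      have hd : d = 0 := (mul_eq_zero.1 (show (p j * q x - p x * q j) * d = 0 by
        linear_combination p j * e1 - p x * e2)).resolve_left h
      exact hw0 (by rw [hcd, hc, hd]; simp)
    have key : ∀ r : Fin n → F, (r = p ∨ r = q) → r j = 0 := by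
      intro r hr
      set d := r j • (bv x : Fin n → F) + (-(r x)) • bv j with hd
      have hdT : ∀ c ∉ T, d c = 0 := fun c hc => by
        simp [hd, bv_ne (show c ≠ x from fun e => hc (e ▸ hx)), bv_ne (show c ≠ j from fun e => hc (e ▸ hj))]
      have h0 : d ⬝ᵥ p = 0 ∧ d ⬝ᵥ q = 0 := by
        simp only [hd, add_dotProduct, smul_dotProduct, bv_dot, smul_eq_mul]
        rcases hr with rfl | rfl
        · exact ⟨by ring, by linear_combination hcross⟩
        · exact ⟨by linear_combination -hcross, by ring⟩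
      have h1 := congrFun (hsc d hdT h0.1 h0.2) x
      rw [hd, map_add, map_smul, map_smul, hπ, hπ, hpx] at h1
      simp [bv_ne (Ne.symm hjx), bv_ne hyx.symm, bv_ne (Ne.symm hj'.1)] at h1
      rcases h1 with h1 | h1
      · simp [h1] at hεε
      · exact h1
    exact hnz j ⟨key p (Or.inl rfl), key q (Or.inr rfl)⟩
  obtain ⟨T, hTs, hT⟩ := Finset.exists_subset_card_eq (s := L) (n := 4) (by omega)
  rcases P.good_or_comm C (by omega) hT with h | ⟨z, Z⟩
  · exact hG h.1
  by_cases hk3 : 3 ≤ K.card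
  · rcases Nat.lt_or_ge 2 (L \ T).card with hLT | hLT
    · have short := P.no_short hw hw0 T L K hL hLT (fun c hc => (Finset.mem_filter.1 hc).2)
          (by rw [Finset.sdiff_eq_self_of_disjoint (Finset.disjoint_left.2 fun c hc h => hKL c hc (hTs h))]; omega)
      have hq := Z.quiet_of C fun v x y hv h c hc => by rw [short v x y hv h]; rfl
      exact collinear T hT hTs z Z hq (Z.fixP C hq fun v hv h => short v ⟨0, by omega⟩ ⟨0, by omega⟩ hv fun c hc _ _ => h c hc)
    rw [Finset.card_sdiff_of_subset hTs] at hLT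
    have hKw : ∀ c ∈ K, w c ≠ 0 := fun c hc => (Finset.mem_filter.1 hc).2
    have hrel0 : ∀ v, InP p q v → ∀ i j, Rel' p q i j → v i = 0 → v j = 0 := by
      rintro v ⟨c, d, rfl⟩ i j ⟨e, -, h1, h1'⟩ h0
      simp only [Pi.add_apply, Pi.smul_apply, smul_eq_mul] at h0 ⊢
      rw [h1, h1']; linear_combination e * h0
    have hcross : ∀ k ∈ K, ∀ l ∈ L, ¬ Rel' p q l k := fun k hk l hl h => hKw k hk (hrel0 w hw l k h (hL l hl).2)
    -- a set meeting both parts with a coordinate that has no partner
    have lone : ∀ A B : Finset (Fin n), A ⊆ K → B ⊆ L → A.card + B.card = 4 → 3 ≤ K.card - A.card →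
        3 ≤ L.card - B.card → ∀ a ∈ A ∪ B, (∀ y ∈ A ∪ B, y ≠ a → ¬ Rel' p q a y) → False := by
      intro A B hA hB hAB hKA hLB a ha har
      have hd : Disjoint A B := Finset.disjoint_left.2 fun c hc hc' => hKL c (hA hc) (hB hc')
      have hT' : (A ∪ B).card = 4 := by rw [Finset.card_union_of_disjoint hd, hAB]
      rcases P.good_or_comm C (by omega) hT' with h | ⟨z', Z'⟩
      · exact hG h.1
      have e1 : K \ (A ∪ B) = K \ A := by
        ext c
        simp only [Finset.mem_sdiff, Finset.mem_union]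
        exact ⟨fun h => ⟨h.1, fun h' => h.2 (Or.inl h')⟩,
          fun h => ⟨h.1, fun h' => h'.elim h.2 fun h'' => hKL c h.1 (hB h'')⟩⟩
      have e2 : L \ (A ∪ B) = L \ B := by
        ext c
        simp only [Finset.mem_sdiff, Finset.mem_union]
        exact ⟨fun h => ⟨h.1, fun h' => h.2 (Or.inr h')⟩,
          fun h => ⟨h.1, fun h' => h'.elim (fun h'' => hKL c (hA h'') h.1) h.2⟩⟩
      have short := P.no_short hw hw0 (A ∪ B) L K hL (by rw [e2, Finset.card_sdiff_of_subset hB]; exact hLB) hKw
        (by rw [e1, Finset.card_sdiff_of_subset hA]; exact hKA)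
      have hq := Z'.quiet_of C fun v x y hv h c hc => by rw [short v x y hv h]; rfl
      exact Z'.not_lone C hT' (fun j _ => hnz j) hq
        (Z'.fixP C hq fun v hv h => short v ⟨0, by omega⟩ ⟨0, by omega⟩ hv fun c hc _ _ => h c hc) ha har
    rcases Nat.lt_or_ge L.card 6 with hL6 | hL6
    swap
    · -- one coordinate of the support and three outside
      obtain ⟨A, hA, hA1⟩ := Finset.exists_subset_card_eq (s := K) (n := 1) (by omega)
      obtain ⟨B, hB, hB3⟩ := Finset.exists_subset_card_eq (s := L) (n := 3) (by omega)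
      obtain ⟨a, rfl⟩ := Finset.card_eq_one.1 hA1
      refine lone _ B hA hB (by simp [hB3]) (by simp; omega) (by omega) a (by simp) fun y hy hya hr => ?_
      simp [hya] at hy
      exact hcross a (hA (by simp)) y (hB hy) hr.symm
    rcases Nat.lt_or_ge K.card 6 with hK6 | hK6
    swap
    · obtain ⟨A, hA, hA3⟩ := Finset.exists_subset_card_eq (s := K) (n := 3) (by omega)
      obtain ⟨B, hB, hB1⟩ := Finset.exists_subset_card_eq (s := L) (n := 1) (by omega)
      obtain ⟨a, rfl⟩ := Finset.card_eq_one.1 hB1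
      refine lone A _ hA hB (by simp [hA3]) (by omega) (by simp; omega) a (by simp) fun y hy hya hr => ?_
      simp [hya] at hy
      exact hcross y (hA hy) a (hB (by simp)) hr
    -- five and five
    by_cases hnr : (∃ k₁ ∈ K, ∃ k₂ ∈ K, ¬ Rel' p q k₁ k₂) ∨ ∃ l₁ ∈ L, ∃ l₂ ∈ L, ¬ Rel' p q l₁ l₂
    · have refl' : ∀ i, Rel' p q i i := fun i => ⟨1, one_mul 1, by simp, by simp⟩
      rcases hnr with ⟨a, hak, b, hbk, hr⟩ | ⟨a, hal, b, hbl, hr⟩
      · have hab : a ≠ b := fun h => hr (h ▸ refl' a)
        obtain ⟨B, hB, hB2⟩ := Finset.exists_subset_card_eq (s := L) (n := 2) (by omega)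
        refine lone {a, b} B (by simp [Finset.insert_subset_iff, hak, hbk]) hB (by simp [Finset.card_pair hab, hB2])
          (by simp [Finset.card_pair hab]; omega) (by omega) a (by simp) fun y hy hya hr' => ?_
        simp [hya] at hy
        rcases hy with rfl | hy
        · exact hr hr'
        · exact hcross a hak y (hB hy) hr'.symm
      · have hab : a ≠ b := fun h => hr (h ▸ refl' a)
        obtain ⟨A, hA, hA2⟩ := Finset.exists_subset_card_eq (s := K) (n := 2) (by omega)
        refine lone A {a, b} hA (by simp [Finset.insert_subset_iff, hal, hbl]) (by simp [Finset.card_pair hab, hA2])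
          (by omega) (by simp [Finset.card_pair hab]; omega) a (by simp) fun y hy hya hr' => ?_
        simp [hya] at hy
        rcases hy with h | h
        · exact hr (h ▸ hr')
        · exact hcross y (hA h) a hal hr'
    · push Not at hnr
      obtain ⟨k₀, hk₀⟩ := Finset.card_pos.1 (show 0 < K.card by omega)
      obtain ⟨r, hr, hr0, hrk⟩ : ∃ r, InP p q r ∧ r ≠ 0 ∧ r k₀ = 0 := by
        refine ⟨q k₀ • p + (-(p k₀)) • q, ⟨_, _, rfl⟩, fun h => ?_, by simp; ring⟩
        have h1 := congrArg (fun v => v ⬝ᵥ p) h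
        have h3 := congrArg (fun v => v ⬝ᵥ q) h
        simp [P.pq, dotProduct_comm q p, P.pp, P.qq] at h1 h3
        exact hnz k₀ ⟨h3, h1⟩
      have hrK : ∀ c ∈ K, r c = 0 := fun c hc => hrel0 r hr k₀ c (hnr.1 k₀ hk₀ c hc) hrk
      refine hG (P.goodA_of_disjoint C hw hr hw0 (fun c => ?_) (S := L) (by omega) fun c hc hc0 => ?_)
      · by_cases hwc : w c = 0
        · exact Or.inl hwc
        · exact Or.inr (hrK c (by simp [hK, hwc]))
      · refine hr0 (funext fun u => ?_)
        by_cases hu : u ∈ K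
        · exact hrK u hu
        · exact hrel0 r hr c u (hnr.2 c hc u (by simp [hLdef, hu])) hc0
  obtain ⟨a, ha⟩ : ∃ a, w a ≠ 0 := by by_contra hc; push Not at hc; exact hw0 (funext hc)
  obtain ⟨b, hba, hb⟩ : ∃ b, b ≠ a ∧ w b ≠ 0 := by
    by_contra h
    push Not at h
    refine hcoord a ?_
    have : w = w a • bv a := funext fun l => by
      by_cases hl : l = a
      · subst hl; simp
      · simp [bv_ne hl, h l hl]
    have h' := hw.smul (w a)⁻¹
    rwa [this, smul_smul, Pi.smul_apply, bv_self, smul_eq_mul, mul_one, inv_mul_cancel₀ ha, one_smul] at h'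
  have hKab : ∀ c, w c ≠ 0 → c = a ∨ c = b := fun c hc => by
    by_contra h
    push Not at h
    refine hk3 ?_
    have : ({a, b, c} : Finset (Fin n)) ⊆ K := fun u hu => by
      simp at hu; rcases hu with rfl | rfl | rfl <;> simp [hK, *]
    have := Finset.card_le_card this
    rw [Finset.card_eq_three.2 ⟨a, b, c, hba.symm, h.1.symm, h.2.symm, rfl⟩] at this
    omega
  have haK : a ∈ K := by simp [hK, ha]
  have hbK : b ∈ K := by simp [hK, hb]
  have haT : a ∉ T := fun h => hKL a haK (hTs h)
  have hbT : b ∉ T := fun h => hKL b hbK (hTs h)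
  have short : ∀ (T : Finset (Fin n)), T.card ≤ 4 → ∀ v x y, InP p q v →
      (∀ c ∉ T, c ≠ x → c ≠ y → v c = 0) → ∃ t : F, v = t • w := by
    intro T hT v x y hv h
    obtain ⟨j, hj, hj'⟩ : ∃ j ∈ L, j ∉ insert x (insert y T) :=
      Finset.exists_mem_notMem_of_card_lt_card (by
        have := Finset.card_insert_le x (insert y T)
        have := Finset.card_insert_le y T
        omega)
    simp only [Finset.mem_insert, not_or] at hj'
    exact P.prop_of_zero hw hv hw0 (hL j hj).1 (hL j hj).2 (h j hj'.2.2 hj'.1 hj'.2.1)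
  -- the short vector is a root
  obtain ⟨e, he, hwe⟩ : ∃ e : F, e * e = 1 ∧ w b = e * w a := by
    have hPT : ∀ v, InP p q v → (∀ c ∉ T, v c = 0) → v = 0 := fun v hv h => by
      obtain ⟨t, rfl⟩ := short T hT.le v a a hv fun c hc _ _ => h c hc
      have := h a haT
      rw [Pi.smul_apply, smul_eq_mul, mul_eq_zero] at this
      rw [this.resolve_right ha, zero_smul]
    rcases Z.quiet_or_root C ha hb hba haT hbT hKab (short T hT.le) with hq | h
    · exact absurd (collinear T hT hTs z Z hq (Z.fixP C hq hPT)) id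
    · exact h
  obtain ⟨r, hr, hr0, hwr⟩ := P.exists_other hw hw0
  have hr_rel : r a + e * r b = 0 := by
    have hsum := dot_two (v := r) hba hKab
    rw [hwr, hwe] at hsum
    exact (mul_eq_zero.1 (show w a * (r a + e * r b) = 0 by linear_combination -hsum)).resolve_left ha
  have hww : w ⬝ᵥ w ≠ 0 := by
    rw [dot_two hba hKab, hwe, show w a * w a + e * w a * (e * w a) = 2 * (w a * w a) by linear_combination (w a * w a) * he]
    exact mul_ne_zero h2 (mul_ne_zero ha ha)
  have hrL : ∀ j ∈ L, r j ≠ 0 := fun j hj h => by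
    obtain ⟨t, ht⟩ := P.prop_of_zero hw hr hw0 (hL j hj).1 (hL j hj).2 h
    have hwr' := hwr
    rw [ht, dotProduct_smul, smul_eq_mul, mul_eq_zero] at hwr'
    exact hr0 (by rw [ht, hwr'.resolve_right hww, zero_smul])
  by_cases hr_a : r a = 0
  · have hrb : r b = 0 := by
      rw [hr_a, zero_add, mul_eq_zero] at hr_rel
      exact hr_rel.resolve_left (fun h => by simp [h] at he)
    refine hG (P.goodA_of_disjoint C hw hr hw0 (fun c => ?_) (S := L) (by omega) hrL)
    by_cases hwc : w c = 0
    · exact Or.inl hwc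
    · exact Or.inr (by rcases hKab c hwc with rfl | rfl <;> assumption)
  -- now `T' = {a, b, l, l'}`
  obtain ⟨l, hl, l', hl', hll⟩ := Finset.one_lt_card.1 (show 1 < L.card by omega)
  have nal : a ≠ l := fun h => hKL a haK (h ▸ hl)
  have nal' : a ≠ l' := fun h => hKL a haK (h ▸ hl')
  have nbl : b ≠ l := fun h => hKL b hbK (h ▸ hl)
  have nbl' : b ≠ l' := fun h => hKL b hbK (h ▸ hl')
  have hT' : ({a, b, l, l'} : Finset (Fin n)).card = 4 :=
    Finset.card_eq_four.2 ⟨a, b, l, l', hba.symm, nal, nal', nbl, nbl', hll, rfl⟩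
  rcases P.good_or_comm C (by omega) hT' with h | ⟨z, Z⟩
  · exact hG h.1
  obtain ⟨π, ε, hε, hπ, hco, hinv, hπT⟩ := Z.spec C
  set T' : Finset (Fin n) := {a, b, l, l'} with hT'def
  have hq : ∀ c ∉ T', z (bv c) = bv c := Z.quiet_of C fun v x y hv h c hc => by
    obtain ⟨t, rfl⟩ := short T' hT'.le v x y hv h
    simp [hT'def] at hc
    by_cases hwc : w c = 0
    · simp [hwc]
    · rcases hKab c hwc with e | e
      · exact absurd e hc.1
      · exact absurd e hc.2.1
  have hsupp : ∀ v, InP p q v → (∀ c ∉ T', v c = 0) → ∃ t : F, v = t • w := fun v hv h =>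
    short T' hT'.le v a a hv fun c hc _ _ => h c hc
  have hout0 : ∀ (v : Fin n → F), ∀ c ∉ T', z v c = v c := fun v c hc => by
    have := dot_orth h2 (C.mem_orth Z.mem) v (bv c)
    rwa [hq c hc, dot_bv, dot_bv] at this
  obtain ⟨lam, hzw⟩ := hsupp (z w) (Z.pres w hw) fun c hc => by
    rw [hout0 w c hc]
    simp [hT'def] at hc
    by_contra hwc
    rcases hKab c hwc with e | e
    · exact hc.1 e
    · exact hc.2.1 e
  have hzr : z r = r := by
    obtain ⟨t, ht⟩ := hsupp (z r - r) ((Z.pres r hr).sub hr) fun c hc => by rw [Pi.sub_apply, hout0 r c hc, sub_self]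
    have hlam : lam ≠ 0 := fun h => hw0 (by
      rw [← Z.invol w, hzw, h, zero_smul, map_zero])
    have h1 := dot_orth h2 (C.mem_orth Z.mem) w r
    rw [hwr, hzw, show z r = r + t • w by rw [← ht]; abel, smul_dotProduct, dotProduct_add, dotProduct_smul, hwr,
      zero_add, smul_eq_mul, smul_eq_mul, mul_eq_zero, or_iff_right hlam, mul_eq_zero] at h1
    rw [← sub_eq_zero, ht, h1.resolve_right hww, zero_smul]
  have hrc : ∀ i, ε i * r i = r (π i) := fun i => by rw [← hco r i, hzr]
  have hεne : ∀ i, ε i ≠ 0 := fun i h => by have := hε i; simp [h] at this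
  have hab_pres : ∀ i, (i = a ∨ i = b) → π i = a ∨ π i = b := fun i hi => by
    refine hKab (π i) fun h => ?_
    have h1 := hco w i
    rw [hzw, Pi.smul_apply, h, smul_zero, eq_comm, mul_eq_zero] at h1
    rcases hi with rfl | rfl
    · exact (h1.resolve_left (hεne _)) |> ha
    · exact (h1.resolve_left (hεne _)) |> hb
  -- `l` and `l'` are fixed
  have hlfix : ∀ u u', u ∈ L → ({u, u'} : Finset (Fin n)) = {l, l'} → z (bv u) = bv u := by
    intro u u' hu huu
    have huT : u ∈ T' := by
      have : u ∈ ({u, u'} : Finset (Fin n)) := by simp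
      rw [huu] at this
      simp [hT'def] at this ⊢; tauto
    by_cases hpu : π u = u
    · have := hrc u
      rw [hpu, ← sub_eq_zero, ← sub_one_mul, mul_eq_zero, sub_eq_zero] at this
      rw [hπ, hpu, this.resolve_right (hrL u hu), one_smul]
    exfalso
    have hpu' := (hπT u).2 huT
    have hpa : π u ≠ a ∧ π u ≠ b := by
      constructor <;> intro h
      · have hπa : π a = u := by rw [← h]; exact (hinv u).1
        rcases hab_pres a (Or.inl rfl) with e | e <;> rw [hπa] at e
        · exact hKL a haK (e ▸ hu)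
        · exact hKL b hbK (e ▸ hu)
      · have hπb : π b = u := by rw [← h]; exact (hinv u).1
        rcases hab_pres b (Or.inr rfl) with e | e <;> rw [hπb] at e
        · exact hKL a haK (e ▸ hu)
        · exact hKL b hbK (e ▸ hu)
    obtain ⟨ζ, hζ, hsc⟩ := Z.scalar
    set d : Fin n → F := r u • (bv a + (-e) • bv b) + (-(2 * r a)) • bv u with hd
    have hdT : ∀ c ∉ T', d c = 0 := fun c hc => by
      have : c ≠ u := fun e => hc (e ▸ huT)
      simp [hT'def] at hc
      simp [hd, bv_ne hc.1, bv_ne hc.2.1, bv_ne this]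
    have hdw : d ⬝ᵥ w = 0 := by
      simp [hd, add_dotProduct, smul_dotProduct, (hL u hu).2, hwe]
      linear_combination -(r u * w a) * he
    have hdr : d ⬝ᵥ r = 0 := by
      simp [hd, add_dotProduct, smul_dotProduct]
      linear_combination (-(r u)) * hr_rel
    have hperp : ∀ v, InP p q v → d ⬝ᵥ v = 0 := fun v hv => by
      -- `w` and `r` span the plane
      obtain ⟨t, ht⟩ := P.prop_of_zero hw (hv.sub (hr.smul (v u / r u))) hw0 (hL u hu).1 (hL u hu).2
        (by simp [div_mul_cancel₀ _ (hrL u hu)])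
      rw [show v = t • w + (v u / r u) • r by rw [← ht]; abel, dotProduct_add, dotProduct_smul, dotProduct_smul, hdw, hdr]
      simp
    have h1 := congrFun (hsc d hdT (hperp p (inP_left p q)) (hperp q (inP_right p q))) u
    have h4 : z d u = ε (π u) * d (π u) := by
      have := hco d (π u)
      rwa [(hinv u).1] at this
    have h5 : d (π u) = 0 := by
      simp [hd, bv_ne hpa.1, bv_ne hpa.2, bv_ne hpu]
    have hua : u ≠ a := fun e => hKL a haK (e ▸ hu)
    have hub : u ≠ b := fun e => hKL b hbK (e ▸ hu)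
    rw [h4, h5, mul_zero, Pi.smul_apply, smul_eq_mul,
      show d u = -(2 * r a) by simp [hd, bv_ne hua, bv_ne hub]] at h1
    exact mul_ne_zero (show ζ ≠ 0 from fun h => by simp [h] at hζ) (neg_ne_zero.2 (mul_ne_zero h2 hr_a)) h1.symm
  have hl1 := hlfix l l' hl rfl
  have hl2 := hlfix l' l hl' (Finset.pair_comm _ _)
  obtain ⟨x, hx, hmv⟩ := Z.exists_moved hq
  have hrb0 : r b ≠ 0 := fun h => hr_a (by rw [h, mul_zero, add_zero] at hr_rel; exact hr_rel)
  have hfixself : ∀ i, (i = a ∨ i = b) → π i = i → z (bv i) = bv i := fun i hi hpi => by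
    have := hrc i
    rw [hpi, ← sub_eq_zero, ← sub_one_mul, mul_eq_zero, sub_eq_zero] at this
    have hri : r i ≠ 0 := by rcases hi with rfl | rfl <;> assumption
    rw [hπ, hpi, this.resolve_right hri, one_smul]
  have hxab : x = a ∨ x = b := by
    simp [hT'def] at hx
    rcases hx with h | h | h | h
    · exact Or.inl h
    · exact Or.inr h
    · exact absurd (h ▸ hl1) hmv
    · exact absurd (h ▸ hl2) hmv
  have hxne : π x ≠ x := fun h => hmv (hfixself x hxab h)
  refine Z.not_one_pair C hxne (hε x) (hπ x) (by rw [hπ, (hinv x).1, (hinv x).2]) fun c hcx hcp => ?_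
  by_cases hc : c ∈ T'
  swap
  · exact hq c hc
  simp [hT'def] at hc
  rcases hc with rfl | rfl | rfl | rfl
  · rcases hxab with rfl | rfl
    · exact absurd rfl hcx
    · rcases hab_pres x (Or.inr rfl) with h | h
      · exact absurd h.symm hcp
      · exact absurd h hxne
  · rcases hxab with rfl | rfl
    · rcases hab_pres x (Or.inl rfl) with h | h
      · exact absurd h hxne
      · exact absurd h.symm hcp
    · exact absurd rfl hcx
  · exact hl1
  · exact hl2

end Plane

/-- In odd dimension `-rf (bv i)` is a product of pairs of frame reflections. -/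
theorem Ctx.normal_bv {N : Subgroup ((Fin n → F) ≃ₗ[F] (Fin n → F))} (C : Ctx N) (ho : Odd n) (i : Fin n) :
    ∀ y ∈ N, rf (bv i) * y * (rf (bv i))⁻¹ ∈ N := by
  have key : ∀ m (S : Finset (Fin n)), S.card = 2 * m →
      ∃ g ∈ N, ∀ l, g (bv l) = if l ∈ S then -(bv l) else bv l := by
    intro m
    induction m with
    | zero => exact fun S hS => ⟨1, one_mem _, fun l => by rw [Finset.card_eq_zero.1 (by omega : S.card = 0)]; simp⟩
    | succ m ih =>
      intro S hS
      obtain ⟨a, ha, b, hb, hab⟩ := Finset.one_lt_card.1 (show 1 < S.card by omega)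
      obtain ⟨g, hg, hg'⟩ := ih ((S.erase a).erase b) (by
        rw [Finset.card_erase_of_mem (Finset.mem_erase.2 ⟨hab.symm, hb⟩), Finset.card_erase_of_mem ha]; omega)
      refine ⟨g * (rf (bv a) * rf (bv b)), mul_mem hg (C.pair_mem ⟨a, Or.inl rfl⟩ ⟨b, Or.inl rfl⟩
        (by rw [bv_norm, bv_norm]; exact ⟨1, rfl⟩)), fun l => ?_⟩
      rw [LinearEquiv.mul_apply, LinearEquiv.mul_apply]
      by_cases hla : l = a
      · subst hla
        rw [rf_fix (x := bv l) (v := bv b) (by simp [bv_ne hab, bv_ne hab.symm]), rf_self_neg (by simp), map_neg, hg',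
          if_pos ha, if_neg (by simp)]
      by_cases hlb : l = b
      · subst hlb
        rw [rf_self_neg (v := bv l) (by simp), map_neg, rf_fix (by simp [bv_ne hab, bv_ne hab.symm]), map_neg, hg',
          if_pos hb, if_neg (by simp)]
      rw [rf_fix (x := bv l) (v := bv b) (by simp [bv_ne hlb, bv_ne (Ne.symm hlb)]),
        rf_fix (x := bv l) (v := bv a) (by simp [bv_ne hla, bv_ne (Ne.symm hla)]), hg']
      simp [hla, hlb]
  obtain ⟨m, hm⟩ := ho
  obtain ⟨g, hg, hg'⟩ := key m (Finset.univ.erase i) (by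
    rw [Finset.card_erase_of_mem (Finset.mem_univ i), Finset.card_univ, Fintype.card_fin]; omega)
  have hgr : ∀ v, g v = -(rf (bv i) v) := fun v => by
    rw [sum_bv v, map_sum, map_sum, ← Finset.sum_neg_distrib]
    refine Finset.sum_congr rfl fun l _ => ?_
    rw [map_smul, map_smul, ← smul_neg, hg']
    congr 1
    by_cases hl : l = i
    · subst hl; rw [rf_self_neg (by simp)]; simp
    · rw [rf_fix (x := bv l) (by simp [bv_ne hl, bv_ne (Ne.symm hl)])]; simp [hl]
  intro y hy
  have h := mul_mem (mul_mem hg hy) (inv_mem hg)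
  convert h using 1
  rw [eq_mul_inv_iff_mul_eq]
  refine LinearEquiv.ext fun v => ?_
  have hrr : ∀ v : Fin n → F, rf (bv i) (rf (bv i) v) = v := fun v => by
    show (rf (bv i) * rf (bv i) : (Fin n → F) ≃ₗ[F] (Fin n → F)) v = v
    rw [rf_mul_self]; rfl
  simp only [LinearEquiv.mul_apply, rf_inv, hgr, map_neg, hrr]

/-- Every root reflection normalises. -/
theorem Ctx.normal {N : Subgroup ((Fin n → F) ≃ₗ[F] (Fin n → F))} (C : Ctx N) (hn : 10 ≤ n) {ρ : Fin n → F}
    (hρ : IsB ρ) : ∀ y ∈ N, rf ρ * y * (rf ρ)⁻¹ ∈ N := by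
  obtain ⟨p, q, P⟩ := exists_plane C
  refine C.normalises_all ?_ (P.goodB C (by omega)) hρ
  obtain ⟨x, hx, hxm, i, hfix⟩ := P.goodA C hn
  exact ⟨i, C.normalises ⟨i, Or.inl rfl⟩ hx hxm hfix⟩

end CfsgLib.OrthFrame
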