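import Cfsg.Agent.Lib.OrthFrame.Norm

/-!
In odd dimension root reflections normalise, without any lower bound on the dimension beyond seven.
-/

set_option autoImplicit false
set_option linter.unusedSectionVars false

open scoped Classical

namespace CfsgLib.OrthFrame

open QuadraticMap CfsgLib.Geometry

variable {F : Type*} [Field F] [Finite F] {n : ℕ}

/-- The group generated by `N` and one reflection of the frame. -/
def extGroup {N : Subgroup ((Fin n → F) ≃ₗ[F] (Fin n → F))} (C : Ctx N)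
    (hA : ∀ (i : Fin n), ∀ y ∈ N, rf (bv i) * y * (rf (bv i))⁻¹ ∈ N) (i : Fin n) :
    Subgroup ((Fin n → F) ≃ₗ[F] (Fin n → F)) where
  carrier := {g | g ∈ N ∨ g * rf (bv i) ∈ N}
  one_mem' := Or.inl (one_mem _)
  mul_mem' := by
    have hn : ∀ y ∈ N, rf (bv i) * y * rf (bv i) ∈ N := fun y hy => by
      have := hA i y hy; rwa [rf_inv] at this
    have hr : rf (bv i : Fin n → F) * rf (bv i) = 1 := rf_mul_self _
    rintro g h (hg | hg) (hh | hh)
    · exact Or.inl (mul_mem hg hh)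
    · exact Or.inr (by rw [mul_assoc]; exact mul_mem hg hh)
    · refine Or.inr ?_
      rw [show g * h * rf (bv i) = g * rf (bv i) * ((rf (bv i))⁻¹ * h * rf (bv i)) by group, rf_inv]
      exact mul_mem hg (hn h hh)
    · refine Or.inl ?_
      rw [show g * h = g * rf (bv i) * ((rf (bv i))⁻¹ * (h * rf (bv i)) * (rf (bv i))⁻¹) by group, rf_inv]
      exact mul_mem hg (hn _ hh)
  inv_mem' := by
    rintro g (hg | hg)
    · exact Or.inl (inv_mem hg)
    · refine Or.inr ?_
      have := hA i _ (inv_mem hg)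
      rwa [show rf (bv i) * (g * rf (bv i))⁻¹ * (rf (bv i))⁻¹ = rf (bv i) * (rf (bv i))⁻¹ * g⁻¹ * (rf (bv i))⁻¹ by group,
        mul_inv_cancel, one_mul, rf_inv] at this

/-- Without a square root of two a norm-one column of a map either has one entry or is no root. -/
theorem rootLike_one (hns : ¬ IsSquare (2 : F)) {r : Fin n → F} (h1 : r ⬝ᵥ r = 1) (hr : RootLike r) :
    ∃ (m : Fin n) (a : F), r = a • bv m := by
  obtain ⟨ρ, a, hρ, rfl⟩ := hr
  rcases isB_norm hρ with hd | hd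
  · obtain ⟨m, rfl | ⟨j, hj, hv⟩⟩ := hρ
    · exact ⟨m, a, rfl⟩
    · exfalso
      rcases hv with rfl | rfl
      · have h3 := pair_norm (n := n) hj (e := (1 : F)) (one_mul 1)
        rw [one_smul, hd] at h3
        exact one_ne_zero (show (1 : F) = 0 by linear_combination -h3)
      · have h3 := pair_norm (n := n) hj (e := (-1 : F)) (by ring)
        rw [neg_one_smul, ← sub_eq_add_neg, hd] at h3
        exact one_ne_zero (show (1 : F) = 0 by linear_combination -h3)
  · rw [smul_dotProduct, dotProduct_smul, hd, smul_eq_mul, smul_eq_mul] at h1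
    have ha : a ≠ 0 := fun h => by simp [h] at h1
    exact absurd ⟨a⁻¹, by field_simp; linear_combination h1⟩ hns

theorem Ctx.normal_pair_of {N : Subgroup ((Fin n → F) ≃ₗ[F] (Fin n → F))} (C : Ctx N)
    (hA : ∀ (i : Fin n), ∀ y ∈ N, rf (bv i) * y * (rf (bv i))⁻¹ ∈ N)
    (hns : ¬ IsSquare (2 : F)) :
    ∃ (i j : Fin n) (e : F), j ≠ i ∧ e * e = 1 ∧
      ∀ y ∈ N, rf (bv i + e • bv j) * y * (rf (bv i + e • bv j))⁻¹ ∈ N := by
  haveI : Finite ((Fin n → F) ≃ₗ[F] (Fin n → F)) :=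
    Finite.of_injective (fun g : (Fin n → F) ≃ₗ[F] (Fin n → F) => (g : (Fin n → F) → (Fin n → F)))
      DFunLike.coe_injective
  have h2 := C.two
  have hn := C.big
  let i₀ : Fin n := ⟨0, by omega⟩
  let R := extGroup C hA i₀
  have hbv : ∀ l, rf (bv l) ∈ R := fun l =>
    Or.inr (C.pair_mem ⟨l, Or.inl rfl⟩ ⟨i₀, Or.inl rfl⟩ (by simp))
  have hNR : ∀ g ∈ N, g ∈ R := fun g hg => Or.inl hg
  have horth : ∀ g ∈ R, g ∈ orth (qf n F) := by
    rintro g (hg | hg)
    · exact C.mem_orth hg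
    · have := mul_mem (C.mem_orth hg) (rf_mem_orth (bv i₀))
      rwa [mul_assoc, rf_mul_self, mul_one] at this
  have hcol1 : ∀ z ∈ R, ∀ l, z (bv l) ⬝ᵥ z (bv l) = 1 := fun z hz l => by
    rw [dot_orth_self (horth z hz), bv_norm]
  by_contra hG
  -- a column off the frame has distinct squares
  have hbad : ∀ y ∈ R, ∀ l, ¬ RootLike (y (bv l)) →
      ∀ i j, j ≠ i → y (bv l) i * y (bv l) i ≠ y (bv l) j * y (bv l) j := by
    intro y hy l hr i j hij heq
    set r := y (bv l) with hrdef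
    have hg : rf r ∈ R := by
      rw [hrdef, ← rf_conj (horth y hy)]; exact mul_mem (mul_mem hy (hbv l)) (inv_mem hy)
    have hgm : ¬ Mono (rf r) := fun h => hr (mono_rootLike h2 (by rw [hcol1 y hy]; exact one_ne_zero) h)
    obtain ⟨e, he, hperp⟩ : ∃ e : F, e * e = 1 ∧ r i + e * r j = 0 := by
      rcases mul_self_eq_mul_self_iff.1 heq with h | h
      · exact ⟨-1, by ring, by rw [h]; ring⟩
      · exact ⟨1, one_mul 1, by rw [h]; ring⟩
    have hfix : rf r (bv i + e • bv j) = bv i + e • bv j := rf_fix (by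
      rw [add_dotProduct, smul_dotProduct, bv_dot, bv_dot, smul_eq_mul, hperp])
    refine hG ⟨i, j, e, hij, he, ?_⟩
    rcases hg with hg | hg
    · exact C.normalises (isB_pair hij he) hg hgm (Or.inl hfix)
    obtain ⟨k, -, hk⟩ : ∃ k ∈ Finset.univ, k ∉ ({i, j} : Finset (Fin n)) :=
      Finset.exists_mem_notMem_of_card_lt_card (Finset.card_le_two.trans_lt (by simp; omega))
    simp only [Finset.mem_insert, Finset.mem_singleton, not_or] at hk
    have hx : rf r * rf (bv k) ∈ N := by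
      have := mul_mem hg (C.pair_mem (ρ := bv i₀) (σ := bv k) ⟨i₀, Or.inl rfl⟩ ⟨k, Or.inl rfl⟩ (by simp))
      rwa [mul_assoc, ← mul_assoc (rf (bv i₀)) (rf (bv i₀)), rf_mul_self, one_mul] at this
    refine C.normalises (isB_pair hij he) hx (fun h => hgm ?_) (Or.inl ?_)
    · have hm : rf r * rf (bv k) * rf (bv k) ∈ monoGroup h2 :=
        mul_mem ⟨mul_mem (rf_mem_orth r) (rf_mem_orth _), h⟩ (mono_rf h2 ⟨k, Or.inl rfl⟩)
      rw [mul_assoc, rf_mul_self, mul_one] at hm
      exact hm.2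
    · rw [LinearEquiv.mul_apply, rf_fix (x := bv i + e • bv j) (v := bv k)
        (by simp [bv_ne hk.1, bv_ne hk.2, bv_ne (Ne.symm hk.1), bv_ne (Ne.symm hk.2)]), hfix]
  have hmono : ∀ z ∈ R, ¬ Mono z → ∃ l, ¬ RootLike (z (bv l)) := by
    intro z hz hm
    by_contra h
    push Not at h
    exact hm fun l => rootLike_one hns (hcol1 z hz l) (h l)
  obtain ⟨x, hx, hxm⟩ := C.moved
  obtain ⟨a, ha⟩ := hmono x (hNR x hx) hxm
  set r := x (bv a)
  have hr := hbad x (hNR x hx) a ha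
  have hr1 : r ⬝ᵥ r = 1 := hcol1 x (hNR x hx) a
  have hzero : ∀ c d, c ≠ d → r c = 0 → r d ≠ 0 := fun c d hcd hc hd =>
    hr c d hcd.symm (by show r c * r c = r d * r d; rw [hc, hd])
  obtain ⟨i, hi⟩ : ∃ i, r i ≠ 0 := by
    by_contra h; push Not at h; exact hzero ⟨0, by omega⟩ ⟨1, by omega⟩ (by simp [Fin.ext_iff]) (h _) (h _)
  obtain ⟨j, hji, hj⟩ : ∃ j, j ≠ i ∧ r j ≠ 0 := by
    by_contra h
    push Not at h
    obtain ⟨c, -, hc⟩ : ∃ c ∈ Finset.univ, c ∉ ({i} : Finset (Fin n)) :=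
      Finset.exists_mem_notMem_of_card_lt_card (by simp; omega)
    obtain ⟨d, -, hd⟩ : ∃ d ∈ Finset.univ, d ∉ ({i, c} : Finset (Fin n)) :=
      Finset.exists_mem_notMem_of_card_lt_card (Finset.card_le_two.trans_lt (by simp; omega))
    simp at hc hd
    exact hzero c d (Ne.symm hd.2) (h c hc) (h d hd.1)
  set s := rf r
  set t : (Fin n → F) ≃ₗ[F] (Fin n → F) := rf (bv i) * rf (bv j)
  have hrr : r ⬝ᵥ r ≠ 0 := by rw [hr1]; exact one_ne_zero
  have hsR : s ∈ R := by
    show rf (x (bv a)) ∈ R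
    rw [← rf_conj (C.mem_orth hx)]
    exact mul_mem (mul_mem (hNR x hx) (hbv a)) (inv_mem (hNR x hx))
  have htR : t ∈ R := mul_mem (hbv i) (hbv j)
  have hb0 : ∀ c d : Fin n, c ≠ d → (bv c : Fin n → F) ⬝ᵥ bv d = 0 := fun c d h => by simp [bv_ne h, bv_ne h.symm]
  have tin : ∀ l, l = i ∨ l = j → t (bv l) = -bv l := by
    rintro l (rfl | rfl)
    · rw [LinearEquiv.mul_apply, rf_fix (hb0 _ _ hji.symm), rf_self_neg (by simp)]
    · rw [LinearEquiv.mul_apply, rf_self_neg (by simp), map_neg, rf_fix (hb0 _ _ hji)]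
  have tout : ∀ l, l ≠ i → l ≠ j → t (bv l) = bv l := fun l hli hlj => by
    rw [LinearEquiv.mul_apply, rf_fix (hb0 _ _ hlj), rf_fix (hb0 _ _ hli)]
  have tcoord : ∀ (v : Fin n → F) l, t v l = if l = i ∨ l = j then -v l else v l := by
    intro v l
    conv_lhs => rw [sum_bv v, map_sum, Finset.sum_apply]
    rw [Finset.sum_eq_single l]
    · rw [map_smul]
      split_ifs with hl
      · rw [tin l hl]; simp
      · push Not at hl; rw [tout l hl.1 hl.2]; simp
    · intro c _ hc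
      rw [map_smul]
      by_cases hcT : c = i ∨ c = j
      · rw [tin c hcT]; simp [bv_ne (Ne.symm hc)]
      · push Not at hcT; rw [tout c hcT.1 hcT.2]; simp [bv_ne (Ne.symm hc)]
    · simp
  have hneg : ∀ v : Fin n → F, s v = -v → ∃ c : F, v = c • r := by
    intro v hv
    refine ⟨2⁻¹ * ((r ⬝ᵥ r)⁻¹ * (2 * (v ⬝ᵥ r))), funext fun l => ?_⟩
    have h := congrFun ((rf_apply hrr v).symm.trans hv) l
    simp only [Pi.sub_apply, Pi.smul_apply, Pi.neg_apply, smul_eq_mul] at h ⊢
    refine mul_left_cancel₀ h2 ?_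
    rw [← mul_assoc, ← mul_assoc, mul_inv_cancel₀ h2, one_mul]
    linear_combination h
  have hne : ¬ IsConj s t := by
    intro hst
    obtain ⟨g, hg⟩ := isConj_iff.1 hst
    have hm : ∀ l, l = i ∨ l = j → ∃ c : F, bv l = c • g r := by
      intro l hl
      have h1 : s (g.symm (bv l)) = -g.symm (bv l) := by
        apply g.injective
        rw [map_neg, g.apply_symm_apply, ← tin l hl, ← hg]
        rfl
      obtain ⟨c, hc⟩ := hneg _ h1
      exact ⟨c, by rw [← map_smul, ← hc, g.apply_symm_apply]⟩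
    obtain ⟨c, hc⟩ := hm i (Or.inl rfl)
    obtain ⟨d, hd⟩ := hm j (Or.inr rfl)
    have h1 := congrFun hc i
    have h2' := congrFun hd i
    have h3 := congrFun hd j
    rw [bv_self, Pi.smul_apply, smul_eq_mul] at h1 h3
    rw [bv_ne hji.symm, Pi.smul_apply, smul_eq_mul, eq_comm, mul_eq_zero] at h2'
    rcases h2' with h | h
    · rw [h, zero_mul] at h3; exact one_ne_zero h3
    · rw [h, mul_zero] at h1; exact one_ne_zero h1
  have htt : t * t = 1 := LinearEquiv.ext fun v => funext fun l => by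
    rw [LinearEquiv.mul_apply, tcoord, tcoord]
    split_ifs <;> simp
  obtain ⟨z, hz, hzz, hz1, hzs, hzt⟩ := CfsgLib.UnMono.exists_central (rf_mul_self r) htt hne
  have hzR : z ∈ R := by
    have h : Subgroup.closure ({s, t} : Set _) ≤ R := by
      rw [Subgroup.closure_le]
      rintro _ (rfl | rfl)
      · exact hsR
      · exact htR
    exact h hz
  have hzin : ∀ l, l = i ∨ l = j → ∀ m, m ≠ i → m ≠ j → z (bv l) m = 0 := by
    intro l hl m hmi hmj
    have h := congrArg (fun g : (Fin n → F) ≃ₗ[F] (Fin n → F) => g (bv l) m) hzt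
    simp only [LinearEquiv.mul_apply] at h
    rw [tin l hl, map_neg, Pi.neg_apply, tcoord, if_neg (by simp [hmi, hmj])] at h
    exact (mul_eq_zero.1 (show (2 : F) * z (bv l) m = 0 by linear_combination -h)).resolve_left h2
  have hzout : ∀ l, l ≠ i → l ≠ j → ∀ m, m = i ∨ m = j → z (bv l) m = 0 := by
    intro l hli hlj m hm
    have h := congrArg (fun g : (Fin n → F) ≃ₗ[F] (Fin n → F) => g (bv l) m) hzt
    simp only [LinearEquiv.mul_apply] at h
    rw [tout l hli hlj, tcoord, if_pos hm] at h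
    exact (mul_eq_zero.1 (show (2 : F) * z (bv l) m = 0 by linear_combination h)).resolve_left h2
  have hzm : Mono z := by
    by_contra h
    obtain ⟨l, hl⟩ := hmono z hzR h
    have hb := hbad z hzR l hl
    by_cases hT : l = i ∨ l = j
    · obtain ⟨c, -, hc⟩ : ∃ c ∈ Finset.univ, c ∉ ({i, j} : Finset (Fin n)) :=
        Finset.exists_mem_notMem_of_card_lt_card (Finset.card_le_two.trans_lt (by simp; omega))
      obtain ⟨d, -, hd⟩ : ∃ d ∈ Finset.univ, d ∉ ({i, j, c} : Finset (Fin n)) :=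
        Finset.exists_mem_notMem_of_card_lt_card (Finset.card_le_three.trans_lt (by simp; omega))
      simp at hc hd
      exact hb c d hd.2.2 (by rw [hzin l hT c hc.1 hc.2, hzin l hT d hd.1 hd.2.1])
    · push Not at hT
      exact hb i j hji (by rw [hzout l hT.1 hT.2 i (Or.inl rfl), hzout l hT.1 hT.2 j (Or.inr rfl)])
  have hzmv : ∀ v, ∃ u : F, ∀ l, l ≠ i → l ≠ j → v l - z v l = u * r l := by
    refine Subgroup.closure_induction
      (p := fun g _ => ∀ v, ∃ u : F, ∀ l, l ≠ i → l ≠ j → v l - g v l = u * r l) ?_ ?_ ?_ ?_ hz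
    · rintro g (rfl | rfl) v
      · exact ⟨(r ⬝ᵥ r)⁻¹ * (2 * (v ⬝ᵥ r)), fun l _ _ => by rw [rf_apply hrr]; simp⟩
      · exact ⟨0, fun l hli hlj => by rw [tcoord, if_neg (by simp [hli, hlj])]; ring⟩
    · exact fun v => ⟨0, fun l _ _ => by simp⟩
    · intro g h _ _ hg hh v
      obtain ⟨u, e1⟩ := hh v
      obtain ⟨u', e2⟩ := hg (h v)
      exact ⟨u + u', fun l h1 h1' => by rw [LinearEquiv.mul_apply]; linear_combination e1 l h1 h1' + e2 l h1 h1'⟩
    · intro g _ hg v
      obtain ⟨u, e⟩ := hg (g⁻¹ v)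
      refine ⟨-u, fun l h1 h1' => ?_⟩
      have e' := e l h1 h1'
      rw [show g (g⁻¹ v) = v from g.apply_symm_apply v] at e'
      linear_combination -e'
  obtain ⟨π, ε, hε, hπ, hco⟩ := mono_spec h2 (horth z hzR) hzm
  have hfix : ∀ l, l ≠ i → l ≠ j → π l = l ∧ ε l = 1 := by
    intro l hli hlj
    obtain ⟨u, hu⟩ := hzmv (bv l)
    have hu0 : u = 0 := by
      by_contra hu0
      have hzz : ∀ c, c ≠ i → c ≠ j → c ≠ l → c ≠ π l → r c = 0 := fun c h1 h1' h3 h4 => by
        have := hu c h1 h1'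
        rw [hπ, Pi.smul_apply, bv_ne h3, bv_ne h4] at this
        simpa [hu0] using this.symm
      by_cases hpl : π l ≠ i ∧ π l ≠ j ∧ π l ≠ l
      · -- two moved coordinates of `r` with equal squares
        obtain ⟨hpi, hpj, hpll⟩ := hpl
        have e1 := hu l hli hlj
        have e2 := hu (π l) hpi hpj
        rw [hπ, Pi.smul_apply, bv_self, bv_ne (Ne.symm hpll), smul_zero, sub_zero] at e1
        rw [hπ, Pi.smul_apply, bv_self, bv_ne hpll, smul_eq_mul, mul_one, zero_sub] at e2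
        refine hr l (π l) hpll ?_
        show r l * r l = r (π l) * r (π l)
        refine mul_left_cancel₀ (mul_ne_zero hu0 hu0) ?_
        linear_combination (-1 - u * r l) * e1 + (u * r (π l) - ε l) * e2 - hε l
      have hpl' : π l = i ∨ π l = j ∨ π l = l := by
        by_contra h
        push Not at h
        exact hpl h
      obtain ⟨c, -, hc⟩ : ∃ c ∈ Finset.univ, c ∉ ({i, j, l} : Finset (Fin n)) :=
        Finset.exists_mem_notMem_of_card_lt_card (Finset.card_le_three.trans_lt (by simp; omega))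
      obtain ⟨d, -, hd⟩ : ∃ d ∈ Finset.univ, d ∉ ({i, j, l, c} : Finset (Fin n)) :=
        Finset.exists_mem_notMem_of_card_lt_card (Finset.card_le_four.trans_lt (by simp; omega))
      simp at hc hd
      refine hzero c d (Ne.symm hd.2.2.2) (hzz c hc.1 hc.2.1 hc.2.2 fun e => ?_)
        (hzz d hd.1 hd.2.1 hd.2.2.1 fun e => ?_)
      · rcases hpl' with h | h | h <;> rw [h] at e
        exacts [hc.1 e, hc.2.1 e, hc.2.2 e]
      · rcases hpl' with h | h | h <;> rw [h] at e
        exacts [hd.1 e, hd.2.1 e, hd.2.2.1 e]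
    have := hu l hli hlj
    rw [hπ, Pi.smul_apply, bv_self, bv_apply, hu0, zero_mul] at this
    by_cases h : l = π l
    · rw [if_pos h, smul_eq_mul, mul_one, sub_eq_zero] at this
      exact ⟨h.symm, this.symm⟩
    · rw [if_neg h] at this; simp at this
  obtain ⟨c, hc⟩ := hneg (z r) (by
    have h := congrArg (fun g : (Fin n → F) ≃ₗ[F] (Fin n → F) => g r) hzs
    simp only [LinearEquiv.mul_apply] at h
    rw [show s r = -r from rf_self_neg hrr, map_neg] at h
    exact h.symm)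
  have hc1 : c = 1 := by
    obtain ⟨l, -, hl⟩ : ∃ l ∈ Finset.univ, l ∉ ({i, j} : Finset (Fin n)) :=
      Finset.exists_mem_notMem_of_card_lt_card (Finset.card_le_two.trans_lt (by simp; omega))
    obtain ⟨m, -, hm⟩ : ∃ m ∈ Finset.univ, m ∉ ({i, j, l} : Finset (Fin n)) :=
      Finset.exists_mem_notMem_of_card_lt_card (Finset.card_le_three.trans_lt (by simp; omega))
    simp at hl hm
    have key : ∀ l, l ≠ i → l ≠ j → r l ≠ 0 → c = 1 := fun l h1 h1' h0 => by
      have := hco r l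
      rw [hc, (hfix l h1 h1').1, (hfix l h1 h1').2, one_mul, Pi.smul_apply, smul_eq_mul] at this
      exact (mul_eq_right₀ h0).1 this
    by_cases h0 : r l = 0
    · exact key m hm.1 hm.2.1 (hzero l m (Ne.symm hm.2.2) h0)
    · exact key l hl.1 hl.2 h0
  refine hz1 (LinearEquiv.ext fun v => ?_)
  rw [sum_bv v, map_sum, map_sum]
  refine Finset.sum_congr rfl fun l _ => ?_
  rw [map_smul, map_smul]
  congr 1
  show z (bv l) = bv l
  have hone : ∀ l, (l = i ∨ l = j) → π l = l ∧ ε l = 1 := by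
    intro l hl
    have hrl : r l ≠ 0 := by rcases hl with rfl | rfl <;> assumption
    have hco' := hco r l
    rw [hc, hc1, one_smul] at hco'
    by_cases h : π l = l
    · rw [h] at hco'
      exact ⟨h, (mul_eq_right₀ hrl).1 hco'.symm⟩
    · exact absurd (by show r l * r l = r (π l) * r (π l); rw [hco']; linear_combination -(r l * r l) * hε l) (hr l (π l) h)
  by_cases hT : l = i ∨ l = j
  · rw [hπ, (hone l hT).1, (hone l hT).2, one_smul]
  · push Not at hT
    rw [hπ, (hfix l hT.1 hT.2).1, (hfix l hT.1 hT.2).2, one_smul]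

theorem Ctx.normal_pair {N : Subgroup ((Fin n → F) ≃ₗ[F] (Fin n → F))} (C : Ctx N) (ho : Odd n)
    (hns : ¬ IsSquare (2 : F)) :
    ∃ (i j : Fin n) (e : F), j ≠ i ∧ e * e = 1 ∧
      ∀ y ∈ N, rf (bv i + e • bv j) * y * (rf (bv i + e • bv j))⁻¹ ∈ N :=
  C.normal_pair_of (C.normal_bv ho) hns

/-- Every root reflection normalises in odd dimension. -/
theorem Ctx.normal_odd {N : Subgroup ((Fin n → F) ≃ₗ[F] (Fin n → F))} (C : Ctx N) (ho : Odd n) {ρ : Fin n → F}
    (hρ : IsB ρ) : ∀ y ∈ N, rf ρ * y * (rf ρ)⁻¹ ∈ N := by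
  have main : ∀ σ, IsB σ → IsSquare ((ρ ⬝ᵥ ρ) * (σ ⬝ᵥ σ)) →
      (∀ y ∈ N, rf σ * y * (rf σ)⁻¹ ∈ N) → ∀ y ∈ N, rf ρ * y * (rf ρ)⁻¹ ∈ N := by
    intro σ hσ hs hn y hy
    have h1 := C.pair_mem hρ hσ hs
    have h2 := mul_mem (mul_mem h1 (hn y hy)) (inv_mem h1)
    rwa [show rf ρ * rf σ * (rf σ * y * (rf σ)⁻¹) * (rf ρ * rf σ)⁻¹ =
      rf ρ * (rf σ * rf σ) * y * (rf σ * rf σ)⁻¹ * (rf ρ)⁻¹ by group, rf_mul_self, inv_one, mul_one, mul_one]
      at h2
  let i₀ : Fin n := ⟨0, by linarith [C.big]⟩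
  rcases isB_norm hρ with h | h
  · exact main _ ⟨i₀, Or.inl rfl⟩ (by rw [h, bv_norm]; exact ⟨1, rfl⟩) (C.normal_bv ho i₀)
  by_cases hs : IsSquare (2 : F)
  · exact main _ ⟨i₀, Or.inl rfl⟩ (by rw [h, bv_norm, mul_one]; exact hs) (C.normal_bv ho i₀)
  · obtain ⟨i, j, e, hji, he, hn⟩ := C.normal_pair ho hs
    exact main _ (isB_pair hji he) (by rw [h, pair_norm hji he]; exact ⟨2, rfl⟩) hn

end CfsgLib.OrthFrame
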