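import Cfsg.Agent.Lib.OrthFrame.Basic

/-!
Subgroups of `Ω` over the monomial one, and the invariants of products of reflections.
-/

set_option autoImplicit false
set_option linter.unusedSectionVars false

open scoped Classical

namespace CfsgLib.OrthFrame

open QuadraticMap CfsgLib.Geometry

variable {F : Type*} [Field F] [Finite F] {n : ℕ}

/-- `x` fixes the vector up to sign. -/
def Fix (x : (Fin n → F) ≃ₗ[F] (Fin n → F)) (v : Fin n → F) : Prop := x v = v ∨ x v = -v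

theorem Fix.conj {x : (Fin n → F) ≃ₗ[F] (Fin n → F)} (hx : x ∈ orth (qf n F)) {v : Fin n → F} (h : Fix x v) :
    x * rf v * x⁻¹ = rf v := by
  rw [rf_conj hx]
  rcases h with h | h
  · rw [h]
  · rw [h, ← neg_one_smul F v, rf_smul (neg_ne_zero.2 one_ne_zero)]

/-- A subgroup of `Ω` containing the monomial part, minimal among those which are not monomial. -/
structure Ctx (N : Subgroup ((Fin n → F) ≃ₗ[F] (Fin n → F))) : Prop where
  two : (2 : F) ≠ 0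
  big : 5 ≤ n
  le : N ≤ siegelGroup (qf n F)
  stab : ∀ g ∈ siegelGroup (qf n F), Mono g → g ∈ N
  moved : ∃ g ∈ N, ¬ Mono g
  min : ∀ N' : Subgroup ((Fin n → F) ≃ₗ[F] (Fin n → F)), N' ≤ N →
    (∀ g ∈ siegelGroup (qf n F), Mono g → g ∈ N') → (∃ g ∈ N', ¬ Mono g) → N' = N

section Omega

variable (h2 : (2 : F) ≠ 0) (h5 : 5 ≤ n)
include h2 h5

theorem reflGroup_qf : reflGroup (qf n F) = Geometry.orth (qf n F) :=
  reflGroup_eq_orth (qf_nondeg h2) (Or.inl (by simp; omega))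

theorem mem_siegel_iff {g : (Fin n → F) ≃ₗ[F] (Fin n → F)} (hg : g ∈ Geometry.orth (qf n F)) :
    g ∈ siegelGroup (qf n F) ↔
      orthInvariant (qf_nondeg h2) (reflGroup_qf h2 h5) ⟨g, hg⟩ = 1 := by
  rw [← mem_commutator_orth_iff, OrthMax.mem_commutator_iff_siegelGroup (qf_nondeg h2) (by simp; omega)]

theorem invariant_rf {v : Fin n → F} (hv : v ⬝ᵥ v ≠ 0) :
    orthInvariant (qf_nondeg h2) (reflGroup_qf h2 h5) ⟨rf v, rf_mem_orth v⟩ =
      (sqMk hv, Multiplicative.ofAdd 1) := by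
  have hv' : qf n F v ≠ 0 := by rwa [qf_apply]
  have e : (⟨rf v, rf_mem_orth v⟩ : Geometry.orth (qf n F)) = oRefl (qf n F) v hv' :=
    Subtype.ext (rf_eq hv')
  rw [e, orthInvariant_oRefl]
  simp only [qf_apply]

theorem rf_pair_mem {v w : Fin n → F} (hv : v ⬝ᵥ v ≠ 0) (hw : w ⬝ᵥ w ≠ 0)
    (hs : IsSquare ((v ⬝ᵥ v) * (w ⬝ᵥ w))) : rf v * rf w ∈ siegelGroup (qf n F) := by
  rw [mem_siegel_iff h2 h5 (mul_mem (rf_mem_orth v) (rf_mem_orth w))]
  show orthInvariant _ _ (⟨rf v, rf_mem_orth v⟩ * ⟨rf w, rf_mem_orth w⟩) = 1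
  rw [map_mul, invariant_rf h2 h5 hv, invariant_rf h2 h5 hw, Prod.mk_mul_mk]
  refine Prod.ext ?_ (show Multiplicative.ofAdd (1 : ZMod 2) * Multiplicative.ofAdd 1 = 1 by decide)
  show sqMk hv * sqMk hw = 1
  rw [← sqMk_mul, sqMk_eq_one_iff]
  exact hs

theorem rf_notMem {v : Fin n → F} (hv : v ⬝ᵥ v ≠ 0) : rf v ∉ siegelGroup (qf n F) := fun h => by
  rw [mem_siegel_iff h2 h5 (rf_mem_orth v), invariant_rf h2 h5 hv] at h
  exact absurd (congrArg Prod.snd h) (show ¬ Multiplicative.ofAdd (1 : ZMod 2) = 1 by decide)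

end Omega

theorem bv_norm (i : Fin n) : (bv i : Fin n → F) ⬝ᵥ bv i = 1 := by simp

theorem pair_norm {i j : Fin n} (h : j ≠ i) {e : F} (he : e * e = 1) :
    (bv i + e • bv j : Fin n → F) ⬝ᵥ (bv i + e • bv j) = 2 := by
  simp [add_dotProduct, dotProduct_add, smul_dotProduct, dotProduct_smul, bv_ne h, bv_ne h.symm, he,
    one_add_one_eq_two]

theorem isB_pair {i j : Fin n} (h : j ≠ i) {e : F} (he : e * e = 1) : IsB (bv i + e • bv j : Fin n → F) := by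
  rcases mul_self_eq_one_iff.1 he with rfl | rfl
  · exact ⟨i, Or.inr ⟨j, h, Or.inl (by rw [one_smul])⟩⟩
  · exact ⟨i, Or.inr ⟨j, h, Or.inr (by module)⟩⟩

theorem isB_norm {ρ : Fin n → F} (h : IsB ρ) : ρ ⬝ᵥ ρ = 1 ∨ ρ ⬝ᵥ ρ = 2 := by
  obtain ⟨i, rfl | ⟨j, hji, rfl | rfl⟩⟩ := h
  · exact Or.inl (bv_norm i)
  · exact Or.inr (by simpa using pair_norm hji (e := (1 : F)) (one_mul 1))
  · exact Or.inr (by simpa [sub_eq_add_neg] using pair_norm hji (e := (-1 : F)) (by ring))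

namespace Ctx

variable {N : Subgroup ((Fin n → F) ≃ₗ[F] (Fin n → F))} (C : Ctx N)
include C

theorem mem_orth {g : (Fin n → F) ≃ₗ[F] (Fin n → F)} (hg : g ∈ N) : g ∈ Geometry.orth (qf n F) :=
  siegelGroup_le_orth (C.le hg)

theorem pair_mem {ρ σ : Fin n → F} (hρ : IsB ρ) (hσ : IsB σ)
    (hs : IsSquare ((ρ ⬝ᵥ ρ) * (σ ⬝ᵥ σ))) : rf ρ * rf σ ∈ N :=
  C.stab _ (rf_pair_mem C.two (by linarith [C.big]) (isB_dot C.two hρ) (isB_dot C.two hσ) hs)
    (mul_mem (mono_rf C.two hρ) (mono_rf C.two hσ)).2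

/-- A reflection commuting with a non-monomial member normalises. -/
theorem normalises {ρ : Fin n → F} (hρ : IsB ρ) {x : (Fin n → F) ≃ₗ[F] (Fin n → F)} (hx : x ∈ N)
    (hxm : ¬ Mono x) (hfix : Fix x ρ) : ∀ y ∈ N, rf ρ * y * (rf ρ)⁻¹ ∈ N := by
  let N' : Subgroup ((Fin n → F) ≃ₗ[F] (Fin n → F)) := N ⊓ N.comap (MulAut.conj (rf ρ)).toMonoidHom
  have h : N' = N := by
    refine C.min N' inf_le_left (fun g hg hm => ⟨C.stab g hg hm, ?_⟩) ⟨x, ⟨hx, ?_⟩, hxm⟩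
    · exact C.stab _ (siegelGroup_normal (rf_mem_orth ρ) hg)
        (mul_mem (mul_mem (mono_rf C.two hρ) (show g ∈ monoGroup C.two from ⟨siegelGroup_le_orth hg, hm⟩))
          (inv_mem (mono_rf C.two hρ))).2
    · show rf ρ * x * (rf ρ)⁻¹ ∈ N
      have e := hfix.conj (C.mem_orth hx)
      have e' : x * rf ρ = rf ρ * x := by
        conv_rhs => rw [← e]
        group
      rw [← e', mul_assoc, mul_inv_cancel, mul_one]
      exact hx
  intro y hy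
  rw [← h] at hy
  exact hy.2

/-- A reflection of each class commutes with some non-monomial member. -/
theorem normalises_all
    (hA : ∃ i, ∀ y ∈ N, rf (bv i) * y * (rf (bv i))⁻¹ ∈ N)
    (hB : ∃ x ∈ N, ¬ Mono x ∧ ∃ (i j : Fin n) (e : F), j ≠ i ∧ e * e = 1 ∧ Fix x (bv i + e • bv j))
    {ρ : Fin n → F} (hρ : IsB ρ) : ∀ y ∈ N, rf ρ * y * (rf ρ)⁻¹ ∈ N := by
  have main : ∀ σ, IsB σ → IsSquare ((ρ ⬝ᵥ ρ) * (σ ⬝ᵥ σ)) →
      (∀ y ∈ N, rf σ * y * (rf σ)⁻¹ ∈ N) → ∀ y ∈ N, rf ρ * y * (rf ρ)⁻¹ ∈ N := by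
    intro σ hσ hs hn y hy
    have h1 := C.pair_mem hρ hσ hs
    have h2 := mul_mem (mul_mem h1 (hn y hy)) (inv_mem h1)
    rwa [show rf ρ * rf σ * (rf σ * y * (rf σ)⁻¹) * (rf ρ * rf σ)⁻¹ =
      rf ρ * (rf σ * rf σ) * y * (rf σ * rf σ)⁻¹ * (rf ρ)⁻¹ by group, rf_mul_self, inv_one, mul_one, mul_one]
      at h2
  rcases isB_norm hρ with h | h
  · obtain ⟨i, hi⟩ := hA
    exact main _ ⟨i, Or.inl rfl⟩ (by rw [h, bv_norm]; exact ⟨1, rfl⟩) hi
  · obtain ⟨x, hx, hxm, i, j, e, hji, he, hfix⟩ := hB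
    exact main _ (isB_pair hji he) (by rw [h, pair_norm hji he]; exact ⟨2, rfl⟩)
      (C.normalises (isB_pair hji he) hx hxm hfix)

end Ctx

end CfsgLib.OrthFrame
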