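import Cfsg.Agent.Lib.OrthFrame.Count
import Cfsg.Agent.Lib.OrthMax.Basic
import Cfsg.Agent.Lib.Geometry.AutRootCalc

/-!
In three dimensions over a prime field: reflections generating a group with all root elements.
-/

set_option autoImplicit false
set_option linter.unusedSectionVars false

open scoped Classical

namespace CfsgLib.OrthFrame

open QuadraticMap CfsgLib.Geometry

variable {F : Type*} [Field F] [Finite F] {W : F}

/-- The form `x² + y² + W z²`. -/
noncomputable def q3 (W : F) : QuadraticForm F (Fin 3 → F) :=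
  QuadraticMap.weightedSumSquares F ![(1 : F), 1, W]

theorem q3_apply (W : F) (v : Fin 3 → F) : q3 W v = v 0 * v 0 + v 1 * v 1 + W * (v 2 * v 2) := by
  simp [q3, QuadraticMap.weightedSumSquares_apply, Fin.sum_univ_three]

theorem polar_q3 (W : F) (v w : Fin 3 → F) :
    polar (q3 W) v w = 2 * (v 0 * w 0 + v 1 * w 1 + W * (v 2 * w 2)) := by
  simp only [QuadraticMap.polar, q3_apply, Pi.add_apply]; ring

theorem q3_nondeg (h2 : (2 : F) ≠ 0) (hW : W ≠ 0) : (polarBilin (q3 W)).Nondegenerate := by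
  constructor <;> intro v hv
  · have e0 := hv ![1, 0, 0]; have e1 := hv ![0, 1, 0]; have e2 := hv ![0, 0, 1]
    simp [polarBilin_apply_apply, polar_q3, h2, hW] at e0 e1 e2
    ext i; fin_cases i <;> simp [e0, e1, e2]
  · have e0 := hv ![1, 0, 0]; have e1 := hv ![0, 1, 0]; have e2 := hv ![0, 0, 1]
    simp [polarBilin_apply_apply, polar_q3, h2, hW] at e0 e1 e2
    ext i; fin_cases i <;> simp [e0, e1, e2]

section General

variable {V : Type*} [AddCommGroup V] [Module F V] [FiniteDimensional F V] {Q : QuadraticForm F V}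

/-- A root group carries a vector to any other with the same pairing. -/
theorem refl_mem_of_iso {M : Subgroup (V ≃ₗ[F] V)} {x y e : V}
    (hS : ∀ (he : Q e = 0) (hw : polar Q e ((polar Q e x)⁻¹ • (y - x)) = 0),
      siegel Q e ((polar Q e x)⁻¹ • (y - x)) he hw ∈ M)
    (hx : Q x ≠ 0) (hy : Q y ≠ 0) (hxy : Q y = Q x) (he : Q e = 0) (hex : polar Q e x ≠ 0)
    (hey : polar Q e y = polar Q e x) (hr : refl Q x hx ∈ M) : refl Q y hy ∈ M := by
  set a := polar Q e x
  have hw : polar Q e (a⁻¹ • (y - x)) = 0 := by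
    rw [polar_smul_right', polar_sub_right, hey, sub_self, mul_zero]
  have hg := hS he hw
  have hgo := siegel_mem_orth Q e _ he hw
  have himg : siegel Q e (a⁻¹ • (y - x)) he hw x = y := by
    rw [siegel_apply, polar_comm Q x e, polar_smul_right', polar_sub_right, Geometry.map_smul',
      Geometry.map_sub', polar_self', hxy, polar_comm Q y x]
    match_scalars <;> field_simp <;> ring
  have := mul_mem (mul_mem hg hr) (inv_mem hg)
  rw [refl_conj Q hgo] at this
  simpa only [himg] using this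

end General

variable [Fact (Nat.card F).Prime]

theorem exists_natCast (t : F) : ∃ k : ℕ, (k : F) = t := by
  haveI := Fintype.ofFinite F
  have hp : (Fintype.card F).Prime := by rw [← Nat.card_eq_fintype_card]; exact Fact.out
  haveI : Fact (Fintype.card F).Prime := ⟨hp⟩
  haveI : CharP F (Fintype.card F) := by
    obtain ⟨c, hc⟩ := CharP.exists F
    obtain ⟨m, hcp, hm⟩ := FiniteField.card F c
    have h : (m : ℕ) = 1 := Nat.Prime.eq_one_of_pow (x := c) (hm ▸ hp)
    rw [show Fintype.card F = c by rw [hm, h, pow_one]]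
    exact hc
  obtain ⟨a, ha⟩ := (ZMod.castHom_bijective F rfl).2 t
  exact ⟨a.val, by rw [← ha, ZMod.castHom_apply, ← ZMod.natCast_val]⟩

section Parity

variable (h2 : (2 : F) ≠ 0) (hW : W ≠ 0)
include h2 hW

theorem refl3_eq : reflGroup (q3 W) = Geometry.orth (q3 W) :=
  reflGroup_eq_orth (q3_nondeg h2 hW) (Or.inl (by simp))

/-- The parity. -/
noncomputable def par : Geometry.orth (q3 W) →* Multiplicative (ZMod 2) :=
  dicksonHom (q3_nondeg h2 hW) (refl3_eq h2 hW)

theorem par_refl {v : Fin 3 → F} (hv : q3 W v ≠ 0) :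
    par h2 hW ⟨refl (q3 W) v hv, refl_mem_orth _ _ hv⟩ = Multiplicative.ofAdd 1 :=
  dicksonHom_refl _ _ hv

variable {g : Geometry.orth (q3 W)} (hg : par h2 hW g = 1)
include hg

theorem moved_le : Even (Module.finrank F (movSpace (g : (Fin 3 → F) ≃ₗ[F] (Fin 3 → F)))) ∧
    Module.finrank F (movSpace (g : (Fin 3 → F) ≃ₗ[F] (Fin 3 → F))) ≤ 2 := by
  have h : (Module.finrank F (movSpace (g : (Fin 3 → F) ≃ₗ[F] (Fin 3 → F))) : ZMod 2) = 0 :=
    Multiplicative.ofAdd.injective hg
  rw [ZMod.natCast_eq_zero_iff_even] at h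
  refine ⟨h, ?_⟩
  have h3 := Submodule.finrank_le (movSpace (g : (Fin 3 → F) ≃ₗ[F] (Fin 3 → F)))
  rw [Module.finrank_pi] at h3
  obtain ⟨k, hk⟩ := h
  simp at h3
  omega

theorem exists_fixed : ∃ v, v ≠ 0 ∧ (g : (Fin 3 → F) ≃ₗ[F] (Fin 3 → F)) v = v := by
  have h := LinearMap.finrank_range_add_finrank_ker (movMap (g : (Fin 3 → F) ≃ₗ[F] (Fin 3 → F)))
  have h' := (moved_le h2 hW hg).2
  rw [movSpace] at h'
  rw [Module.finrank_pi, Fintype.card_fin] at h
  obtain ⟨v, hv, hv0⟩ := Submodule.exists_mem_ne_zero_of_ne_bot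
    (p := LinearMap.ker (movMap (g : (Fin 3 → F) ≃ₗ[F] (Fin 3 → F)))) (fun e => by rw [e, finrank_bot] at h; omega)
  exact ⟨v, hv0, (sub_eq_zero.1 (by simpa using hv)).symm⟩

theorem eq_one_of_two_fixed {u v : Fin 3 → F} (hu : (g : (Fin 3 → F) ≃ₗ[F] (Fin 3 → F)) u = u)
    (hv : (g : (Fin 3 → F) ≃ₗ[F] (Fin 3 → F)) v = v) (hu0 : u ≠ 0) (hvu : ∀ c : F, v ≠ c • u) : g = 1 := by
  have h := LinearMap.finrank_range_add_finrank_ker (movMap (g : (Fin 3 → F) ≃ₗ[F] (Fin 3 → F)))
  rw [Module.finrank_pi, Fintype.card_fin] at h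
  have hli : LinearIndependent F ![u, v] :=
    (LinearIndependent.pair_iff' hu0).2 fun c e => hvu c e.symm
  have hle : Submodule.span F (Set.range ![u, v]) ≤ LinearMap.ker (movMap (g : (Fin 3 → F) ≃ₗ[F] (Fin 3 → F))) := by
    rw [Submodule.span_le]; rintro _ ⟨i, rfl⟩
    fin_cases i <;> simp [hu, hv]
  have h2' := Submodule.finrank_mono hle
  rw [finrank_span_eq_card hli, Fintype.card_fin] at h2'
  have h0 : Module.finrank F (movSpace (g : (Fin 3 → F) ≃ₗ[F] (Fin 3 → F))) = 0 := by
    obtain ⟨⟨k, hk⟩, -⟩ := moved_le h2 hW hg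
    rw [movSpace] at hk ⊢
    omega
  refine Subtype.ext (LinearEquiv.ext fun x => ?_)
  have hm := sub_mem_movSpace (g : (Fin 3 → F) ≃ₗ[F] (Fin 3 → F)) x
  rw [Submodule.finrank_eq_zero.1 h0, Submodule.mem_bot, sub_eq_zero] at hm
  exact hm.symm

/-- An even element fixing a singular vector is a root element. -/
theorem siegel_of_fix (hg1 : g ≠ 1) {e : Fin 3 → F} (he0 : e ≠ 0) (he : q3 W e = 0)
    (hge : (g : (Fin 3 → F) ≃ₗ[F] (Fin 3 → F)) e = e) :
    ∃ (w : Fin 3 → F) (hw : polar (q3 W) e w = 0), q3 W w ≠ 0 ∧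
      (g : (Fin 3 → F) ≃ₗ[F] (Fin 3 → F)) = siegel (q3 W) e w he hw := by
  have hQ := q3_nondeg h2 hW
  obtain ⟨f, hf, hef, -⟩ := exists_partner hQ ⊥ (by simpa using he0) he
    (fun z hz => by rw [(Submodule.mem_bot F).1 hz, QuadraticMap.polar_zero_right])
  have hfe : polar (q3 W) f e = 1 := by rw [polar_comm]; exact hef
  have hT : ∀ t ∈ Submodule.span F ({e, f} : Set (Fin 3 → F)),
      (∀ s ∈ Submodule.span F ({e, f} : Set (Fin 3 → F)), polar (q3 W) t s = 0) → t = 0 := by
    intro t ht hperp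
    obtain ⟨a, b, rfl⟩ := Submodule.mem_span_pair.1 ht
    have h1 := hperp e (Submodule.subset_span (by simp))
    have h3 := hperp f (Submodule.subset_span (by simp))
    simp [polar_add_left, polar_smul_left', polar_self', he, hf, hef, hfe] at h1 h3
    simp [h1, h3]
  obtain ⟨h, hh, hQh⟩ := exists_nonsingular_perp hQ _ hT (by
    have := finrank_pair_le (F := F) e f
    rw [Module.finrank_pi, Fintype.card_fin]; omega)
  have hhe : polar (q3 W) h e = 0 := hh e (Submodule.subset_span (by simp))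
  have hhf : polar (q3 W) h f = 0 := hh f (Submodule.subset_span (by simp))
  set G := (g : (Fin 3 → F) ≃ₗ[F] (Fin 3 → F)) with hG
  have hgo : G ∈ Geometry.orth (q3 W) := g.2
  have hdec : ∀ x, x = polar (q3 W) x f • e + polar (q3 W) x e • f + (polar (q3 W) x h / (2 * q3 W h)) • h := by
    intro x
    have hli : LinearIndependent F ![e, f, h] := by
      rw [Fintype.linearIndependent_iff]
      intro c hc
      rw [Fin.sum_univ_three] at hc
      simp at hc
      have a1 := congrArg (fun v => polar (q3 W) v f) hc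
      have a2 := congrArg (fun v => polar (q3 W) v e) hc
      have a3 := congrArg (fun v => polar (q3 W) v h) hc
      simp [polar_add_left, polar_smul_left', polar_self', he, hf, hef, hfe, hhe, hhf, polar_comm (q3 W) e h,
        polar_comm (q3 W) f h, QuadraticMap.polar_zero_left, hQh, h2] at a1 a2 a3
      intro i; fin_cases i <;> simp [a1, a2, a3]
    have htop : Submodule.span F (Set.range ![e, f, h]) = ⊤ :=
      hli.span_eq_top_of_card_eq_finrank (by simp)
    have hx : x ∈ Submodule.span F (Set.range ![e, f, h]) := by rw [htop]; trivial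
    obtain ⟨c, rfl⟩ := Submodule.mem_span_range_iff_exists_fun F |>.1 hx
    simp [Fin.sum_univ_three, polar_add_left, polar_smul_left', polar_self', he, hf, hef, hfe, hhe, hhf,
      polar_comm (q3 W) e h, polar_comm (q3 W) f h]
    match_scalars <;> field_simp
  obtain ⟨z, lam, hGh⟩ : ∃ z lam : F, G h = z • h + lam • e := by
    refine ⟨polar (q3 W) (G h) h / (2 * q3 W h), polar (q3 W) (G h) f, ?_⟩
    conv_lhs => rw [hdec (G h)]
    have : polar (q3 W) (G h) e = 0 := by
      have := orth_polar hgo h e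
      rwa [hge, hhe] at this
    rw [this, zero_smul, add_zero, add_comm]
  obtain ⟨mu, nu, hGf⟩ : ∃ mu nu : F, G f = f + mu • h + nu • e := by
    refine ⟨polar (q3 W) (G f) h / (2 * q3 W h), polar (q3 W) (G f) f, ?_⟩
    conv_lhs => rw [hdec (G f)]
    have : polar (q3 W) (G f) e = 1 := by
      have := orth_polar hgo f e
      rwa [hge, hfe] at this
    rw [this, one_smul]; abel
  have heh : polar (q3 W) e h = 0 := by rw [polar_comm]; exact hhe
  have hfh : polar (q3 W) f h = 0 := by rw [polar_comm]; exact hhf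
  have hz : z * z = 1 := by
    have := mem_orth.1 hgo h
    rw [hGh, Geometry.map_add', Geometry.map_smul', Geometry.map_smul', he, polar_smul_left', polar_smul_right', hhe] at this
    exact mul_right_cancel₀ hQh (by linear_combination this)
  have hlam : 2 * q3 W h * mu * z + lam = 0 := by
    have := orth_polar hgo f h
    rw [hGf, hGh, hfh] at this
    simp [polar_add_left, polar_add_right, polar_smul_left', polar_smul_right', polar_self', he, hfe, hfh, heh, hhe] at this
    linear_combination this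
  have hnu : nu + mu * mu * q3 W h = 0 := by
    have := mem_orth.1 hgo f
    rw [hGf] at this
    simp [Geometry.map_add', Geometry.map_smul', polar_add_left, polar_smul_left', polar_smul_right', he, hf, hfe, hfh, hhe] at this
    linear_combination this
  rcases mul_self_eq_one_iff.1 hz with rfl | rfl
  · have hw : polar (q3 W) e (mu • h) = 0 := by rw [polar_smul_right', heh, mul_zero]
    have hS : G = siegel (q3 W) e (mu • h) he hw := LinearEquiv.ext fun x => by
      rw [hdec x, map_add, map_add, map_smul, map_smul, map_smul, map_add, map_add, map_smul, map_smul, map_smul,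
        hge, hGf, hGh, siegel_apply, siegel_apply, siegel_apply]
      simp only [polar_smul_right', polar_self', he, hef, hfe, heh, hfh, hhe, Geometry.map_smul']
      match_scalars
      all_goals first
        | ring1
        | linear_combination (polar (q3 W) x e) * hnu + (polar (q3 W) x h / (2 * q3 W h)) * hlam
    refine ⟨mu • h, hw, ?_, hS⟩
    rw [Geometry.map_smul']
    refine mul_ne_zero (fun e0 => hg1 ?_) hQh
    have hmu : mu = 0 := mul_self_eq_zero.1 e0
    refine Subtype.ext ?_
    show G = 1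
    rw [hS]
    refine LinearEquiv.ext fun x => ?_
    rw [siegel_apply, hmu]
    simp [QuadraticMap.polar_zero_right]
  · exfalso
    refine hg1 (eq_one_of_two_fixed h2 hW hg (u := e) (v := f + (mu / 2) • h) hge ?_ he0 fun c hc => ?_)
    · show G (f + (mu / 2) • h) = f + (mu / 2) • h
      rw [map_add, map_smul, hGf, hGh]
      match_scalars
      · ring
      · field_simp; ring
      · field_simp; linear_combination 2 * hnu + mu * hlam
    · have := congrArg (fun v => polar (q3 W) v e) hc
      simp [polar_add_left, polar_smul_left', polar_self', he, hfe, hhe] at this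

end Parity

section Full

variable {M : Subgroup ((Fin 3 → F) ≃ₗ[F] (Fin 3 → F))}

/-- A coordinate vector. -/
def ev (i : Fin 3) : Fin 3 → F := Pi.single i 1

theorem q3_ev_zero (W : F) : q3 W (ev 0) = 1 := by simp [q3_apply, ev, Pi.single_apply]

theorem q3_ev_one (W : F) : q3 W (ev 1) = 1 := by simp [q3_apply, ev, Pi.single_apply]

theorem q3_ev01 (W : F) : q3 W (![1, -1, 0] : Fin 3 → F) = 2 := by
  rw [q3_apply]; simp; norm_num

/-- A root element and the two coordinate reflections give everything. -/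
theorem full_of_root (h2 : (2 : F) ≠ 0) (hW : W ≠ 0) (hMo : M ≤ Geometry.orth (q3 W))
    {e w : Fin 3 → F} (he0 : e ≠ 0) (he : q3 W e = 0) (hw : polar (q3 W) e w = 0) (hw0 : q3 W w ≠ 0)
    (hS : siegel (q3 W) e w he hw ∈ M)
    (hr0 : refl (q3 W) (ev 0) (by rw [q3_ev_zero]; exact one_ne_zero) ∈ M)
    (hr1 : refl (q3 W) (ev 1) (by rw [q3_ev_one]; exact one_ne_zero) ∈ M) : siegelGroup (q3 W) ≤ M := by
  have hQ := q3_nondeg h2 hW
  have hpow : ∀ k : ℕ, ∀ h : polar (q3 W) e ((k : F) • w) = 0, siegel (q3 W) e ((k : F) • w) he h ∈ M := by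
    intro k
    induction k with
    | zero =>
      intro h
      have : siegel (q3 W) e (((0 : ℕ) : F) • w) he h = 1 := LinearEquiv.ext fun x => by
        rw [siegel_apply]; simp [QuadraticMap.polar_zero_right]
      rw [this]; exact one_mem _
    | succ k ih =>
      intro h
      have hk : polar (q3 W) e ((k : F) • w) = 0 := by rw [polar_smul_right', hw, mul_zero]
      have := mul_mem (ih hk) hS
      rw [siegel_mul] at this
      convert this using 2
      push_cast; module
  have hfull : OrthMax.Full (q3 W) M e := by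
    intro v _ hv
    -- `e⊥` is spanned by `e` and `w`
    have hli : LinearIndependent F ![e, w] := (LinearIndependent.pair_iff' he0).2 fun c hc => hw0 (by
      rw [← hc, Geometry.map_smul', he, mul_zero])
    have hle : Submodule.span F (Set.range ![e, w]) ≤ polarPerp (q3 W) (Submodule.span F {e}) := by
      rw [Submodule.span_le]
      rintro _ ⟨i, rfl⟩
      refine mem_polarPerp.2 fun u hu => ?_
      obtain ⟨c, rfl⟩ := Submodule.mem_span_singleton.1 hu
      fin_cases i <;> simp [polar_smul_left', polar_self', he, hw]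
    have heq : Submodule.span F (Set.range ![e, w]) = polarPerp (q3 W) (Submodule.span F {e}) := by
      refine Submodule.eq_of_le_of_finrank_le hle ?_
      have := finrank_polarPerp hQ (Submodule.span F {e})
      rw [finrank_span_singleton he0, Module.finrank_pi, Fintype.card_fin] at this
      rw [finrank_span_eq_card hli, Fintype.card_fin]; omega
    have hv' : v ∈ Submodule.span F (Set.range ![e, w]) := by
      rw [heq]
      refine mem_polarPerp.2 fun u hu => ?_
      obtain ⟨c, rfl⟩ := Submodule.mem_span_singleton.1 hu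
      rw [polar_smul_left', hv, mul_zero]
    obtain ⟨c, rfl⟩ := Submodule.mem_span_range_iff_exists_fun F |>.1 hv'
    obtain ⟨k, hk⟩ := exists_natCast (c 1)
    have h1 : polar (q3 W) e ((k : F) • w) = 0 := by rw [polar_smul_right', hw, mul_zero]
    convert hpow k h1 using 1
    refine LinearEquiv.ext fun x => ?_
    rw [siegel_apply, siegel_apply]
    simp only [Fin.sum_univ_two, Matrix.cons_val_zero, Matrix.cons_val_one, hk, polar_add_right,
      polar_smul_right', polar_smul_left', Geometry.map_add', Geometry.map_smul', he, hw]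
    module
  -- one of the coordinate reflections moves the point
  obtain ⟨i, hi, hei⟩ : ∃ i : Fin 3, (i = 0 ∨ i = 1) ∧ e i ≠ 0 := by
    by_contra h
    push Not at h
    have e0 := h 0 (Or.inl rfl)
    have e1 := h 1 (Or.inr rfl)
    rw [q3_apply, e0, e1] at he
    simp [hW] at he
    exact he0 (by ext j; fin_cases j <;> assumption)
  obtain ⟨hne, hrM, hQi⟩ : ∃ h : q3 W (ev i) ≠ 0, refl (q3 W) (ev i) h ∈ M ∧ q3 W (ev i) = 1 := by
    rcases hi with rfl | rfl
    · exact ⟨_, hr0, q3_ev_zero W⟩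
    · exact ⟨_, hr1, q3_ev_one W⟩
  have hro := refl_mem_orth (q3 W) (ev i) hne
  set f := refl (q3 W) (ev i) hne e with hf
  have hff : q3 W f = 0 := by rw [hf, mem_orth.1 hro]; exact he
  have hef : polar (q3 W) e f ≠ 0 := by
    rw [hf, refl_apply, polar_sub_right, polar_smul_right', polar_self', he, hQi]
    have : polar (q3 W) e (ev i) = 2 * e i := by
      rw [polar_q3]; rcases hi with rfl | rfl <;> simp [ev, Pi.single_apply]
    rw [this]; simp [h2, hei]
  have hF : OrthMax.Full (q3 W) M f := hfull.image hrM hro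
  refine OrthMax.siegelGroup_le_of_full hQ he (f := (polar (q3 W) e f)⁻¹ • f) ?_ ?_ hfull (hF.smul hff _)
  · rw [Geometry.map_smul', hff, mul_zero]
  · rw [polar_smul_right', inv_mul_cancel₀ hef]

/-- The three-dimensional generation lemma. -/
theorem full_three (h2 : (2 : F) ≠ 0) (hW : W ≠ 0) (hMo : M ≤ Geometry.orth (q3 W)) {a b : F}
    (hu : a * a + b * b + W = 1) (hab : a ≠ 0 ∨ b ≠ 0) (hgood : 2 * W = 1 → a * b ≠ 0 ∧ a * a ≠ b * b)
    (hr0 : refl (q3 W) (ev 0) (by rw [q3_ev_zero]; exact one_ne_zero) ∈ M)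
    (hr1 : refl (q3 W) (ev 1) (by rw [q3_ev_one]; exact one_ne_zero) ∈ M)
    (hr01 : refl (q3 W) ![1, -1, 0] (by rw [q3_ev01]; exact h2) ∈ M)
    (hru : refl (q3 W) ![a, b, 1] (by rw [q3_apply]; simp [hu]) ∈ M) : siegelGroup (q3 W) ≤ M := by
  classical
  by_cases hroot : ∃ g : Geometry.orth (q3 W), (g : (Fin 3 → F) ≃ₗ[F] (Fin 3 → F)) ∈ M ∧ par h2 hW g = 1 ∧ g ≠ 1 ∧
      ∃ e, e ≠ 0 ∧ q3 W e = 0 ∧ (g : (Fin 3 → F) ≃ₗ[F] (Fin 3 → F)) e = e
  · obtain ⟨g, hgM, hpar, hg1, e, he0, he, hge⟩ := hroot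
    obtain ⟨w, hw, hw0, hS⟩ := siegel_of_fix h2 hW hpar hg1 he0 he hge
    exact full_of_root h2 hW hMo he0 he hw hw0 (hS ▸ hgM) hr0 hr1
  exfalso
  push Not at hroot
  haveI : Finite ((Fin 3 → F) ≃ₗ[F] (Fin 3 → F)) :=
    Finite.of_injective (fun g : (Fin 3 → F) ≃ₗ[F] (Fin 3 → F) => (g : (Fin 3 → F) → (Fin 3 → F)))
      DFunLike.coe_injective
  let G : Subgroup (Geometry.orth (q3 W)) := M.subgroupOf (Geometry.orth (q3 W)) ⊓ (par h2 hW).ker
  let act : ↥G → Submodule F (Fin 3 → F) → Submodule F (Fin 3 → F) := fun g S =>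
    S.map ((g : Geometry.orth (q3 W)) : (Fin 3 → F) ≃ₗ[F] (Fin 3 → F)).toLinearMap
  letI : MulAction G (Submodule F (Fin 3 → F)) :=
    { smul := act
      one_smul := fun S => Submodule.map_id S
      mul_smul := fun g h S => by
        show S.map _ = (S.map _).map _
        rw [← Submodule.map_comp]; rfl }
  have smul_span : ∀ (g : G) (v : Fin 3 → F), g • Submodule.span F {v} =
      Submodule.span F {((g : Geometry.orth (q3 W)) : (Fin 3 → F) ≃ₗ[F] (Fin 3 → F)) v} := fun g v => by
    show (Submodule.span F {v}).map _ = _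
    rw [Submodule.map_span, Set.image_singleton]; rfl
  let ax : G → Submodule F (Fin 3 → F) := fun g =>
    LinearMap.ker (movMap ((g : Geometry.orth (q3 W)) : (Fin 3 → F) ≃ₗ[F] (Fin 3 → F)))
  have hline : ∀ g : G, g ≠ 1 → ∃ v, q3 W v ≠ 0 ∧ ax g = Submodule.span F {v} ∧
      ((g : Geometry.orth (q3 W)) : (Fin 3 → F) ≃ₗ[F] (Fin 3 → F)) v = v := by
    intro g hg
    have hg' : (g : Geometry.orth (q3 W)) ≠ 1 := fun h => hg (Subtype.ext h)
    obtain ⟨v, hv0, hv⟩ := exists_fixed h2 hW g.2.2
    refine ⟨v, fun h => hroot _ g.2.1 g.2.2 hg' v hv0 h hv, le_antisymm (fun u hu => ?_) ?_, hv⟩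
    · rw [Submodule.mem_span_singleton]
      by_contra h
      push Not at h
      exact hg' (eq_one_of_two_fixed h2 hW g.2.2 hv (sub_eq_zero.1 (by simpa [ax] using hu)).symm hv0 fun c e => h c e.symm)
    · rw [Submodule.span_singleton_le_iff_mem]
      simp [ax, hv]
  have hax : ∀ g h : G, g ≠ 1 → ax (h * g * h⁻¹) = h • ax g := by
    intro g h hg
    obtain ⟨v, -, hv, hgv⟩ := hline g hg
    obtain ⟨v', hv'0, hv', hgv'⟩ := hline (h * g * h⁻¹) (fun e => hg (by simpa [conj_eq_one_iff] using e))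
    rw [hv, smul_span, hv']
    set H := ((h : Geometry.orth (q3 W)) : (Fin 3 → F) ≃ₗ[F] (Fin 3 → F))
    have hfx : H (((g : Geometry.orth (q3 W)) : (Fin 3 → F) ≃ₗ[F] (Fin 3 → F)) (H.symm v')) = v' := hgv'
    have hm : H.symm v' ∈ ax g := by
      simp only [ax, LinearMap.mem_ker, movMap_apply, sub_eq_zero]
      apply H.injective
      rw [hfx, H.apply_symm_apply]
    rw [hv, Submodule.mem_span_singleton] at hm
    obtain ⟨c, hc⟩ := hm
    have hc0 : c ≠ 0 := fun e => hv'0 (by
      have : v' = H (c • v) := by rw [hc, H.apply_symm_apply]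
      rw [this, e]; simp)
    rw [show v' = c • H v by rw [← map_smul, hc, H.apply_symm_apply], Submodule.span_singleton_smul_eq (Ne.isUnit hc0)]
  have hfix : ∀ g : G, g ≠ 1 → g • ax g = ax g := fun g hg => by
    obtain ⟨v, -, hv, hgv⟩ := hline g hg
    rw [hv, smul_span, hgv]
  have hsub : ∀ g : G, g ≠ 1 → ∃ C : Subgroup G, (∀ h, h ∈ C ↔ h = 1 ∨ ax h = ax g) ∧
      ∀ h k : G, h • ax g = ax g → k • ax g = ax g → h ∉ C → k ∉ C → h * k ∈ C := by
    intro g hg
    obtain ⟨v, hv0, hv, -⟩ := hline g hg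
    have hvne : v ≠ 0 := fun e => hv0 (by rw [e]; simp)
    let C : Subgroup G :=
      { carrier := {h | ((h : Geometry.orth (q3 W)) : (Fin 3 → F) ≃ₗ[F] (Fin 3 → F)) v = v}
        one_mem' := rfl
        mul_mem' := fun {x y} hx hy => by
          show ((x : Geometry.orth (q3 W)) : (Fin 3 → F) ≃ₗ[F] (Fin 3 → F))
            (((y : Geometry.orth (q3 W)) : (Fin 3 → F) ≃ₗ[F] (Fin 3 → F)) v) = v
          rw [hy, hx]
        inv_mem' := fun {x} hx => by
          show (((x : Geometry.orth (q3 W)) : (Fin 3 → F) ≃ₗ[F] (Fin 3 → F))).symm v = v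
          rw [LinearEquiv.symm_apply_eq, hx] }
    refine ⟨C, fun h => ⟨fun hh => ?_, ?_⟩, fun h k hh hk hhC hkC => ?_⟩
    · by_cases h1 : h = 1
      · exact Or.inl h1
      obtain ⟨v', -, hv', -⟩ := hline h h1
      have hm : v ∈ ax h := by simp [ax]; rw [show ((h : Geometry.orth (q3 W)) : (Fin 3 → F) ≃ₗ[F] (Fin 3 → F)) v = v from hh, sub_self]
      rw [hv', Submodule.mem_span_singleton] at hm
      obtain ⟨c, hc⟩ := hm
      right
      rw [hv', hv, ← hc, Submodule.span_singleton_smul_eq (Ne.isUnit fun e => hvne (by rw [← hc, e, zero_smul]))]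
    · rintro (rfl | e)
      · exact one_mem C
      · have hm : v ∈ ax h := by rw [e, hv]; exact Submodule.mem_span_singleton_self v
        simp [ax, sub_eq_zero] at hm
        exact hm.symm
    · have hsign : ∀ x : G, x • ax g = ax g → x ∉ C →
          ((x : Geometry.orth (q3 W)) : (Fin 3 → F) ≃ₗ[F] (Fin 3 → F)) v = -v := by
        intro x hx hxC
        rw [hv, smul_span] at hx
        have : ((x : Geometry.orth (q3 W)) : (Fin 3 → F) ≃ₗ[F] (Fin 3 → F)) v ∈ Submodule.span F {v} := by
          rw [← hx]; exact Submodule.mem_span_singleton_self _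
        obtain ⟨c, hc⟩ := Submodule.mem_span_singleton.1 this
        have hQ := mem_orth.1 (x : Geometry.orth (q3 W)).2 v
        rw [← hc, Geometry.map_smul', mul_left_eq_self₀, or_iff_left hv0] at hQ
        rcases mul_self_eq_one_iff.1 hQ with e | e
        · exact absurd (by show _ = v; rw [← hc, e, one_smul]) hxC
        · rw [← hc, e, neg_one_smul]
      show ((h : Geometry.orth (q3 W)) : (Fin 3 → F) ≃ₗ[F] (Fin 3 → F))
        (((k : Geometry.orth (q3 W)) : (Fin 3 → F) ≃ₗ[F] (Fin 3 → F)) v) = v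
      rw [hsign k hk hkC, map_neg, hsign h hh hhC, neg_neg]
  -- products of two of the given reflections
  have pairG : ∀ (x y : Fin 3 → F) (hx : q3 W x ≠ 0) (hy : q3 W y ≠ 0), refl (q3 W) x hx ∈ M → refl (q3 W) y hy ∈ M →
      ∃ g : G, ∀ v, ((g : Geometry.orth (q3 W)) : (Fin 3 → F) ≃ₗ[F] (Fin 3 → F)) v =
        refl (q3 W) x hx (refl (q3 W) y hy v) := fun x y hx hy h h' =>
    ⟨⟨⟨_, refl_mem_orth _ x hx⟩ * ⟨_, refl_mem_orth _ y hy⟩, mul_mem h h', by
      show par h2 hW _ = 1
      rw [map_mul, par_refl h2 hW hx, par_refl h2 hW hy]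
      decide⟩, fun v => rfl⟩
  obtain ⟨g₄, hg₄⟩ := pairG _ _ _ _ hr0 hr01
  obtain ⟨gu, hgu⟩ := pairG _ _ _ _ hru hr0
  obtain ⟨gm, hgm⟩ := pairG _ _ _ _ hr0 hru
  have hrot : ∀ v : Fin 3 → F, ((g₄ : Geometry.orth (q3 W)) : (Fin 3 → F) ≃ₗ[F] (Fin 3 → F)) v = ![-v 1, v 0, v 2] := by
    intro v
    rw [hg₄, refl_apply, refl_apply]
    ext i
    fin_cases i <;> simp [polar_q3, q3_apply, ev, Pi.single_apply, one_add_one_eq_two, h2, Matrix.vecHead, Matrix.vecTail] <;> (try field_simp) <;> (try ring)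
  have hpow2 : ∀ v : Fin 3 → F, ((g₄ * g₄ : G) : Geometry.orth (q3 W)).1 v = ![-v 0, -v 1, v 2] := by
    intro v
    show ((g₄ : Geometry.orth (q3 W)) : (Fin 3 → F) ≃ₗ[F] (Fin 3 → F))
      (((g₄ : Geometry.orth (q3 W)) : (Fin 3 → F) ≃ₗ[F] (Fin 3 → F)) v) = _
    simp only [hrot]; ext i; fin_cases i <;> simp
  have h4 : orderOf g₄ = 4 := by
    have hne : ∀ x : G, x = 1 → ∀ v, ((x : Geometry.orth (q3 W)) : (Fin 3 → F) ≃ₗ[F] (Fin 3 → F)) v = v := by
      rintro x rfl v; rfl
    refine orderOf_eq_prime_pow (p := 2) (n := 1) ?_ ?_ |>.trans rfl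
    · intro h
      rw [show (2 ^ 1 : ℕ) = 2 from rfl, pow_two] at h
      have := congrFun (hne _ h (ev 0)) 0
      rw [hpow2] at this
      simp [ev, eq_neg_iff_add_eq_zero, neg_eq_iff_add_eq_zero, one_add_one_eq_two, h2] at this
    · rw [show (2 ^ (1 + 1) : ℕ) = 2 + 2 from rfl, pow_add, pow_two]
      refine Subtype.ext (Subtype.ext (LinearEquiv.ext fun v => ?_))
      show ((g₄ * g₄ : G) : Geometry.orth (q3 W)).1 (((g₄ * g₄ : G) : Geometry.orth (q3 W)).1 v) = v
      rw [hpow2, hpow2]; ext i; fin_cases i <;> simp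
  have h41 : g₄ ≠ 1 := fun h => by rw [h, orderOf_one] at h4; omega
  have hax4 : ax g₄ = Submodule.span F {(ev 2 : Fin 3 → F)} := by
    obtain ⟨v, -, hv, hgv⟩ := hline g₄ h41
    have hm : (ev 2 : Fin 3 → F) ∈ ax g₄ := by
      simp only [ax, LinearMap.mem_ker, movMap_apply, sub_eq_zero, hrot]; ext i; fin_cases i <;> simp [ev]
    rw [hv, Submodule.mem_span_singleton] at hm
    obtain ⟨c, hc⟩ := hm
    have hc0 : c ≠ 0 := fun e => by
      have := congrFun hc 2
      simp [e, ev] at this
    rw [hv, ← hc, Submodule.span_singleton_smul_eq (Ne.isUnit hc0)]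
  have horb := orbit_le_three ax hax hfix hsub h4
  rw [hax4] at horb
  set L := Submodule.span F {(ev 2 : Fin 3 → F)}
  set x : Fin 3 → F := ![-2 * W * a, -2 * W * b, 1 - 2 * W] with hx
  have hru2 : ((gu : Geometry.orth (q3 W)) : (Fin 3 → F) ≃ₗ[F] (Fin 3 → F)) (ev 2) = x := by
    rw [hgu, refl_eq_self (q3 W) (ev 0) _ (by simp [polar_q3, ev, Pi.single_apply]), refl_apply]
    ext i
    fin_cases i <;> simp [hx, polar_q3, q3_apply, ev, Pi.single_apply, hu] <;> ring
  have hgm2 : ((gm : Geometry.orth (q3 W)) : (Fin 3 → F) ≃ₗ[F] (Fin 3 → F)) (ev 2) = ![2 * W * a, -2 * W * b, 1 - 2 * W] := by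
    have h' : refl (q3 W) ![a, b, 1] (by rw [q3_apply]; simp [hu]) (ev 2) = x := by
      rw [refl_apply]
      ext i
      fin_cases i <;> simp [hx, polar_q3, q3_apply, ev, Pi.single_apply, hu] <;> ring
    rw [hgm, h', refl_apply]
    ext i
    fin_cases i <;> simp [hx, polar_q3, q3_apply, ev, Pi.single_apply] <;> ring
  have hxy : x 0 ≠ 0 ∨ x 1 ≠ 0 := by
    rcases hab with h | h
    · exact Or.inl (by simp [hx, h2, hW, h])
    · exact Or.inr (by simp [hx, h2, hW, h])
  set B := Submodule.span F {x}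
  have hLO : L ∈ MulAction.orbit G L := MulAction.mem_orbit_self L
  have hBO : B ∈ MulAction.orbit G L := ⟨gu, by show gu • L = B; rw [smul_span, hru2]⟩
  have hmove : ∀ (k : G) (S : Submodule F (Fin 3 → F)), S ∈ MulAction.orbit G L → k • S ∈ MulAction.orbit G L := by
    rintro k S ⟨j, rfl⟩; exact ⟨k * j, mul_smul k j L⟩
  have hCO : g₄ • B ∈ MulAction.orbit G L := hmove g₄ B hBO
  have hline2 : ∀ u v : Fin 3 → F, Submodule.span F {u} = Submodule.span F {v} → ∃ c : F, u = c • v := fun u v h => by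
    have : u ∈ Submodule.span F {v} := h ▸ Submodule.mem_span_singleton_self u
    obtain ⟨c, hc⟩ := Submodule.mem_span_singleton.1 this
    exact ⟨c, hc.symm⟩
  have hBL : B ≠ L := fun h => by
    obtain ⟨c, hc⟩ := hline2 x _ h
    rcases hxy with e | e
    · exact e (by rw [hc]; simp [ev])
    · exact e (by rw [hc]; simp [ev])
  have hgB : g₄ • B = Submodule.span F {![-x 1, x 0, x 2]} := by rw [smul_span, hrot]
  have hCB : g₄ • B ≠ B := fun h => by
    rw [hgB] at h
    obtain ⟨c, hc⟩ := hline2 _ _ h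
    have e0 := congrFun hc 0; have e1 := congrFun hc 1; have e2 := congrFun hc 2
    simp at e0 e1 e2
    have hQx : q3 W x = W := by
      have := mem_orth.1 (gu : Geometry.orth (q3 W)).2 (ev 2)
      rw [hru2] at this
      simpa [q3_apply, ev, Pi.single_apply] using this
    rw [q3_apply] at hQx
    have hcc : (1 + c * c) * x 0 = 0 := by linear_combination e1 * 1 + c * (-e0) * 1 + (0 : F) * e2
    rcases mul_eq_zero.1 hcc with h1 | h1
    · have hz : x 2 = 0 := by
        by_contra hz
        have : c = 1 := (mul_eq_right₀ hz).1 e2.symm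
        rw [this, one_mul, one_add_one_eq_two] at h1
        exact h2 h1
      exact hW (by linear_combination -hQx + W * x 2 * hz + x 0 * x 0 * h1 - (x 1 - c * x 0) * e0)
    · have h1' : x 1 = 0 := by rw [h1, mul_zero, neg_eq_zero] at e0; exact e0
      exact hxy.elim (fun e => e h1) (fun e => e h1')
  have hCL : g₄ • B ≠ L := fun h => hBL (MulAction.injective g₄ (by
    show g₄ • B = g₄ • L
    rw [h, smul_span, show ((g₄ : Geometry.orth (q3 W)) : (Fin 3 → F) ≃ₗ[F] (Fin 3 → F)) (ev 2) = ev 2 by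
      rw [hrot]; ext i; fin_cases i <;> simp [ev]]))
  haveI : Fintype (MulAction.orbit G L) := Fintype.ofFinite _
  have hset : ∀ S ∈ MulAction.orbit G L, S = L ∨ S = B ∨ S = g₄ • B := by
    intro S hS
    by_contra h
    push Not at h
    have hsub' : ({S, L, B, g₄ • B} : Finset (Submodule F (Fin 3 → F))) ⊆ (MulAction.orbit G L).toFinset := by
      intro T hT
      simp at hT ⊢
      rcases hT with rfl | rfl | rfl | rfl <;> assumption
    have := Finset.card_le_card hsub'
    rw [Finset.card_eq_four.2 ⟨S, L, B, g₄ • B, h.1, h.2.1, h.2.2, hBL.symm, hCL.symm, hCB.symm, rfl⟩,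
      ← Nat.card_eq_card_toFinset] at this
    omega
  have h22 : (g₄ * g₄) • B = B := by
    rcases hset _ (hmove (g₄ * g₄) B hBO) with h | h | h
    · rw [mul_smul] at h
      exact absurd (MulAction.injective g₄ (h.trans (show g₄ • L = L by
        rw [smul_span, show ((g₄ : Geometry.orth (q3 W)) : (Fin 3 → F) ≃ₗ[F] (Fin 3 → F)) (ev 2) = ev 2 by
          rw [hrot]; ext i; fin_cases i <;> simp [ev]]).symm)) hCL
    · exact h
    · rw [mul_smul] at h
      exact absurd (MulAction.injective g₄ h) hCB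
  rw [smul_span] at h22
  obtain ⟨c, hc⟩ := hline2 _ _ h22
  rw [hpow2] at hc
  have c0 := congrFun hc 0; have c1 := congrFun hc 1; have c2 := congrFun hc 2
  simp at c0 c1 c2
  have hcm : c = -1 := by
    rcases hxy with e | e
    · exact mul_right_cancel₀ e (by linear_combination -c0)
    · exact mul_right_cancel₀ e (by linear_combination -c1)
  have hW2 : 2 * W = 1 := by
    have : (2 : F) * x 2 = 0 := by rw [hcm] at c2; linear_combination c2
    have := (mul_eq_zero.1 this).resolve_left h2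
    simp [hx] at this
    linear_combination -this
  obtain ⟨hab0, hab2⟩ := hgood hW2
  obtain ⟨ha0, hb0⟩ := mul_ne_zero_iff.1 hab0
  have hmO : Submodule.span F {![2 * W * a, -2 * W * b, 1 - 2 * W]} ∈ MulAction.orbit G L :=
    ⟨gm, by show gm • L = _; rw [smul_span, hgm2]⟩
  have ha' : -2 * W * a = -a := by linear_combination -a * hW2
  have hb' : -2 * W * b = -b := by linear_combination -b * hW2
  rw [hb', show 2 * W * a = a by linear_combination a * hW2, hW2, sub_self] at hmO
  have hx' : x = ![-a, -b, 0] := by rw [hx, ha', hb', hW2, sub_self]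
  rcases hset _ hmO with h | h | h
  · obtain ⟨k, hk⟩ := hline2 _ _ h
    have := congrFun hk 0
    simp [ev, ha0] at this
  · obtain ⟨k, hk⟩ := hline2 _ _ h
    have k0 := congrFun hk 0; have k1 := congrFun hk 1
    simp [hx'] at k0 k1
    have hk1 : k = -1 := mul_right_cancel₀ ha0 (by linear_combination k0)
    rw [hk1] at k1
    exact mul_ne_zero h2 hb0 (by linear_combination k1)
  · rw [hgB] at h
    obtain ⟨k, hk⟩ := hline2 _ _ h
    have k0 := congrFun hk 0; have k1 := congrFun hk 1
    simp [hx'] at k0 k1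
    exact hab2 (by linear_combination a * k0 - b * k1)

end Full

end CfsgLib.OrthFrame
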