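import Cfsg.Agent.Lib.OrthFrame.Over
import Cfsg.Agent.Lib.OrthFrame.Three

/-!
Roots of an overgroup of the signed permutations, and embedded three-spaces.
-/

set_option autoImplicit false
set_option linter.unusedSectionVars false

open scoped Classical

namespace CfsgLib.OrthFrame

open QuadraticMap CfsgLib.Geometry

variable {F : Type*} [Field F] [Finite F] {n : ℕ}

section Embed

variable (f : Fin 3 → Fin n → F) (W : F)

/-- Three pairwise orthogonal vectors of norms `1`, `1`, `W`. -/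
structure Frame3 : Prop where
  f00 : f 0 ⬝ᵥ f 0 = 1
  f11 : f 1 ⬝ᵥ f 1 = 1
  f22 : f 2 ⬝ᵥ f 2 = W
  f01 : f 0 ⬝ᵥ f 1 = 0
  f02 : f 0 ⬝ᵥ f 2 = 0
  f12 : f 1 ⬝ᵥ f 2 = 0
  wne : W ≠ 0

/-- The vector with given coordinates. -/
def emb (c : Fin 3 → F) : Fin n → F := c 0 • f 0 + c 1 • f 1 + c 2 • f 2

/-- The coordinates of the projection. -/
noncomputable def proj (x : Fin n → F) : Fin 3 → F := ![x ⬝ᵥ f 0, x ⬝ᵥ f 1, W⁻¹ * (x ⬝ᵥ f 2)]

variable {f W}

theorem Frame3.proj_emb (h : Frame3 f W) (c : Fin 3 → F) : proj f W (emb f c) = c := by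
  have e10 : f 1 ⬝ᵥ f 0 = 0 := by rw [dotProduct_comm]; exact h.f01
  have e20 : f 2 ⬝ᵥ f 0 = 0 := by rw [dotProduct_comm]; exact h.f02
  have e21 : f 2 ⬝ᵥ f 1 = 0 := by rw [dotProduct_comm]; exact h.f12
  ext i
  fin_cases i <;>
    simp [proj, emb, add_dotProduct, smul_dotProduct, h.f00, h.f11, h.f22, h.f01, h.f02, h.f12, e10, e20, e21]
  field_simp [h.wne]

theorem Frame3.dot_emb (h : Frame3 f W) (x : Fin n → F) (c : Fin 3 → F) :
    x ⬝ᵥ emb f c = proj f W x 0 * c 0 + proj f W x 1 * c 1 + W * (proj f W x 2 * c 2) := by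
  simp [proj, emb, dotProduct_add, dotProduct_smul]
  field_simp [h.wne]

theorem Frame3.qf_emb (h : Frame3 f W) (c : Fin 3 → F) : qf n F (emb f c) = q3 W c := by
  rw [qf_apply, h.dot_emb, h.proj_emb, q3_apply]

theorem Frame3.polar_emb (h : Frame3 f W) (x : Fin n → F) (c : Fin 3 → F) :
    polar (qf n F) x (emb f c) = polar (q3 W) (proj f W x) c := by
  rw [polar_qf, h.dot_emb, polar_q3]

theorem emb_add (c d : Fin 3 → F) : emb f (c + d) = emb f c + emb f d := by
  simp [emb, add_smul]; abel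

theorem emb_sub (c d : Fin 3 → F) : emb f (c - d) = emb f c - emb f d := by
  simp [emb, sub_smul]; abel

theorem emb_smul (t : F) (c : Fin 3 → F) : emb f (t • c) = t • emb f c := by
  simp [emb, smul_add, smul_smul]

theorem proj_add (x y : Fin n → F) : proj f W (x + y) = proj f W x + proj f W y := by
  ext i; fin_cases i <;> simp [proj, add_dotProduct, mul_add]

theorem proj_smul (t : F) (x : Fin n → F) : proj f W (t • x) = t • proj f W x := by
  ext i; fin_cases i <;> simp [proj, smul_dotProduct]; ring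

/-- Extending an isometry of the three-space by the identity. -/
noncomputable def lift (h : Frame3 f W) : Geometry.orth (q3 W) →* ((Fin n → F) ≃ₗ[F] (Fin n → F)) where
  toFun g :=
    { toFun := fun x => x + emb f ((g : (Fin 3 → F) ≃ₗ[F] (Fin 3 → F)) (proj f W x) - proj f W x)
      map_add' := fun x y => by
        rw [proj_add, map_add, add_sub_add_comm, emb_add]; abel
      map_smul' := fun t x => by
        simp only [RingHom.id_apply]
        rw [proj_smul, map_smul, ← smul_sub, emb_smul, smul_add]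
      invFun := fun x => x + emb f ((g : (Fin 3 → F) ≃ₗ[F] (Fin 3 → F)).symm (proj f W x) - proj f W x)
      left_inv := fun x => by
        simp only [proj_add, h.proj_emb, add_sub_cancel, LinearEquiv.symm_apply_apply]
        rw [add_assoc, ← emb_add, sub_add_sub_cancel', sub_self]
        simp [emb]
      right_inv := fun x => by
        simp only [proj_add, h.proj_emb, add_sub_cancel, LinearEquiv.apply_symm_apply]
        rw [add_assoc, ← emb_add, sub_add_sub_cancel', sub_self]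
        simp [emb] }
  map_one' := by
    refine LinearEquiv.ext fun x => ?_
    simp [emb]
  map_mul' := fun g k => LinearEquiv.ext fun x => by
    show x + emb f ((g : (Fin 3 → F) ≃ₗ[F] (Fin 3 → F)) ((k : (Fin 3 → F) ≃ₗ[F] (Fin 3 → F)) (proj f W x)) - proj f W x) =
      (x + emb f ((k : (Fin 3 → F) ≃ₗ[F] (Fin 3 → F)) (proj f W x) - proj f W x)) +
        emb f ((g : (Fin 3 → F) ≃ₗ[F] (Fin 3 → F))
          (proj f W (x + emb f ((k : (Fin 3 → F) ≃ₗ[F] (Fin 3 → F)) (proj f W x) - proj f W x))) -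
          proj f W (x + emb f ((k : (Fin 3 → F) ≃ₗ[F] (Fin 3 → F)) (proj f W x) - proj f W x)))
    rw [proj_add, h.proj_emb, add_sub_cancel, add_assoc, ← emb_add, sub_add_sub_cancel']

theorem Frame3.lift_apply (h : Frame3 f W) (g : Geometry.orth (q3 W)) (x : Fin n → F) :
    lift h g x = x + emb f ((g : (Fin 3 → F) ≃ₗ[F] (Fin 3 → F)) (proj f W x) - proj f W x) := rfl

theorem Frame3.lift_mem_orth (h : Frame3 f W) (g : Geometry.orth (q3 W)) : lift h g ∈ Geometry.orth (qf n F) := by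
  intro x
  rw [h.lift_apply, Geometry.map_add', h.qf_emb, h.polar_emb]
  have e := mem_orth.1 g.2 (proj f W x)
  have e' := Geometry.map_add' (q3 W) (proj f W x) ((g : (Fin 3 → F) ≃ₗ[F] (Fin 3 → F)) (proj f W x) - proj f W x)
  rw [add_sub_cancel, e] at e'
  linear_combination -e'

theorem Frame3.lift_refl (h : Frame3 f W) {v : Fin 3 → F} (hv : q3 W v ≠ 0) :
    lift h ⟨refl (q3 W) v hv, refl_mem_orth _ _ hv⟩ = rf (emb f v) := by
  refine LinearEquiv.ext fun x => ?_
  rw [rf_eq (by rwa [h.qf_emb]), h.lift_apply, refl_apply, refl_apply, h.qf_emb, h.polar_emb,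
    sub_sub_cancel_left, ← neg_one_smul F, emb_smul, emb_smul]
  module

theorem Frame3.lift_siegel (h : Frame3 f W) {e w : Fin 3 → F} (he : q3 W e = 0) (hw : polar (q3 W) e w = 0)
    (he' : qf n F (emb f e) = 0) (hw' : polar (qf n F) (emb f e) (emb f w) = 0) :
    lift h ⟨siegel (q3 W) e w he hw, siegel_mem_orth _ _ _ he hw⟩ = siegel (qf n F) (emb f e) (emb f w) he' hw' := by
  refine LinearEquiv.ext fun x => ?_
  rw [h.lift_apply, siegel_apply, siegel_apply, h.qf_emb, h.polar_emb, h.polar_emb]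
  simp only [emb_sub, emb_add, emb_smul]
  abel

end Embed

/-- A group with all root reflections of the frame. -/
structure RCtx (R : Subgroup ((Fin n → F) ≃ₗ[F] (Fin n → F))) : Prop where
  two : (2 : F) ≠ 0
  big : 5 ≤ n
  le : R ≤ Geometry.orth (qf n F)
  base : ∀ ρ : Fin n → F, IsB ρ → rf ρ ∈ R

/-- A vector of norm one with its reflection in `R`. -/
def Root (R : Subgroup ((Fin n → F) ≃ₗ[F] (Fin n → F))) (v : Fin n → F) : Prop := v ⬝ᵥ v = 1 ∧ rf v ∈ R

/-- A pair of coordinates usable with the vector `u`. -/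
def GoodPair (u : Fin n → F) (i j : Fin n) : Prop :=
  i ≠ j ∧ u i * u i + u j * u j ≠ 1 ∧ (u i ≠ 0 ∨ u j ≠ 0) ∧
    (2 * (1 - u i * u i - u j * u j) = 1 → u i * u j ≠ 0 ∧ u i * u i ≠ u j * u j)

/-- All root elements inside the span of three coordinate vectors. -/
def Trip (R : Subgroup ((Fin n → F) ≃ₗ[F] (Fin n → F))) (i j k : Fin n) : Prop :=
  i ≠ j ∧ i ≠ k ∧ j ≠ k ∧ ∀ (e w : Fin n → F) (he : qf n F e = 0) (hw : polar (qf n F) e w = 0),
    (∀ l, l ≠ i → l ≠ j → l ≠ k → e l = 0) → (∀ l, l ≠ i → l ≠ j → l ≠ k → w l = 0) → siegel (qf n F) e w he hw ∈ R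

variable {R : Subgroup ((Fin n → F) ≃ₗ[F] (Fin n → F))}

theorem Root.image (hR : RCtx R) {v : Fin n → F} (h : Root R v) {g : (Fin n → F) ≃ₗ[F] (Fin n → F)} (hg : g ∈ R) :
    Root R (g v) :=
  ⟨by rw [dot_orth_self (hR.le hg)]; exact h.1, by rw [← rf_conj (hR.le hg)]; exact mul_mem (mul_mem hg h.2) (inv_mem hg)⟩

theorem Root.reflect (hR : RCtx R) {u v : Fin n → F} (hu : Root R u) (hv : Root R v) :
    Root R (v - (2 * (v ⬝ᵥ u)) • u) := by
  have := hv.image hR hu.2
  rwa [rf_apply (by rw [hu.1]; exact one_ne_zero), hu.1, inv_one, one_mul] at this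

/-- Changing signs on a set of coordinates. -/
noncomputable def fl (T : Finset (Fin n)) (v : Fin n → F) : Fin n → F := fun l => if l ∈ T then -v l else v l

theorem dot_fl (T : Finset (Fin n)) (v : Fin n → F) : fl T v ⬝ᵥ v = v ⬝ᵥ v - 2 * ∑ l ∈ T, v l * v l := by
  have e : ∑ l ∈ T, v l * v l = ∑ l, if l ∈ T then v l * v l else 0 := by simp [Finset.sum_ite_mem]
  rw [e, Finset.mul_sum, dotProduct, dotProduct, ← Finset.sum_sub_distrib]
  refine Finset.sum_congr rfl fun l _ => ?_
  simp only [fl]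
  split_ifs <;> ring

theorem Root.flip (hR : RCtx R) {v : Fin n → F} (h : Root R v) (T : Finset (Fin n)) : Root R (fl T v) := by
  induction T using Finset.induction_on with
  | empty => rw [show fl ∅ v = v from funext fun l => by simp [fl]]; exact h
  | @insert a T ha ih =>
    have h1 := ih.image hR (hR.base _ ⟨a, Or.inl rfl⟩)
    convert h1 using 1
    funext l
    rw [rf_apply (by simp), dot_bv, dot_bv, bv_self, inv_one, one_mul, Pi.sub_apply, Pi.smul_apply, smul_eq_mul]
    by_cases hl : l = a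
    · subst hl; simp [fl, ha]; ring
    · rw [bv_ne hl, mul_zero, sub_zero]; simp [fl, hl]

theorem swap_apply (hR : RCtx R) {a b : Fin n} (hab : a ≠ b) (v : Fin n → F) :
    rf (bv a - bv b) v = v ∘ Equiv.swap a b := by
  have hd : (bv a - bv b : Fin n → F) ⬝ᵥ (bv a - bv b) = 2 := by
    simp [dotProduct_sub, bv_ne hab, bv_ne hab.symm, one_add_one_eq_two]
  rw [rf_apply (by rw [hd]; exact hR.two), hd, dotProduct_sub, dot_bv, dot_bv, ← mul_assoc, inv_mul_cancel₀ hR.two, one_mul]
  funext l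
  simp only [Pi.sub_apply, Pi.smul_apply, smul_eq_mul, Function.comp_apply]
  by_cases hla : l = a
  · subst hla; simp [bv_ne hab]
  by_cases hlb : l = b
  · subst hlb; simp [bv_ne hla]
  simp [bv_ne hla, bv_ne hlb, Equiv.swap_apply_of_ne_of_ne hla hlb]

theorem Root.swap (hR : RCtx R) {v : Fin n → F} (h : Root R v) {a b : Fin n} (hab : a ≠ b) :
    Root R (v ∘ Equiv.swap a b) := by
  rw [← swap_apply hR hab]
  exact h.image hR (hR.base _ ⟨a, Or.inr ⟨b, hab.symm, Or.inr rfl⟩⟩)

theorem Trip.swap (hR : RCtx R) {i j k : Fin n} (h : Trip R i j k) {a b : Fin n} (hab : a ≠ b) :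
    Trip R (Equiv.swap a b i) (Equiv.swap a b j) (Equiv.swap a b k) := by
  set σ := Equiv.swap a b
  obtain ⟨hij, hik, hjk, hS⟩ := h
  refine ⟨σ.injective.ne hij, σ.injective.ne hik, σ.injective.ne hjk, fun e w he hw hse hsw => ?_⟩
  have hgR := hR.base _ (⟨a, Or.inr ⟨b, hab.symm, Or.inr rfl⟩⟩ : IsB (bv a - bv b : Fin n → F))
  set g := rf (bv a - bv b : Fin n → F)
  have hgo := hR.le hgR
  have hσ : ∀ v : Fin n → F, g v = v ∘ σ := swap_apply hR hab
  have hgg : ∀ v : Fin n → F, g (g v) = v := fun v => LinearEquiv.congr_fun (rf_mul_self _) v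
  have hsupp : ∀ v : Fin n → F, (∀ l, l ≠ σ i → l ≠ σ j → l ≠ σ k → v l = 0) →
      ∀ l, l ≠ i → l ≠ j → l ≠ k → g v l = 0 := fun v hv l h1 h1' h3 => by
    rw [hσ]; exact hv (σ l) (σ.injective.ne h1) (σ.injective.ne h1') (σ.injective.ne h3)
  have h1 := hS (g e) (g w) (by rw [mem_orth.1 hgo]; exact he) (by rw [orth_polar hgo]; exact hw)
    (hsupp e hse) (hsupp w hsw)
  have h3 := mul_mem (mul_mem hgR h1) (inv_mem hgR)
  rw [siegel_conj hgo] at h3
  simpa only [hgg] using h3

/-- One triple gives all. -/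
theorem Trip.all (hR : RCtx R) {i j k : Fin n} (h : Trip R i j k) {a b c : Fin n} (hab : a ≠ b) (hac : a ≠ c)
    (hbc : b ≠ c) : Trip R a b c := by
  obtain ⟨j', k', h1⟩ : ∃ j' k', Trip R a j' k' := by
    by_cases hia : i = a
    · exact ⟨j, k, hia ▸ h⟩
    · refine ⟨Equiv.swap i a j, Equiv.swap i a k, ?_⟩
      simpa using h.swap hR hia
  obtain ⟨k'', h3⟩ : ∃ k'', Trip R a b k'' := by
    by_cases hjb : j' = b
    · exact ⟨k', hjb ▸ h1⟩
    · refine ⟨Equiv.swap j' b k', ?_⟩
      simpa [Equiv.swap_apply_of_ne_of_ne h1.1 hab] using h1.swap hR hjb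
  by_cases hkc : k'' = c
  · exact hkc ▸ h3
  · simpa [Equiv.swap_apply_of_ne_of_ne h3.2.1 hac, Equiv.swap_apply_of_ne_of_ne h3.2.2.1 hbc] using h3.swap hR hkc

variable [Fact (Nat.card F).Prime]

/-- The frame of a root and two coordinates. -/
theorem frame_pair {u : Fin n → F} (h1 : u ⬝ᵥ u = 1) {i j : Fin n} (hg : GoodPair u i j) :
    Frame3 ![bv i, bv j, u - u i • bv i - u j • bv j] (1 - u i * u i - u j * u j) := by
  have hij := hg.1
  refine ⟨by simp, by simp, ?_, by simp [bv_ne hij.symm, bv_ne hij], ?_, ?_, ?_⟩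
  · simp [sub_dotProduct, dotProduct_sub, dotProduct_smul, smul_dotProduct, bv_ne hij.symm, bv_ne hij, h1]
  · simp [sub_dotProduct, dotProduct_sub, dotProduct_smul, smul_dotProduct, bv_ne hij.symm, bv_ne hij]
  · simp [sub_dotProduct, dotProduct_sub, dotProduct_smul, smul_dotProduct, bv_ne hij.symm, bv_ne hij]
  · exact fun h => hg.2.1 (by linear_combination -h)

/-- A good pair gives the root elements and their roots in the three-space it spans with `u`. -/
theorem pair_space (hR : RCtx R) {u : Fin n → F} (hu : Root R u) {i j : Fin n} (hg : GoodPair u i j) :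
    let f := ![bv i, bv j, u - u i • bv i - u j • bv j]
    let W := 1 - u i * u i - u j * u j
    (∀ (e w : Fin 3 → F) (_ : q3 W e = 0) (_ : polar (q3 W) e w = 0) (he : qf n F (emb f e) = 0)
        (hw : polar (qf n F) (emb f e) (emb f w) = 0), siegel (qf n F) (emb f e) (emb f w) he hw ∈ R) ∧
      ∀ y e : Fin 3 → F, q3 W y = 1 → q3 W e = 0 → polar (q3 W) e (ev 1) ≠ 0 →
        polar (q3 W) e y = polar (q3 W) e (ev 1) → Root R (emb f y) := by
  intro f W
  have hF := frame_pair hu.1 hg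
  have h2 := hR.two
  have hij := hg.1
  let M : Subgroup ((Fin 3 → F) ≃ₗ[F] (Fin 3 → F)) := (R.comap (lift hF)).map (Geometry.orth (q3 W)).subtype
  have mem : ∀ (g : Geometry.orth (q3 W)), lift hF g ∈ R → (g : (Fin 3 → F) ≃ₗ[F] (Fin 3 → F)) ∈ M :=
    fun g hg => ⟨g, hg, rfl⟩
  have mem' : ∀ (g : Geometry.orth (q3 W)), (g : (Fin 3 → F) ≃ₗ[F] (Fin 3 → F)) ∈ M → lift hF g ∈ R := by
    rintro g ⟨g', hg', he⟩
    rwa [Subtype.ext he] at hg'
  have hMo : M ≤ Geometry.orth (q3 W) := by rintro _ ⟨g, -, rfl⟩; exact g.2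
  have hr : ∀ (v : Fin 3 → F) (hv : q3 W v ≠ 0), rf (emb f v) ∈ R → refl (q3 W) v hv ∈ M := fun v hv h =>
    mem ⟨_, refl_mem_orth _ v hv⟩ (by rw [hF.lift_refl hv]; exact h)
  have hr1 := hr (ev 1) (by rw [q3_ev_one]; exact one_ne_zero)
    (by simpa [emb, ev, Pi.single_apply, f] using hR.base _ ⟨j, Or.inl rfl⟩)
  have hall : siegelGroup (q3 W) ≤ M := by
    refine full_three h2 hF.wne hMo (a := u i) (b := u j) (by simp [W]) hg.2.2.1 hg.2.2.2 ?_ hr1 ?_ ?_
    · exact hr _ _ (by simpa [emb, ev, Pi.single_apply, f] using hR.base _ ⟨i, Or.inl rfl⟩)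
    · refine hr _ _ ?_
      have : emb f ![1, -1, 0] = bv i - bv j := by simp [emb, f, sub_eq_add_neg]
      rw [this]
      exact hR.base _ ⟨i, Or.inr ⟨j, hij.symm, Or.inr rfl⟩⟩
    · refine hr _ _ ?_
      have : emb f ![u i, u j, 1] = u := by simp [emb, f]
      rw [this]; exact hu.2
  refine ⟨fun e w he hw he' hw' => ?_, fun y e hy he hne heq => ?_⟩
  · rw [← hF.lift_siegel he hw he' hw']
    exact mem' _ (hall (siegel_mem e w he hw))
  · have hy0 : q3 W y ≠ 0 := by rw [hy]; exact one_ne_zero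
    have h1 := refl_mem_of_iso (M := M) (fun he hw => hall (siegel_mem _ _ he hw))
      (by rw [q3_ev_one]; exact one_ne_zero) hy0 (by rw [hy, q3_ev_one]) he hne heq hr1
    refine ⟨by rw [← qf_apply, hF.qf_emb, hy], ?_⟩
    have := mem' ⟨_, refl_mem_orth _ y hy0⟩ h1
    rwa [hF.lift_refl hy0] at this

/-- A root on three coordinates with a good pair gives a triple. -/
theorem trip_of_pair (hR : RCtx R) {u : Fin n → F} (hu : Root R u) {i j k : Fin n} (hg : GoodPair u i j)
    (hik : i ≠ k) (hjk : j ≠ k) (hsupp : ∀ l, l ≠ i → l ≠ j → l ≠ k → u l = 0) : Trip R i j k := by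
  have hij := hg.1
  have hF := frame_pair hu.1 hg
  refine ⟨hij, hik, hjk, fun e w he hw hse hsw => ?_⟩
  have hw' : u - u i • bv i - u j • bv j = u k • bv k := by
    funext l
    by_cases h1 : l = i
    · subst h1; simp [bv_ne hij, bv_ne hik]
    by_cases h3 : l = j
    · subst h3; simp [bv_ne h1, bv_ne hjk]
    by_cases h4 : l = k
    · subst h4; simp [bv_ne h1, bv_ne h3]
    simp [bv_ne h1, bv_ne h3, bv_ne h4, hsupp l h1 h3 h4]
  have huk : u k ≠ 0 := fun h => hF.wne (by
    have e1 := hF.f22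
    simp [hw', h] at e1
    exact e1.symm)
  set f := ![bv i, bv j, u - u i • bv i - u j • bv j]
  have hc : ∀ v : Fin n → F, (∀ l, l ≠ i → l ≠ j → l ≠ k → v l = 0) → emb f ![v i, v j, v k / u k] = v := by
    intro v hv
    simp only [emb, f, Matrix.cons_val_zero, Matrix.cons_val_one, Matrix.cons_val, hw', smul_smul,
      div_mul_cancel₀ _ huk]
    funext l
    by_cases h1 : l = i
    · subst h1; simp [bv_ne hij, bv_ne hik]
    by_cases h3 : l = j
    · subst h3; simp [bv_ne h1, bv_ne hjk]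
    by_cases h4 : l = k
    · subst h4; simp [bv_ne h1, bv_ne h3]
    simp [bv_ne h1, bv_ne h3, bv_ne h4, hv l h1 h3 h4]
  have e1 := hc e hse
  have e2 := hc w hsw
  have h := (pair_space hR hu hg).1 ![e i, e j, e k / u k] ![w i, w j, w k / u k]
    (by rw [← hF.qf_emb, e1]; exact he)
    (by rw [← hF.proj_emb ![e i, e j, e k / u k], ← hF.polar_emb, e1, e2]; exact hw)
    (by rw [e1]; exact he) (by rw [e1, e2]; exact hw)
  simp only [f] at e1 e2
  simp only [e1, e2] at h
  exact h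

end CfsgLib.OrthFrame
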