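import Cfsg.Agent.Lib.OrthFrame.Over
import Cfsg.Agent.Lib.UnMono.Odd

/-!
A non-monomial involution with a plane, and what a commuting monomial involution says about it.
-/

set_option autoImplicit false
set_option linter.unusedSectionVars false

open scoped Classical

namespace CfsgLib.OrthFrame

open QuadraticMap CfsgLib.Geometry

variable {F : Type*} [Field F] [Finite F] {n : ℕ}

/-- Combinations of two vectors. -/
def InP (p q v : Fin n → F) : Prop := ∃ a b : F, v = a • p + b • q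

/-- Some non-monomial member fixes a coordinate vector up to sign. -/
def GoodA (N : Subgroup ((Fin n → F) ≃ₗ[F] (Fin n → F))) : Prop :=
  ∃ x ∈ N, ¬ Mono x ∧ ∃ i, Fix x (bv i)

/-- Some non-monomial member fixes a sum or difference of coordinate vectors up to sign. -/
def GoodB (N : Subgroup ((Fin n → F) ≃ₗ[F] (Fin n → F))) : Prop :=
  ∃ x ∈ N, ¬ Mono x ∧ ∃ (i j : Fin n) (e : F), j ≠ i ∧ e * e = 1 ∧ Fix x (bv i + e • bv j)

theorem good_of_two {N : Subgroup ((Fin n → F) ≃ₗ[F] (Fin n → F))} {x : (Fin n → F) ≃ₗ[F] (Fin n → F)}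
    (hx : x ∈ N) (hxm : ¬ Mono x) {i j : Fin n} (hij : j ≠ i) (hi : x (bv i) = bv i) (hj : x (bv j) = bv j) :
    GoodA N ∧ GoodB N :=
  ⟨⟨x, hx, hxm, i, Or.inl hi⟩, ⟨x, hx, hxm, i, j, 1, hij, one_mul 1,
    Or.inl (by rw [map_add, map_smul, hi, hj])⟩⟩

/-- A monomial map moving exactly the pair `i`, `j` is a reflection. -/
theorem eq_rf_of_moved (h2 : (2 : F) ≠ 0) {z : (Fin n → F) ≃ₗ[F] (Fin n → F)} {i j : Fin n} (hij : j ≠ i)
    {e : F} (he : e * e = 1) (hi : z (bv i) = e • bv j) (hj : z (bv j) = e • bv i)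
    (hrest : ∀ l, l ≠ i → l ≠ j → z (bv l) = bv l) : z = rf (bv i + (-e) • bv j) := by
  have hn := pair_norm (n := n) hij (e := -e) (by linear_combination he)
  refine LinearEquiv.ext fun x => ?_
  rw [sum_bv x, map_sum, map_sum]
  refine Finset.sum_congr rfl fun l _ => ?_
  rw [map_smul, map_smul]
  congr 1
  by_cases hli : l = i
  · subst hli
    rw [hi, rf_apply (by rw [hn]; exact h2), hn, dotProduct_add, dotProduct_smul, bv_dot_bv, bv_dot_bv,
      if_pos rfl, if_neg hij.symm, smul_zero, add_zero, mul_one, inv_mul_cancel₀ h2]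
    module
  by_cases hlj : l = j
  · subst hlj
    rw [hj, rf_apply (by rw [hn]; exact h2), hn, dotProduct_add, dotProduct_smul, bv_dot_bv, bv_dot_bv,
      if_pos rfl, if_neg hij, smul_eq_mul, mul_one, zero_add, ← mul_assoc, inv_mul_cancel₀ h2, one_mul]
    match_scalars
    · linear_combination 0 * he
    · linear_combination he
  · rw [hrest l hli hlj, rf_fix (by simp [bv_ne (Ne.symm hli), bv_ne (Ne.symm hlj)])]

namespace Ctx

variable {N : Subgroup ((Fin n → F) ≃ₗ[F] (Fin n → F))} (C : Ctx N)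
include C

/-- A conjugate of a product of two root reflections which is not monomial. -/
theorem exists_pair {g : (Fin n → F) ≃ₗ[F] (Fin n → F)} (hg : g ∈ orth (qf n F))
    (A : Finset (Fin n)) (hA : 5 ≤ A.card) {i : Fin n} (hi : i ∈ A)
    (hgi : ∀ (j : Fin n) (a : F), g (bv i) ≠ a • bv j) :
    ∃ ρ σ : Fin n → F, IsB ρ ∧ IsB σ ∧ ρ ⬝ᵥ σ = 0 ∧ rf ρ * rf σ ∈ N ∧
      (∀ c ∉ A, ρ c = 0 ∧ σ c = 0) ∧ ¬ Mono (rf (g ρ) * rf (g σ)) := by
  have h2 := C.two
  by_contra hcon
  push Not at hcon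
  have key : ∀ ρ σ : Fin n → F, IsB ρ → IsB σ → ρ ⬝ᵥ σ = 0 →
      IsSquare ((ρ ⬝ᵥ ρ) * (σ ⬝ᵥ σ)) → (∀ c ∉ A, ρ c = 0 ∧ σ c = 0) → ¬ RootLike (g ρ) →
      (∀ c, g ρ c = 0 → g σ c = 0) ∧ ∃ J : Finset (Fin n), J.card ≤ 4 ∧ ∀ c ∉ J, g ρ c = 0 :=
    fun ρ σ hρ hσ ho hs hc hr => mono_pair_supp h2 (by rw [dot_orth_self hg]; exact isB_dot h2 hρ)
      (by rw [dot_orth_self hg]; exact isB_dot h2 hσ) (by rw [dot_orth h2 hg]; exact ho) hr
      (hcon ρ σ hρ hσ ho (C.pair_mem hρ hσ hs) hc)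
  have finish : ∀ ρ, (∀ j ∈ A, ∀ c, g ρ c = 0 → g (bv j) c = 0) →
      (∃ J : Finset (Fin n), J.card ≤ 4 ∧ ∀ c ∉ J, g ρ c = 0) → False := by
    rintro ρ h ⟨J, hJ, hJ'⟩
    have := card_le_of_supp (g := g) A J fun j hj c hc => h j hj c (hJ' c hc)
    omega
  rcases root_nonmono h2 hg A (by omega) hi hgi with ⟨k, hk, hkr⟩ | ⟨-, -, i, hi, k, hk, hki, hkr⟩
  · have hkey := fun j (hj : j ∈ A) (hjk : j ≠ k) => key (bv k) (bv j) ⟨k, Or.inl rfl⟩ ⟨j, Or.inl rfl⟩
      (by simp [bv_ne hjk, bv_ne hjk.symm]) (by simp) (fun c hc => ⟨bv_ne (fun e => hc (e ▸ hk)), bv_ne (fun e => hc (e ▸ hj))⟩) hkr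
    obtain ⟨j, hj⟩ := Finset.card_pos.1 (show 0 < (A.erase k).card by rw [Finset.card_erase_of_mem hk]; omega)
    refine finish (bv k) (fun l hl c hc => ?_) (hkey j (Finset.mem_of_mem_erase hj) (Finset.ne_of_mem_erase hj)).2
    by_cases hlk : l = k
    · rw [hlk]; exact hc
    · exact (hkey l hl hlk).1 c hc
  · have hρ : IsB (bv i - bv k : Fin n → F) := ⟨i, Or.inr ⟨k, hki, Or.inr rfl⟩⟩
    have hρn : (bv i - bv k : Fin n → F) ⬝ᵥ (bv i - bv k) = 2 := by
      simp [dotProduct_sub, bv_ne hki, bv_ne hki.symm, one_add_one_eq_two]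
    have hkey := fun (x y : Fin n) (e : F) (hx : x ∈ A) (hy : y ∈ A) (hyx : y ≠ x) (he : e * e = 1)
        (ho : (bv i - bv k : Fin n → F) ⬝ᵥ (bv x + e • bv y) = 0) =>
      key _ (bv x + e • bv y) hρ (isB_pair hyx he) ho (by rw [hρn, pair_norm hyx he]; exact ⟨2, rfl⟩)
        (fun c hc => ⟨by simp [bv_ne (show c ≠ i from fun e => hc (e ▸ hi)), bv_ne (show c ≠ k from fun e => hc (e ▸ hk))],
          by simp [bv_ne (show c ≠ x from fun e => hc (e ▸ hx)), bv_ne (show c ≠ y from fun e => hc (e ▸ hy))]⟩) hkr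
    have hsum := hkey i k 1 hi hk hki (one_mul 1) (by simp [sub_dotProduct, bv_ne hki, bv_ne hki.symm])
    refine finish (bv i - bv k) (fun l hl c hc => ?_) hsum.2
    have h1 := hsum.1 c hc
    rw [one_smul, map_add, Pi.add_apply] at h1
    rw [map_sub, Pi.sub_apply] at hc
    have h2' : ∀ u : F, u + u = 0 → u = 0 := fun u hu =>
      (mul_eq_zero.1 (show (2 : F) * u = 0 by linear_combination hu)).resolve_left h2
    have hgi0 : g (bv i) c = 0 := h2' _ (by linear_combination h1 + hc)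
    have hgk0 : g (bv k) c = 0 := by linear_combination h1 - hgi0
    by_cases hli : l = i
    · rw [hli]; exact hgi0
    by_cases hlk : l = k
    · rw [hlk]; exact hgk0
    obtain ⟨o, ho⟩ := Finset.card_pos.1 (show 0 < (((A.erase i).erase k).erase l).card by
      rw [Finset.card_erase_of_mem (by simp [hl, hli, hlk]), Finset.card_erase_of_mem (by simp [hk, hki]),
        Finset.card_erase_of_mem hi]; omega)
    simp only [Finset.mem_erase] at ho
    have hz : ∀ e : F, (bv i - bv k : Fin n → F) ⬝ᵥ (bv l + e • bv o) = 0 := fun e => by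
      simp [sub_dotProduct, bv_ne hli, bv_ne hlk, bv_ne ho.2.2.1, bv_ne ho.2.1, bv_ne (Ne.symm hli), bv_ne (Ne.symm hlk), bv_ne (Ne.symm ho.2.2.1), bv_ne (Ne.symm ho.2.1)]
    have e0 : g (bv i - bv k) c = 0 := by rw [map_sub, Pi.sub_apply]; exact hc
    have a := (hkey l o 1 hl ho.2.2.2 ho.1 (one_mul 1) (hz 1)).1 c e0
    have b := (hkey l o (-1) hl ho.2.2.2 ho.1 (by ring) (hz (-1))).1 c e0
    simp only [map_add, map_smul, Pi.add_apply, Pi.smul_apply, smul_eq_mul] at a b
    exact h2' _ (by linear_combination a + b)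

/-- A non-monomial member preserving a set of four coordinates gives both kinds. -/
theorem good_of_split (hb : 9 ≤ n) {x : (Fin n → F) ≃ₗ[F] (Fin n → F)} (hx : x ∈ N) (hxm : ¬ Mono x)
    (T : Finset (Fin n)) (hT : T.card = 4)
    (hin : ∀ j ∈ T, ∀ c ∉ T, x (bv j) c = 0) (hout : ∀ j ∉ T, ∀ c ∈ T, x (bv j) c = 0) :
    GoodA N ∧ GoodB N := by
  have h2 := C.two
  have hxo := C.mem_orth hx
  have hcard : (Tᶜ).card = n - 4 := by rw [Finset.card_compl, hT, Fintype.card_fin]
  have hn := hb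
  have hconj : ∀ ρ σ : Fin n → F, rf ρ * rf σ ∈ N → rf (x ρ) * rf (x σ) ∈ N := by
    intro ρ σ h
    rw [← rf_conj hxo, ← rf_conj hxo, show x * rf ρ * x⁻¹ * (x * rf σ * x⁻¹) = x * (rf ρ * rf σ) * x⁻¹ by group]
    exact mul_mem (mul_mem hx h) (inv_mem hx)
  by_cases hm : ∀ j ∉ T, ∃ (l : Fin n) (a : F), x (bv j) = a • bv l
  · -- monomial outside `T`
    obtain ⟨i, hi, hni⟩ : ∃ i ∈ T, ∀ (l : Fin n) (a : F), x (bv i) ≠ a • bv l := by
      by_contra h
      push Not at h
      exact hxm fun j => if hj : j ∈ T then h j hj else hm j hj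
    have fin' : ∀ (ρ σ : Fin n → F) (S : Finset (Fin n)), IsB ρ → IsB σ → rf ρ * rf σ ∈ N →
        ¬ RootLike (x ρ) → Mono (rf (x σ)) → (∀ c ∉ T, ρ c = 0) → S.card ≤ 6 → T ⊆ S →
        (∀ c ∉ S, σ c = 0) → GoodA N ∧ GoodB N := by
      intro ρ σ S hρ hσ hN hr hσm hρ0 hS hTS hσ0
      have hy := hconj ρ σ hN
      have hym : ¬ Mono (rf (x ρ) * rf (x σ)) := fun h => hr (mono_rootLike h2
        (by rw [dot_orth_self hxo]; exact isB_dot h2 hρ) (by
          have := mul_mem (show rf (x ρ) * rf (x σ) ∈ monoGroup h2 from ⟨mul_mem (rf_mem_orth _) (rf_mem_orth _), h⟩)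
            (show rf (x σ) ∈ monoGroup h2 from ⟨rf_mem_orth _, hσm⟩)
          rw [mul_assoc, rf_mul_self, mul_one] at this
          exact this.2))
      obtain ⟨m, -, m', -, hne⟩ : ∃ m ∈ Sᶜ, ∃ m' ∈ Sᶜ, m ≠ m' := Finset.one_lt_card.1 (by
        rw [Finset.card_compl, Fintype.card_fin]; omega)
      obtain ⟨m, hm1, m', hm1', hne⟩ : ∃ m ∈ Sᶜ, ∃ m' ∈ Sᶜ, m ≠ m' := Finset.one_lt_card.1 (by
        rw [Finset.card_compl, Fintype.card_fin]; omega)
      rw [Finset.mem_compl] at hm1 hm1'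
      have hfix : ∀ u ∉ S, ∃ (l : Fin n) (a : F), a * a = 1 ∧ x (bv u) = a • bv l ∧
          (rf (x ρ) * rf (x σ)) (bv l) = bv l := by
        intro u hu
        obtain ⟨l, a, hl⟩ := hm u (fun h => hu (hTS h))
        have ha : a * a = 1 := by
          have := dot_orth_self hxo (bv u)
          rw [hl] at this
          simpa using this
        refine ⟨l, a, ha, hl, ?_⟩
        have e : (rf (x ρ) * rf (x σ)) (x (bv u)) = x (bv u) := by
          rw [LinearEquiv.mul_apply, rf_fix (x := x (bv u)) (by rw [dot_orth h2 hxo, bv_dot]; exact hσ0 u hu),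
            rf_fix (by rw [dot_orth h2 hxo, bv_dot]; exact hρ0 u (fun h => hu (hTS h)))]
        rw [hl, map_smul] at e
        exact smul_right_injective _ (fun h => by simp [h] at ha) e
      obtain ⟨l, a, ha, hl, hfl⟩ := hfix m hm1
      obtain ⟨l', a', ha', hl', hfl'⟩ := hfix m' hm1'
      refine good_of_two hy hym (i := l) (j := l') (fun e => ?_) hfl hfl'
      have := dot_orth h2 hxo (bv m) (bv m')
      rw [hl, hl', e, smul_dotProduct, dotProduct_smul, bv_dot_bv, bv_dot_bv, if_pos rfl, if_neg hne] at this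
      simp at this
      rcases this with h | h
      · simp [h] at ha
      · simp [h] at ha'
    rcases root_nonmono h2 hxo T (by omega) hi hni with ⟨k, hk, hkr⟩ | ⟨-, -, i, hi, k, hk, hki, hkr⟩
    · obtain ⟨j, hj⟩ := Finset.card_pos.1 (show 0 < (Tᶜ).card by omega)
      rw [Finset.mem_compl] at hj
      obtain ⟨l, a, hl⟩ := hm j hj
      have ha : a ≠ 0 := fun h => by
        have := dot_orth_self hxo (bv j); simp [hl, h] at this
      exact fin' (bv k) (bv j) (insert j T) ⟨k, Or.inl rfl⟩ ⟨j, Or.inl rfl⟩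
        (C.pair_mem ⟨k, Or.inl rfl⟩ ⟨j, Or.inl rfl⟩ (by simp)) hkr
        (by rw [hl, rf_smul ha]; exact (mono_rf h2 ⟨l, Or.inl rfl⟩).2)
        (fun c hc => bv_ne fun e => hc (e ▸ hk)) ((Finset.card_insert_le _ _).trans (by omega))
        (Finset.subset_insert _ _) (fun c hc => bv_ne fun e => hc (by simp [e]))
    · obtain ⟨j, hj, j', hj', hjj⟩ := Finset.one_lt_card.1 (show 1 < (Tᶜ).card by omega)
      rw [Finset.mem_compl] at hj hj'
      have hρ : IsB (bv i - bv k : Fin n → F) := ⟨i, Or.inr ⟨k, hki, Or.inr rfl⟩⟩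
      have hσ : IsB (bv j - bv j' : Fin n → F) := ⟨j, Or.inr ⟨j', hjj.symm, Or.inr rfl⟩⟩
      obtain ⟨l, a, hl⟩ := hm j hj
      obtain ⟨l', a', hl'⟩ := hm j' hj'
      have ha : a * a = 1 := by have := dot_orth_self hxo (bv j); simpa [hl] using this
      have ha' : a' * a' = 1 := by have := dot_orth_self hxo (bv j'); simpa [hl'] using this
      have hll : l' ≠ l := fun e => by
        have := dot_orth h2 hxo (bv j) (bv j')
        rw [hl, hl', e, smul_dotProduct, dotProduct_smul, bv_dot_bv, bv_dot_bv, if_pos rfl, if_neg hjj] at this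
        simp at this
        rcases this with h | h
        · simp [h] at ha
        · simp [h] at ha'
      have hrf : rf (x (bv j - bv j')) = rf (bv l + (-(a * a')) • bv l') := by
        rw [map_sub, hl, hl', show a • bv l - a' • bv l' = a • (bv l + (-(a * a')) • (bv l' : Fin n → F)) by
          match_scalars
          · simp
          · linear_combination a' * ha, rf_smul (fun h => by simp [h] at ha)]
      refine fin' (bv i - bv k) (bv j - bv j') (insert j (insert j' T)) hρ hσ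
        (C.pair_mem hρ hσ ⟨2, by simp [dotProduct_sub, bv_ne hki, bv_ne hki.symm, bv_ne hjj, bv_ne hjj.symm, one_add_one_eq_two]⟩)
        hkr ?_ (fun c hc => by simp [bv_ne (show c ≠ i from fun e => hc (e ▸ hi)), bv_ne (show c ≠ k from fun e => hc (e ▸ hk))])
        ((Finset.card_insert_le _ _).trans (by have := Finset.card_insert_le j' T; omega))
        ((Finset.subset_insert _ _).trans (Finset.subset_insert _ _))
        (fun c hc => by simp at hc; simp [bv_ne hc.1, bv_ne hc.2.1])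
      rw [hrf]
      exact (mono_rf h2 (isB_pair hll (by linear_combination a' * a' * ha + ha'))).2
  · -- not monomial outside `T`
    push Not at hm
    obtain ⟨i, hi, hni⟩ := hm
    obtain ⟨ρ, σ, hρ, hσ, -, hN, hsupp, hnm⟩ :=
      C.exists_pair hxo Tᶜ (by omega) (Finset.mem_compl.2 hi) hni
    obtain ⟨a, ha, b, hb, hab⟩ := Finset.one_lt_card.1 (show 1 < T.card by omega)
    have hz : ∀ v : Fin n → F, (∀ c ∈ T, v c = 0) → ∀ c ∈ T, x v c = 0 := by
      intro v hv c hc
      rw [sum_bv v, map_sum, Finset.sum_apply]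
      refine Finset.sum_eq_zero fun j _ => ?_
      rw [map_smul, Pi.smul_apply, smul_eq_mul]
      by_cases hj : j ∈ T
      · rw [hv j hj, zero_mul]
      · rw [hout j hj c hc, mul_zero]
    have hfx : ∀ c ∈ T, (rf (x ρ) * rf (x σ)) (bv c) = bv c := fun c hc => by
      rw [LinearEquiv.mul_apply, rf_fix (x := bv c)
          (by rw [bv_dot]; exact hz σ (fun u hu => (hsupp u (by simp [hu])).2) c hc),
        rf_fix (by rw [bv_dot]; exact hz ρ (fun u hu => (hsupp u (by simp [hu])).1) c hc)]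
    exact good_of_two (hconj ρ σ hN) hnm hab.symm (hfx a ha) (hfx b hb)

end Ctx

/-- A non-monomial involution of `N` with its plane. -/
structure Plane (N : Subgroup ((Fin n → F) ≃ₗ[F] (Fin n → F))) (p q : Fin n → F) : Prop where
  pp : p ⬝ᵥ p ≠ 0
  qq : q ⬝ᵥ q ≠ 0
  pq : p ⬝ᵥ q = 0
  mem : rf p * rf q ∈ N
  nmono : ¬ Mono (rf p * rf q)

theorem exists_plane {N : Subgroup ((Fin n → F) ≃ₗ[F] (Fin n → F))} (C : Ctx N) :
    ∃ p q : Fin n → F, Plane N p q := by
  obtain ⟨g, hg, hgm⟩ := C.moved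
  obtain ⟨i, hi⟩ : ∃ i, ∀ (j : Fin n) (a : F), g (bv i) ≠ a • bv j := by
    by_contra h; push Not at h; exact hgm h
  have hgo := C.mem_orth hg
  obtain ⟨ρ, σ, hρ, hσ, ho, hN, -, hnm⟩ :=
    C.exists_pair hgo Finset.univ (by simp; linarith [C.big]) (Finset.mem_univ i) hi
  refine ⟨g ρ, g σ, by rw [dot_orth_self hgo]; exact isB_dot C.two hρ, by rw [dot_orth_self hgo]; exact isB_dot C.two hσ,
    by rw [dot_orth C.two hgo]; exact ho, ?_, hnm⟩
  rw [← rf_conj hgo, ← rf_conj hgo, show g * rf ρ * g⁻¹ * (g * rf σ * g⁻¹) = g * (rf ρ * rf σ) * g⁻¹ by group]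
  exact mul_mem (mul_mem hg hN) (inv_mem hg)

/-- The properties of a monomial involution commuting with the plane involution and the sign change on `T`. -/
structure Comm (N : Subgroup ((Fin n → F) ≃ₗ[F] (Fin n → F))) (p q : Fin n → F) (T : Finset (Fin n))
    (z : (Fin n → F) ≃ₗ[F] (Fin n → F)) : Prop where
  mem : z ∈ N
  mono : Mono z
  invol : ∀ v, z (z v) = v
  ne : z ≠ 1
  pres : ∀ v, InP p q v → InP p q (z v)
  inT : ∀ j ∈ T, ∀ c ∉ T, z (bv j) c = 0
  outT : ∀ j ∉ T, ∀ c ∈ T, z (bv j) c = 0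
  moved : ∀ v, ∃ a b : F, ∀ c ∉ T, v c - z v c = a * p c + b * q c
  scalar : ∃ ε : F, ε * ε = 1 ∧ ∀ d, (∀ c ∉ T, d c = 0) → d ⬝ᵥ p = 0 → d ⬝ᵥ q = 0 → z d = ε • d

namespace Plane

variable {N : Subgroup ((Fin n → F) ≃ₗ[F] (Fin n → F))} {p q : Fin n → F}

theorem neg_of_inP (P : Plane N p q) {v : Fin n → F} (hv : InP p q v) : (rf p * rf q) v = -v := by
  obtain ⟨a, b, rfl⟩ := hv
  rw [LinearEquiv.mul_apply, map_add, map_smul, map_smul, rf_self_neg P.qq, rf_fix P.pq, map_add, map_smul, map_smul,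
    map_neg, rf_self_neg P.pp, rf_fix (by rw [dotProduct_comm]; exact P.pq)]
  module

theorem fix_of_perp (P : Plane N p q) {v : Fin n → F} (hp : v ⬝ᵥ p = 0) (hq : v ⬝ᵥ q = 0) :
    (rf p * rf q) v = v := by
  rw [LinearEquiv.mul_apply, rf_fix hq, rf_fix hp]

theorem sub_inP (P : Plane N p q) (v : Fin n → F) : InP p q (v - (rf p * rf q) v) := by
  refine ⟨(p ⬝ᵥ p)⁻¹ * (2 * (rf q v ⬝ᵥ p)), (q ⬝ᵥ q)⁻¹ * (2 * (v ⬝ᵥ q)), ?_⟩
  rw [LinearEquiv.mul_apply, rf_apply P.pp, rf_apply P.qq]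
  abel

theorem inP_of_neg (P : Plane N p q) (h2 : (2 : F) ≠ 0) {v : Fin n → F} (hv : (rf p * rf q) v = -v) :
    InP p q v := by
  obtain ⟨a, b, h⟩ := P.sub_inP v
  rw [hv, sub_neg_eq_add, ← two_smul F] at h
  exact ⟨2⁻¹ * a, 2⁻¹ * b, by rw [← inv_smul_smul₀ h2 v, h]; module⟩

/-- Either both kinds are found, or the commuting monomial involution exists. -/
theorem good_or_comm (C : Ctx N) (P : Plane N p q) (hb : 9 ≤ n) {T : Finset (Fin n)} (hT : T.card = 4) :
    (GoodA N ∧ GoodB N) ∨ ∃ z, Comm N p q T z := by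
  classical
  have h2 := C.two
  haveI : Finite ((Fin n → F) ≃ₗ[F] (Fin n → F)) :=
    Finite.of_injective (fun g : (Fin n → F) ≃ₗ[F] (Fin n → F) => (g : (Fin n → F) → (Fin n → F)))
      DFunLike.coe_injective
  obtain ⟨a, b, c, d, hab, hac, had, hbc, hbd, hcd, rfl⟩ := Finset.card_eq_four.1 hT
  set s := rf p * rf q
  set t : (Fin n → F) ≃ₗ[F] (Fin n → F) := (rf (bv a) * rf (bv b)) * (rf (bv c) * rf (bv d))
  have htN : t ∈ N := mul_mem (C.pair_mem ⟨a, Or.inl rfl⟩ ⟨b, Or.inl rfl⟩ (by simp))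
    (C.pair_mem ⟨c, Or.inl rfl⟩ ⟨d, Or.inl rfl⟩ (by simp))
  have hb1 : ∀ i, (bv i : Fin n → F) ⬝ᵥ bv i ≠ 0 := fun i => by simp
  have hb0 : ∀ i j : Fin n, i ≠ j → (bv i : Fin n → F) ⬝ᵥ bv j = 0 := fun i j h => by simp [bv_ne h.symm, bv_ne h]
  have tin : ∀ j ∈ ({a, b, c, d} : Finset (Fin n)), t (bv j) = -bv j := by
    intro j hj
    simp only [Finset.mem_insert, Finset.mem_singleton] at hj
    simp only [t, LinearEquiv.mul_apply]
    rcases hj with rfl | rfl | rfl | rfl
    · rw [rf_fix (hb0 _ _ had), rf_fix (hb0 _ _ hac), rf_fix (hb0 _ _ hab), rf_self_neg (hb1 _)]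
    · rw [rf_fix (hb0 _ _ hbd), rf_fix (hb0 _ _ hbc), rf_self_neg (hb1 _), map_neg, rf_fix (hb0 _ _ hab.symm)]
    · rw [rf_fix (hb0 _ _ hcd), rf_self_neg (hb1 _), map_neg, map_neg, rf_fix (hb0 _ _ hbc.symm),
        rf_fix (hb0 _ _ hac.symm)]
    · rw [rf_self_neg (hb1 _), map_neg, map_neg, map_neg, rf_fix (hb0 _ _ hcd.symm), rf_fix (hb0 _ _ hbd.symm),
        rf_fix (hb0 _ _ had.symm)]
  have tout : ∀ j ∉ ({a, b, c, d} : Finset (Fin n)), t (bv j) = bv j := by
    intro j hj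
    simp only [Finset.mem_insert, Finset.mem_singleton, not_or] at hj
    simp only [t, LinearEquiv.mul_apply]
    rw [rf_fix (hb0 _ _ hj.2.2.2), rf_fix (hb0 _ _ hj.2.2.1), rf_fix (hb0 _ _ hj.2.1), rf_fix (hb0 _ _ hj.1)]
  set T : Finset (Fin n) := {a, b, c, d}
  have tcoord : ∀ (v : Fin n → F) l, t v l = if l ∈ T then -v l else v l := by
    intro v l
    conv_lhs => rw [sum_bv v, map_sum, Finset.sum_apply]
    rw [Finset.sum_eq_single l]
    · rw [map_smul]
      split_ifs with hl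
      · rw [tin l hl]; simp
      · rw [tout l hl]; simp
    · intro j _ hj
      rw [map_smul]
      by_cases hjT : j ∈ T
      · rw [tin j hjT]; simp [bv_ne (Ne.symm hj)]
      · rw [tout j hjT]; simp [bv_ne (Ne.symm hj)]
    · simp
  have hss : s * s = 1 := by
    show rf p * rf q * (rf p * rf q) = 1
    nth_rewrite 2 [rf_comm P.pq]
    rw [mul_assoc, ← mul_assoc (rf q), rf_mul_self, one_mul, rf_mul_self]
  have htt : t * t = 1 := LinearEquiv.ext fun v => funext fun l => by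
    rw [LinearEquiv.mul_apply, tcoord, tcoord]
    split_ifs <;> simp
  have hne : ¬ IsConj s t := by
    intro hst
    obtain ⟨g, hg⟩ := isConj_iff.1 hst
    have hmem : ∀ j ∈ T, bv j ∈ Submodule.span F ({g p, g q} : Set (Fin n → F)) := by
      intro j hj
      have h1 : s (g.symm (bv j)) = -g.symm (bv j) := by
        apply g.injective
        rw [map_neg, g.apply_symm_apply, ← tin j hj, ← hg]
        rfl
      obtain ⟨u, v, huv⟩ := P.inP_of_neg h2 h1
      refine Submodule.mem_span_pair.2 ⟨u, v, ?_⟩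
      rw [← map_smul, ← map_smul, ← map_add, ← huv, g.apply_symm_apply]
    have hli : LinearIndependent F (fun j : T => (bv (j : Fin n) : Fin n → F)) := by
      have := (Pi.basisFun F (Fin n)).linearIndependent.comp (fun j : T => (j : Fin n)) Subtype.val_injective
      convert this using 1
      funext j; simp [bv]
    have h1 : Submodule.span F (Set.range fun j : T => (bv (j : Fin n) : Fin n → F)) ≤
        Submodule.span F ({g p, g q} : Set (Fin n → F)) := by
      rw [Submodule.span_le]; rintro _ ⟨j, rfl⟩; exact hmem j j.2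
    have := Submodule.finrank_mono h1
    rw [finrank_span_eq_card hli, Fintype.card_coe, hT] at this
    have := finrank_pair_le (F := F) (g p) (g q)
    omega
  obtain ⟨z, hz, hzz, hz1, hzs, hzt⟩ := CfsgLib.UnMono.exists_central hss htt hne
  have hzN : z ∈ N := by
    have h : Subgroup.closure ({s, t} : Set _) ≤ N := by
      rw [Subgroup.closure_le]
      rintro _ (rfl | rfl)
      · exact P.mem
      · exact htN
    exact h hz
  have hzin : ∀ j ∈ T, ∀ l ∉ T, z (bv j) l = 0 := by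
    intro j hj l hl
    have h := congrArg (fun g : (Fin n → F) ≃ₗ[F] (Fin n → F) => g (bv j) l) hzt
    simp only [LinearEquiv.mul_apply] at h
    rw [tin j hj, map_neg, Pi.neg_apply, tcoord, if_neg hl] at h
    exact (mul_eq_zero.1 (show (2 : F) * z (bv j) l = 0 by linear_combination -h)).resolve_left h2
  have hzout : ∀ j ∉ T, ∀ l ∈ T, z (bv j) l = 0 := by
    intro j hj l hl
    have h := congrArg (fun g : (Fin n → F) ≃ₗ[F] (Fin n → F) => g (bv j) l) hzt
    simp only [LinearEquiv.mul_apply] at h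
    rw [tout j hj, tcoord, if_pos hl] at h
    exact (mul_eq_zero.1 (show (2 : F) * z (bv j) l = 0 by linear_combination h)).resolve_left h2
  by_cases hzm : Mono z
  swap
  · exact Or.inl (C.good_of_split hb hzN hzm T hT hzin hzout)
  refine Or.inr ⟨z, hzN, hzm, fun v => ?_, hz1, ?_, hzin, hzout, ?_, ?_⟩
  · exact LinearEquiv.congr_fun hzz v
  · intro v hv
    refine P.inP_of_neg h2 ?_
    have := LinearEquiv.congr_fun hzs v
    change z (s v) = s (z v) at this
    show s (z v) = -z v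
    rw [← this, show s v = -v from P.neg_of_inP hv, map_neg]
  · -- displacements outside `T` lie in the plane
    refine Subgroup.closure_induction
      (p := fun g _ => ∀ v, ∃ u w : F, ∀ l ∉ T, v l - g v l = u * p l + w * q l) ?_ ?_ ?_ ?_ hz
    · rintro g (rfl | rfl) v
      · obtain ⟨u, w, h⟩ := P.sub_inP v
        exact ⟨u, w, fun l _ => congrFun h l⟩
      · exact ⟨0, 0, fun l hl => by rw [tcoord, if_neg hl]; ring⟩
    · exact fun v => ⟨0, 0, fun l _ => by simp⟩
    · intro g h _ _ hg hh v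
      obtain ⟨u, w, e1⟩ := hh v
      obtain ⟨u', w', e2⟩ := hg (h v)
      exact ⟨u + u', w + w', fun l hl => by rw [LinearEquiv.mul_apply]; linear_combination e1 l hl + e2 l hl⟩
    · intro g _ hg v
      obtain ⟨u, w, e⟩ := hg (g⁻¹ v)
      refine ⟨-u, -w, fun l hl => ?_⟩
      have e' := e l hl
      rw [show g (g⁻¹ v) = v from g.apply_symm_apply v] at e'
      linear_combination -e'
  · -- a scalar on the part of `T` orthogonal to the plane
    refine Subgroup.closure_induction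
      (p := fun g _ => ∃ ε : F, ε * ε = 1 ∧ ∀ v : Fin n → F, (∀ l ∉ T, v l = 0) → v ⬝ᵥ p = 0 → v ⬝ᵥ q = 0 →
        g v = ε • v) ?_ ?_ ?_ ?_ hz
    · rintro g (rfl | rfl)
      · exact ⟨1, one_mul 1, fun v _ hp hq => by rw [P.fix_of_perp hp hq, one_smul]⟩
      · refine ⟨-1, by ring, fun v hv _ _ => funext fun l => ?_⟩
        rw [tcoord]
        split_ifs with hl
        · simp
        · simp [hv l hl]
    · exact ⟨1, one_mul 1, fun v _ _ _ => by simp⟩
    · rintro g h _ _ ⟨u, hu, hg⟩ ⟨w, hw, hh⟩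
      exact ⟨u * w, by linear_combination w * w * hu + hw, fun v a b c => by
        rw [LinearEquiv.mul_apply, hh v a b c, map_smul, hg v a b c, smul_smul, mul_comm]⟩
    · rintro g _ ⟨u, hu, hg⟩
      refine ⟨u, hu, fun v a b c => ?_⟩
      show g.symm v = _
      rw [LinearEquiv.symm_apply_eq, map_smul, hg v a b c, smul_smul, hu, one_smul]

end Plane

end CfsgLib.OrthFrame
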