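import Cfsg.Agent.Lib.OrthFrame.SixSeed

/-!
Dimension six: the search for a member fixing a root.
-/

set_option autoImplicit false
set_option linter.unusedSectionVars false

open scoped Classical

namespace CfsgLib.OrthFrame.Six

open QuadraticMap CfsgLib.Geometry CfsgLib.OrthFrame

variable {F : Type*} [Field F] [Finite F]

local notation "VV" => Fin 6 → F
local notation "EE" => (Fin 6 → F) ≃ₗ[F] (Fin 6 → F)

variable {N : Subgroup ((Fin 6 → F) ≃ₗ[F] (Fin 6 → F))}

theorem two_supp {v : VV} {a b : Fin 6} (hab : a ≠ b) (h : ∀ l, l ≠ a → l ≠ b → v l = 0) :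
    v = v a • bv a + v b • bv b := funext fun l => by
  by_cases ha : l = a
  · subst ha; simp [bv_ne hab]
  by_cases hb : l = b
  · subst hb; simp [bv_ne hab.symm]
  simp [bv_ne ha, bv_ne hb, h l ha hb]

theorem dot_two_supp {v w : VV} {a b : Fin 6} (hab : a ≠ b) (h : ∀ l, l ≠ a → l ≠ b → v l = 0) :
    v ⬝ᵥ w = v a * w a + v b * w b := by
  conv_lhs => rw [two_supp hab h]
  simp [add_dotProduct, smul_dotProduct]

theorem cover {a b e f g h : Fin 6} (hd : [a, b, e, f, g, h].Nodup) (l : Fin 6) :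
    l = a ∨ l = b ∨ l = e ∨ l = f ∨ l = g ∨ l = h := by
  have := hd.length_le_card (α := Fin 6)
  by_contra hl
  push Not at hl
  have h7 : (l :: [a, b, e, f, g, h]).Nodup := by
    refine List.nodup_cons.2 ⟨?_, hd⟩
    simp [hl.1, hl.2.1, hl.2.2.1, hl.2.2.2.1, hl.2.2.2.2.1, hl.2.2.2.2.2]
  simpa using h7.length_le_card

theorem exists_four {a b : Fin 6} (hab : a ≠ b) :
    ∃ e f g h : Fin 6, [a, b, e, f, g, h].Nodup := by
  obtain ⟨e, f, g, h, h1, h2', h3, h4, h5, h6, he⟩ := Finset.card_eq_four.1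
    (show (Finset.univ \ {a, b} : Finset (Fin 6)).card = 4 by
      rw [Finset.card_sdiff_of_subset (Finset.subset_univ _), Finset.card_pair hab]; simp)
  have hm : ∀ x, x ∈ ({e, f, g, h} : Finset (Fin 6)) → x ≠ a ∧ x ≠ b := fun x hx => by
    rw [← he] at hx; simpa using hx
  refine ⟨e, f, g, h, ?_⟩
  have := hm e (by simp); have := hm f (by simp); have := hm g (by simp); have := hm h (by simp)
  simp [hab, h1, h2', h3, h4, h5, h6]
  refine ⟨?_, ?_⟩ <;> refine ⟨?_, ?_, ?_, ?_⟩ <;> (intro hh; simp_all)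

/-- One vector on two coordinates, the other on the other four: a member fixes a coordinate vector or the
central involution of two of the four is monomial. -/
theorem split_cases (C : Ctx N) {p q : VV} (P : Plane N p q) {a b : Fin 6} (hab : a ≠ b)
    (hp : ∀ l, l ≠ a → l ≠ b → p l = 0) (hqa : q a = 0) (hqb : q b = 0) {e f g h : Fin 6}
    (hd : [a, b, e, f, g, h].Nodup) :
    GoodA N ∨ q e ≠ 0 ∧ q f ≠ 0 ∧ q g ≠ 0 ∧
      ∃ (z : EE) (c : F), Zs N p q e f (q f • bv e + (-q e) • bv f) z c ∧ Mono z := by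
  have h2 := C.two
  have hd' := hd
  simp only [List.nodup_cons, List.mem_cons, List.not_mem_nil, or_false, not_or, List.nodup_nil, and_true,
    not_false_eq_true] at hd'
  obtain ⟨⟨-, hae, haf, hag, hah⟩, ⟨hbe, hbf, hbg, hbh⟩, ⟨hef, heg, heh⟩, ⟨hfg, hfh⟩, hgh⟩ := hd'
  have hpe := hp e (Ne.symm hae) (Ne.symm hbe)
  have hpf := hp f (Ne.symm haf) (Ne.symm hbf)
  have hpg := hp g (Ne.symm hag) (Ne.symm hbg)
  have hph := hp h (Ne.symm hah) (Ne.symm hbh)
  by_cases he0 : q e = 0
  · exact Or.inl ⟨_, P.mem, P.nmono, e, Or.inl (P.fix_of_perp (by rw [bv_dot]; exact hpe) (by rw [bv_dot]; exact he0))⟩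
  by_cases hf0 : q f = 0
  · exact Or.inl ⟨_, P.mem, P.nmono, f, Or.inl (P.fix_of_perp (by rw [bv_dot]; exact hpf) (by rw [bv_dot]; exact hf0))⟩
  by_cases hg0 : q g = 0
  · exact Or.inl ⟨_, P.mem, P.nmono, g, Or.inl (P.fix_of_perp (by rw [bv_dot]; exact hpg) (by rw [bv_dot]; exact hg0))⟩
  set ε : VV := q f • bv e + (-q e) • bv f with hε
  have hεp : ε ⬝ᵥ p = 0 := by simp [hε, add_dotProduct, smul_dotProduct, hpe, hpf]
  have hεq : ε ⬝ᵥ q = 0 := by simp [hε, add_dotProduct, smul_dotProduct]; ring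
  have hεs : ∀ l, l ≠ e → l ≠ f → ε l = 0 := fun l h1 h1' => by simp [hε, bv_ne h1, bv_ne h1']
  have hε0 : ε ≠ 0 := fun h0 => hf0 (by simpa [hε, bv_ne hef] using congrFun h0 e)
  obtain ⟨z, c, Z⟩ := exists_z C P hef hε0 hεs hεp hεq
  by_cases hzm : Mono z
  · exact Or.inr ⟨he0, hf0, hg0, z, c, Z, hzm⟩
  refine Or.inl ⟨z, Z.mem, hzm, ?_⟩
  have hzo := C.mem_orth Z.mem
  have hzp : z p = c • p := Z.inp p (inP_left p q) hpe hpf
  have hnp : p ⬝ᵥ p = p a * p a + p b * p b := dot_two_supp hab hp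
  set r : VV := p b • bv a + (-p a) • bv b with hr
  have hrs : ∀ l, l ≠ a → l ≠ b → r l = 0 := fun l h1 h1' => by simp [hr, bv_ne h1, bv_ne h1']
  have hzr : z r = r := Z.fix r (by rw [dot_two_supp hab hrs]; simp [hr, bv_ne hab, bv_ne hab.symm]; ring)
    (by rw [dot_two_supp hab hrs, hqa, hqb]; ring) (hrs e (Ne.symm hae) (Ne.symm hbe)) (hrs f (Ne.symm haf) (Ne.symm hbf))
  have hcomb : p a • p + p b • r = (p ⬝ᵥ p) • bv a := funext fun l => by
    by_cases ha : l = a
    · subst ha; simp [hr, bv_ne hab, hnp]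
    by_cases hb : l = b
    · subst hb; simp [hr, bv_ne ha]; ring
    simp [hr, bv_ne ha, bv_ne hb, hp l ha hb]
  have hcc := Z.csq
  rcases mul_self_eq_one_iff.1 hcc with hc | hc
  · -- the coordinate vector is fixed
    have : z (bv a) = bv a := by
      have e1 := congrArg z hcomb
      rw [map_add, map_smul, map_smul, map_smul, hzp, hzr, hc, one_smul, hcomb] at e1
      exact (smul_right_injective VV P.pp e1).symm
    exact ⟨a, Or.inl this⟩
  -- what is perpendicular to both stays off the pair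
  have key : ∀ v : VV, v a = 0 → v b = 0 → z v a = 0 ∧ z v b = 0 := by
    intro v hva hvb
    have hAp : z v ⬝ᵥ p = 0 := by
      have e1 := dot_orth h2 hzo v p
      rw [hzp, hc, neg_one_smul, dotProduct_neg] at e1
      have : v ⬝ᵥ p = 0 := by rw [dotProduct_comm, dot_two_supp hab hp, hva, hvb]; ring
      rw [this] at e1
      exact neg_eq_zero.1 e1
    have hAr : z v ⬝ᵥ r = 0 := by
      have e1 := dot_orth h2 hzo v r
      rw [hzr] at e1
      rw [e1, dotProduct_comm, dot_two_supp hab hrs, hva, hvb]; ring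
    rw [dotProduct_comm, dot_two_supp hab hp] at hAp
    rw [dotProduct_comm, dot_two_supp hab hrs] at hAr
    simp [hr, bv_ne hab, bv_ne hab.symm] at hAr
    constructor <;> refine (mul_eq_zero.1 ?_).resolve_left (hnp ▸ P.pp)
    · linear_combination p a * hAp + p b * hAr
    · linear_combination p b * hAp - p a * hAr
  obtain ⟨α, β, hzq⟩ := inP_comm P h2 Z.comms (inP_right p q)
  have hα : α = 0 := by
    have e1 := dot_orth h2 hzo p q
    rw [hzp, hc, neg_one_smul, hzq, neg_dotProduct, dotProduct_add, dotProduct_smul, dotProduct_smul, P.pq] at e1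
    simp at e1
    exact e1.resolve_right P.pp
  rw [hα, zero_smul, zero_add] at hzq
  have hββ : β * β = 1 := by
    have e1 := dot_orth_self hzo q
    rw [hzq, smul_dotProduct, dotProduct_smul, smul_eq_mul, smul_eq_mul, ← mul_assoc] at e1
    exact (mul_eq_right₀ P.qq).1 e1
  set qE : VV := q e • bv e + q f • bv f with hqE
  set qG : VV := q g • bv g + q h • bv h with hqG
  have hsum : q = qE + qG := funext fun l => by
    rcases cover hd l with rfl | rfl | rfl | rfl | rfl | rfl <;>
      simp [hqE, hqG, bv_ne, hqa, hqb, hae, haf, hag, hah, hbe, hbf, hbg, hbh, hef, heg, heh, hfg, hfh, hgh,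
        Ne.symm hef, Ne.symm heg, Ne.symm heh, Ne.symm hfg, Ne.symm hfh, Ne.symm hgh]
  have hzE : ∀ l, l ≠ e → l ≠ f → z qE l = 0 :=
    (comm_tt h2 hef Z.commt qE).1 fun l h1 h1' => by simp [hqE, bv_ne h1, bv_ne h1']
  have hzG := (comm_tt h2 hef Z.commt qG).2 (by simp [hqG, bv_ne heg, bv_ne heh]) (by simp [hqG, bv_ne hfg, bv_ne hfh])
  have hzE' : z qE = β • qE ∧ z qG = β • qG := by
    have e1 : z qE + z qG = β • qE + β • qG := by rw [← map_add, ← smul_add, ← hsum, hzq]
    have e2 : z qE = β • qE := funext fun l => by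
      by_cases hl : l = e ∨ l = f
      · have := congrFun e1 l
        have hG0 : qG l = 0 := by
          rcases hl with rfl | rfl <;> simp [hqG, bv_ne heg, bv_ne heh, bv_ne hfg, bv_ne hfh]
        have hzG0 : z qG l = 0 := by rcases hl with rfl | rfl; exacts [hzG.1, hzG.2]
        simp only [Pi.add_apply, Pi.smul_apply, smul_eq_mul, hG0, hzG0, mul_zero, add_zero] at this ⊢
        exact this
      · push Not at hl
        rw [hzE l hl.1 hl.2]; simp [hqE, bv_ne hl.1, bv_ne hl.2]
    exact ⟨e2, by rw [e2] at e1; exact add_left_cancel e1⟩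
  rcases mul_self_eq_one_iff.1 hββ with hβ | hβ
  · -- `bv g` is fixed
    set w : VV := q h • bv g + (-q g) • bv h with hw
    have hzw : z w = w := Z.fix w (by simp [hw, add_dotProduct, smul_dotProduct, hpg, hph])
      (by simp [hw, add_dotProduct, smul_dotProduct]; ring) (by simp [hw, bv_ne heg, bv_ne heh]) (by simp [hw, bv_ne hfg, bv_ne hfh])
    set u : VV := bv g - z (bv g) with hu
    have hzu : z u = -u := by
      have := congrArg (fun x : EE => x (bv g)) Z.invol
      simp only [LinearEquiv.mul_apply] at this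
      rw [hu, map_sub, this]
      show z (bv g) - bv g = _
      abel
    have hgab := key (bv g) (bv_ne hag) (bv_ne hbg)
    have hgef := (comm_tt h2 hef Z.commt (bv g)).2 (bv_ne heg) (bv_ne hfg)
    have hus : ∀ l, l ≠ g → l ≠ h → u l = 0 := fun l h1 h1' => by
      rcases cover hd l with rfl | rfl | rfl | rfl | rfl | rfl
      all_goals first
        | exact absurd rfl h1
        | exact absurd rfl h1'
        | simp [hu, bv_ne h1, hgab.1, hgab.2, hgef.1, hgef.2]
    have huw : u g * q h - u h * q g = 0 := by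
      have e1 := dot_orth h2 hzo u w
      rw [hzu, hzw, neg_dotProduct] at e1
      have e2 : u ⬝ᵥ w = 0 :=
        (mul_eq_zero.1 (show (2 : F) * (u ⬝ᵥ w) = 0 by linear_combination -e1)).resolve_left h2
      rw [dot_two_supp hgh hus] at e2
      simp [hw, bv_ne hgh, bv_ne (Ne.symm hgh)] at e2
      linear_combination e2
    have hk : u = (u g / q g) • qG := funext fun l => by
      by_cases h1 : l = g
      · subst h1; simp [hqG, bv_ne hgh, hg0]
      by_cases h1' : l = h
      · subst h1'; simp [hqG, bv_ne h1]; field_simp; linear_combination -huw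
      simp [hus l h1 h1', hqG, bv_ne h1, bv_ne h1']
    have h0 : (2 : F) • u = 0 := by
      have e1 : z u = u := by rw [hk, map_smul, hzE'.2, hβ, one_smul]
      rw [hzu] at e1
      rw [two_smul]; nth_rewrite 1 [← e1]; simp
    have := (smul_eq_zero.1 h0).resolve_left h2
    rw [hu, sub_eq_zero] at this
    exact ⟨g, Or.inl this.symm⟩
  · -- `bv e` is negated
    set u : VV := bv e + z (bv e) with hu
    have hzu : z u = u := by
      have := congrArg (fun x : EE => x (bv e)) Z.invol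
      simp only [LinearEquiv.mul_apply] at this
      rw [hu, map_add, this]
      show z (bv e) + bv e = _
      abel
    have hus : ∀ l, l ≠ e → l ≠ f → u l = 0 := fun l h1 h1' => by
      simp [hu, bv_ne h1, (comm_tt h2 hef Z.commt (bv e)).1 (fun m hm _ => bv_ne hm) l h1 h1']
    have hue : u e * q f - u f * q e = 0 := by
      have e1 := dot_orth h2 hzo u ε
      rw [hzu, Z.heps, hc, neg_one_smul, dotProduct_neg] at e1
      have e2 : u ⬝ᵥ ε = 0 :=
        (mul_eq_zero.1 (show (2 : F) * (u ⬝ᵥ ε) = 0 by linear_combination -e1)).resolve_left h2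
      rw [dot_two_supp hef hus] at e2
      simp [hε, bv_ne hef, bv_ne (Ne.symm hef)] at e2
      linear_combination e2
    have hk : u = (u e / q e) • qE := funext fun l => by
      by_cases h1 : l = e
      · subst h1; simp [hqE, bv_ne hef, he0]
      by_cases h1' : l = f
      · subst h1'; simp [hqE, bv_ne h1]; field_simp; linear_combination -hue
      simp [hus l h1 h1', hqE, bv_ne h1, bv_ne h1']
    have h0 : (2 : F) • u = 0 := by
      have e1 : z u = -u := by rw [hk, map_smul, hzE'.1, hβ, neg_one_smul, smul_neg]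
      rw [hzu] at e1
      rw [two_smul]; nth_rewrite 1 [e1]; simp
    have := (smul_eq_zero.1 h0).resolve_left h2
    rw [hu, add_eq_zero_iff_eq_neg'] at this
    exact ⟨e, Or.inr this⟩

/-- One vector on two coordinates, the other on the other four. -/
theorem good_of_split (C : Ctx N) {p q : VV} (P : Plane N p q) {a b : Fin 6} (hab : a ≠ b)
    (hp : ∀ l, l ≠ a → l ≠ b → p l = 0) (hqa : q a = 0) (hqb : q b = 0) : Good N := by
  obtain ⟨e, f, g, h, hd⟩ := exists_four hab
  rcases split_cases C P hab hp hqa hqb hd with ⟨x, hx, hxm, i, hi⟩ | ⟨he0, hf0, -, z, c, Z, hzm⟩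
  · exact ⟨x, hx, hxm, bv i, isB_bv i, hi⟩
  simp only [List.nodup_cons, List.mem_cons, List.not_mem_nil, or_false, not_or, List.nodup_nil, and_true,
    not_false_eq_true] at hd
  obtain ⟨⟨-, hae, haf, -⟩, ⟨hbe, hbf, -⟩, ⟨hef, -⟩, -⟩ := hd
  refine good_of_monoZ C P hef Z hzm ?_ ?_ ?_ hf0 (neg_ne_zero.2 he0)
  · rw [hp e (Ne.symm hae) (Ne.symm hbe), hp f (Ne.symm haf) (Ne.symm hbf)]; ring
  · simp [add_dotProduct, smul_dotProduct, hp e (Ne.symm hae) (Ne.symm hbe), hp f (Ne.symm haf) (Ne.symm hbf)]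
  · simp [add_dotProduct, smul_dotProduct]; ring

theorem rootLike_bv {v : VV} {a : Fin 6} (h : ∀ l, l ≠ a → v l = 0) : RootLike v :=
  ⟨bv a, v a, isB_bv a, funext fun l => by by_cases hl : l = a <;> [subst hl; skip] <;> simp [*, bv_ne]⟩

/-- A non-monomial member respecting two coordinates. -/
theorem good_of_comm (C : Ctx N) {x : EE} (hx : x ∈ N) (hxm : ¬ Mono x) {a b : Fin 6} (hab : a ≠ b)
    (hxt : x * tt a b = tt a b * x) : Good N := by
  have h2 := C.two
  have hsup := (comm_tt h2 hab hxt (bv a)).1 fun l h1 _ => bv_ne h1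
  by_cases hr : RootLike (x (bv a))
  · exact good_of_col C hx hxm hr
  obtain ⟨c, -, hc⟩ : ∃ c ∈ Finset.univ, c ∉ ({a, b} : Finset (Fin 6)) :=
    Finset.exists_mem_notMem_of_card_lt_card (Finset.card_le_two.trans_lt (by simp))
  simp only [Finset.mem_insert, Finset.mem_singleton, not_or] at hc
  obtain ⟨hqa, hqb⟩ := (comm_tt h2 hab hxt (bv c)).2 (bv_ne (Ne.symm hc.1)) (bv_ne (Ne.symm hc.2))
  have hxo := C.mem_orth hx
  refine good_of_split C (plane_image C hx (isB_bv a) (isB_bv c) (by simp [bv_ne hc.1])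
    (by simp) ?_) hab hsup hqa hqb
  intro hm
  have h1 := (mono_pair_supp h2 (by rw [dot_orth_self hxo]; simp) (by rw [dot_orth_self hxo]; simp)
    (by rw [dot_orth h2 hxo]; simp [bv_ne hc.1]) hr hm).1
  have : x (bv c) = 0 := funext fun l => by
    by_cases hla : l = a
    · rw [hla]; exact hqa
    by_cases hlb : l = b
    · rw [hlb]; exact hqb
    exact h1 l (hsup l hla hlb)
  simpa using congrFun ((LinearEquiv.map_eq_zero_iff x).1 this) c

/-- Two coordinates with proportional entries in the plane. -/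
theorem good_of_rows (C : Ctx N) {p q : VV} (P : Plane N p q) {a b : Fin 6} (hab : a ≠ b)
    (hrel : p a * q b = p b * q a) : Good N := by
  by_cases hp : p a = 0 ∧ q a = 0
  · exact good_of_zero P hp.1 hp.2
  obtain ⟨X, Y, hXY, hεp, hεq⟩ : ∃ X Y : F, (X ≠ 0 ∨ Y ≠ 0) ∧
      (X • bv a + Y • bv b : VV) ⬝ᵥ p = 0 ∧ (X • bv a + Y • bv b : VV) ⬝ᵥ q = 0 := by
    by_cases hpa : p a = 0
    · exact ⟨q b, -q a, Or.inr (neg_ne_zero.2 fun h => hp ⟨hpa, h⟩),
        by simp [add_dotProduct, smul_dotProduct]; linear_combination hrel,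
        by simp [add_dotProduct, smul_dotProduct]; ring⟩
    · exact ⟨p b, -p a, Or.inr (neg_ne_zero.2 hpa),
        by simp [add_dotProduct, smul_dotProduct]; ring,
        by simp [add_dotProduct, smul_dotProduct]; linear_combination -hrel⟩
  by_cases hX : X = 0
  · refine good_of_perp P (isB_bv b) ?_ ?_
    all_goals
      simp only [hX, zero_smul, zero_add, smul_dotProduct, smul_eq_mul, mul_eq_zero] at hεp hεq
    · exact hεp.resolve_left (hXY.resolve_left (not_not.2 hX))
    · exact hεq.resolve_left (hXY.resolve_left (not_not.2 hX))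
  by_cases hY : Y = 0
  · refine good_of_perp P (isB_bv a) ?_ ?_
    all_goals
      simp only [hY, zero_smul, add_zero, smul_dotProduct, smul_eq_mul, mul_eq_zero] at hεp hεq
    · exact hεp.resolve_left hX
    · exact hεq.resolve_left hX
  obtain ⟨z, c, Z⟩ := exists_z C P hab
    (fun h => hX (by simpa [bv_ne hab] using congrFun h a))
    (fun l h1 h1' => by simp [bv_ne h1, bv_ne h1']) hεp hεq
  by_cases hzm : Mono z
  · exact good_of_monoZ C P hab Z hzm hrel hεp hεq hX hY
  · exact good_of_comm C Z.mem hzm hab Z.commt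

/-- The swap or negated swap of two coordinates. -/
theorem rf_swap (h2 : (2 : F) ≠ 0) {i j : Fin 6} (hij : j ≠ i) {e : F} (he : e * e = 1) (v : VV) (l : Fin 6) :
    rf (bv i + (-e) • bv j) v l = if l = i then e * v j else if l = j then e * v i else v l := by
  have hn := pair_norm (n := 6) hij (e := -e) (by linear_combination he)
  rw [rf_apply (by rw [hn]; exact h2), hn, dotProduct_add, dotProduct_smul, dot_bv, dot_bv, ← mul_assoc,
    inv_mul_cancel₀ h2, one_mul, Pi.sub_apply, Pi.smul_apply, Pi.add_apply, Pi.smul_apply, smul_eq_mul, smul_eq_mul,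
    smul_eq_mul]
  by_cases h1 : l = i
  · subst h1; simp [bv_ne hij.symm]
  by_cases h3 : l = j
  · subst h3; simp [bv_ne h1, h1]; linear_combination (-v l) * he
  simp [bv_ne h1, bv_ne h3, h1, h3]

/-- A monomial involution commuting with the plane involution. -/
theorem good_of_inv (C : Ctx N) {p q : VV} (P : Plane N p q) {z : EE} (hz : z ∈ N) (hzm : Mono z)
    (hzz : z * z = 1) (hzs : z * (rf p * rf q) = rf p * rf q * z) (hne : z ≠ 1) {w : VV} (hw0 : w ≠ 0)
    (hw : z w = w) : Good N := by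
  have h2 := C.two
  have hzo := C.mem_orth hz
  obtain ⟨π, ε, hε, hπ, hco⟩ := mono_spec h2 hzo hzm
  have hinv : ∀ l, π (π l) = l ∧ ε (π l) = ε l := by
    intro l
    have h := congrArg (fun x : EE => x (bv l)) hzz
    simp only [LinearEquiv.mul_apply, hπ, map_smul, smul_smul, LinearEquiv.coe_one, id_eq] at h
    have hll : π (π l) = l := by
      by_contra hc
      have := congrFun h l
      simp [bv_ne (Ne.symm hc)] at this
    refine ⟨hll, ?_⟩
    have := congrFun h l
    simp [hll] at this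
    linear_combination (-ε (π l)) * hε l + ε l * this
  by_cases hfx : ∃ a b, a ≠ b ∧ π a = a ∧ π b = b ∧ ε a = ε b
  · obtain ⟨a, b, hab, hpa, hpb, heq⟩ := hfx
    set c := ε a with hc
    have hcc : c * c = 1 := hε a
    by_cases hsc : ∀ x, InP p q x → z x = c • x
    · obtain ⟨v, hv⟩ : ∃ v, z v ≠ c • v := by
        rcases mul_self_eq_one_iff.1 hcc with e | e <;> rw [e]
        · by_contra h
          push Not at h
          exact hne (LinearEquiv.ext fun v => by rw [h, one_smul]; rfl)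
        · refine ⟨w, fun h => hw0 ?_⟩
          rw [hw, neg_one_smul, eq_neg_iff_add_eq_zero, ← two_smul F] at h
          exact (smul_eq_zero.1 h).resolve_left h2
      exact good_of_scalar C P hz hzm hzz hcc (hsc p (inP_left p q)) (hsc q (inP_right p q)) hv
    push Not at hsc
    obtain ⟨x, hx, hxne⟩ := hsc
    set u := x - c • z x with hu
    have hu0 : u ≠ 0 := fun h => hxne (by
      rw [hu, sub_eq_zero] at h
      conv_rhs => rw [h, smul_smul, hcc, one_smul])
    have hzu : z u = -c • u := by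
      have := congrArg (fun x' : EE => x' x) hzz
      simp only [LinearEquiv.mul_apply] at this
      rw [hu, map_sub, map_smul, this, smul_sub, smul_smul, neg_mul, hcc]
      show z x - c • x = _
      module
    have hzero : ∀ l, π l = l → ε l = c → u l = 0 := fun l h1 h1' => by
      have h := hco u l
      rw [h1, h1', hzu, Pi.smul_apply, smul_eq_mul] at h
      exact (mul_eq_zero.1 (show (2 * c) * u l = 0 by linear_combination -h)).resolve_left
        (mul_ne_zero h2 fun h => by simp [h] at hcc)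
    obtain ⟨α, β, hαβ⟩ := hx.sub ((inP_comm P h2 hzs hx).smul c)
    rw [← hu] at hαβ
    refine good_of_rows C P hab ?_
    have ra : α * p a + β * q a = 0 := by rw [← hzero a hpa rfl, hαβ]; simp
    have rb : α * p b + β * q b = 0 := by rw [← hzero b hpb heq.symm, hαβ]; simp
    by_cases hα : α = 0
    · have hβ : β ≠ 0 := fun h => hu0 (by rw [hαβ, hα, h]; simp)
      simp [hα, hβ] at ra rb
      rw [ra, rb, mul_zero, mul_zero]
    · refine mul_left_cancel₀ hα ?_
      linear_combination q b * ra - q a * rb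
  -- otherwise the determinant is wrong
  exfalso
  push Not at hfx
  have hmv : ∀ S : Finset (Fin 6), S.card ≤ 3 → ∃ i ∉ S, π i ≠ i := by
    intro S hS
    by_contra h
    push Not at h
    have hinj : Set.InjOn ε ↑(Finset.univ \ S) := fun a ha b hb e => by
      by_contra hne'
      simp at ha hb
      exact hfx a b hne' (h a ha) (h b hb) e
    have hsub : (Finset.univ \ S).image ε ⊆ {1, -1} := fun x hx => by
      obtain ⟨i, -, rfl⟩ := Finset.mem_image.1 hx
      rcases mul_self_eq_one_iff.1 (hε i) with e | e <;> simp [e]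
    have h1 := Finset.card_le_card hsub
    rw [Finset.card_image_of_injOn hinj, Finset.card_sdiff_of_subset (Finset.subset_univ _)] at h1
    have := Finset.card_le_two (a := (1 : F)) (b := -1)
    simp at h1
    omega
  obtain ⟨i, -, hi⟩ := hmv ∅ (by simp)
  obtain ⟨k, hk, hk'⟩ := hmv {i, π i} (Finset.card_le_two.trans (by omega))
  simp only [Finset.mem_insert, Finset.mem_singleton, not_or] at hk
  have hkj : π k ≠ i ∧ π k ≠ π i :=
    ⟨fun h => hk.2 (by rw [← (hinv k).1, h]), fun h => hk.1 (π.injective h)⟩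
  have hd : ((({i, π i} : Finset (Fin 6)) ∪ {k, π k})).card ≤ 4 :=
    (Finset.card_union_le _ _).trans (by linarith [Finset.card_le_two (a := i) (b := π i), Finset.card_le_two (a := k) (b := π k)])
  obtain ⟨m, n', hmn, hrest⟩ : ∃ m n' : Fin 6, m ≠ n' ∧ Finset.univ \ (({i, π i} : Finset (Fin 6)) ∪ {k, π k}) = {m, n'} := by
    refine Finset.card_eq_two.1 ?_
    rw [Finset.card_sdiff_of_subset (Finset.subset_univ _), Finset.card_union_of_disjoint (by
      simp [hk.1, hk.2, hkj.1, hkj.2, Ne.symm hk.1, Ne.symm hk.2, Ne.symm hkj.1, Ne.symm hkj.2]),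
      Finset.card_pair (Ne.symm hi), Finset.card_pair (Ne.symm hk')]
    simp
  have hcov : ∀ l, l = i ∨ l = π i ∨ l = k ∨ l = π k ∨ l = m ∨ l = n' := fun l => by
    by_contra h
    push Not at h
    have : l ∈ Finset.univ \ (({i, π i} : Finset (Fin 6)) ∪ {k, π k}) := by simp [h.1, h.2.1, h.2.2.1, h.2.2.2.1]
    rw [hrest] at this
    simp [h.2.2.2.2.1, h.2.2.2.2.2] at this
  have hm : ∀ l ∈ ({m, n'} : Finset (Fin 6)), (l ≠ i ∧ l ≠ π i) ∧ l ≠ k ∧ l ≠ π k := fun l hl => by
    rw [← hrest] at hl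
    simp only [Finset.mem_sdiff, Finset.mem_union, Finset.mem_insert, Finset.mem_singleton, Finset.mem_univ, true_and, not_or] at hl
    exact hl
  obtain ⟨⟨hmi, hmi'⟩, hmk, hmk'⟩ := hm m (by simp)
  obtain ⟨⟨hni, hni'⟩, hnk, hnk'⟩ := hm n' (by simp)
  have hmem : ∀ l, l ≠ i → l ≠ π i → l ≠ k → l ≠ π k → l = m ∨ l = n' := fun l h1 h2' h3 h4 => by
    rcases hcov l with h | h | h | h | h | h <;> first | exact absurd h ‹_› | exact Or.inl h | exact Or.inr h
  have stay : ∀ l, (l = m ∨ l = n') → π l = m ∨ π l = n' := fun l hl => by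
    have : (l ≠ i ∧ l ≠ π i) ∧ l ≠ k ∧ l ≠ π k := hm l (by rcases hl with rfl | rfl <;> simp)
    refine hmem _ (fun h => this.1.2 ?_) (fun h => this.1.1 (π.injective h)) (fun h => this.2.2 ?_)
      (fun h => this.2.1 (π.injective h))
    · rw [← h, (hinv l).1]
    · rw [← h, (hinv l).1]
  -- the remaining reflection
  obtain ⟨v, hv, hvs, hvz⟩ : ∃ v : VV, IsB v ∧ (∀ l, l ≠ m → l ≠ n' → v l = 0) ∧
      ∀ (x : VV), rf v x m = z x m ∧ rf v x n' = z x n' := by
    by_cases hpm : π m = m
    · have hpn : π n' = n' := (stay n' (Or.inr rfl)).resolve_left fun h => hmn (π.injective (hpm.trans h.symm))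
      have hne' := hfx m n' hmn hpm hpn
      rcases mul_self_eq_one_iff.1 (hε m) with e | e
      · refine ⟨bv n', isB_bv n', fun l _ h1 => bv_ne h1, fun x => ?_⟩
        have en : ε n' = -1 := (mul_self_eq_one_iff.1 (hε n')).resolve_left fun h => hne' (e.trans h.symm)
        have h1 := hco x m
        have h2' := hco x n'
        rw [hpm, e] at h1
        rw [hpn, en] at h2'
        rw [h1, h2', rf_apply (by simp)]
        simp [bv_ne hmn]
        ring
      · refine ⟨bv m, isB_bv m, fun l h1 _ => bv_ne h1, fun x => ?_⟩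
        have en : ε n' = 1 := (mul_self_eq_one_iff.1 (hε n')).resolve_right fun h => hne' (e.trans h.symm)
        have h1 := hco x m
        have h2' := hco x n'
        rw [hpm, e] at h1
        rw [hpn, en] at h2'
        rw [h1, h2', rf_apply (by simp)]
        simp [bv_ne (Ne.symm hmn)]
        ring
    · have hpm' : π m = n' := (stay m (Or.inl rfl)).resolve_left hpm
      refine ⟨bv m + (-ε m) • bv n', isB_pair (Ne.symm hmn) (by linear_combination hε m),
        fun l h1 h1' => by simp [bv_ne h1, bv_ne h1'], fun x => ?_⟩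
      have h1 := hco x m
      have h2' := hco x n'
      rw [hpm'] at h1
      rw [show π n' = m by rw [← hpm', (hinv m).1], show ε n' = ε m by rw [← hpm', (hinv m).2]] at h2'
      rw [h1, h2', rf_swap h2 (Ne.symm hmn) (hε m), rf_swap h2 (Ne.symm hmn) (hε m)]
      simp [Ne.symm hmn]
  set R1 := rf (bv i + (-ε i) • bv (π i) : VV)
  set R2 := rf (bv k + (-ε k) • bv (π k) : VV)
  have hz' : R1 * R2 * rf v = z := LinearEquiv.ext fun x => funext fun l => by
    have out : ∀ l, l ≠ m → l ≠ n' → rf v x l = x l := fun l h1 h1' => by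
      rw [rf_apply (isB_dot h2 hv)]
      simp [hvs l h1 h1']
    rw [LinearEquiv.mul_apply, LinearEquiv.mul_apply]
    simp only [R1, R2, rf_swap h2 hi (hε i), rf_swap h2 hk' (hε k)]
    have ei := hco x i
    have ek := hco x k
    have ei' := hco x (π i)
    have ek' := hco x (π k)
    rw [(hinv i).1, (hinv i).2] at ei'
    rw [(hinv k).1, (hinv k).2] at ek'
    rcases hcov l with h | h | h | h | h | h <;> subst h
    · simp [out _ (Ne.symm hmi') (Ne.symm hni'), Ne.symm hk.2, Ne.symm hkj.2, hi, ei']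
    · simp [out _ (Ne.symm hmi) (Ne.symm hni), Ne.symm hk.1, Ne.symm hkj.1, hi, ei]
    · simp [out _ (Ne.symm hmk') (Ne.symm hnk'), hk.1, hk.2, hk', ek']
    · simp [out _ (Ne.symm hmk) (Ne.symm hnk), hkj.1, hkj.2, hk', ek]
    · simp [hmi, hmi', hmk, hmk', (hvz x).1]
    · simp [hni, hni', hnk, hnk', (hvz x).2]
  refine rf_notMem h2 (by omega) (isB_dot h2 hv) (C.le ?_)
  have hpair := C.pair_mem (isB_pair hi (e := -ε i) (by linear_combination hε i))
    (isB_pair hk' (e := -ε k) (by linear_combination hε k))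
    (by rw [pair_norm hi (by linear_combination hε i), pair_norm hk' (by linear_combination hε k)]; exact ⟨2, rfl⟩)
  have := mul_mem (inv_mem hpair) hz
  rwa [← hz', inv_mul_cancel_left] at this

/-- The sum of the first two, and of the next two coordinate vectors. -/
def rho : VV := bv 0 + bv 1

def sig : VV := bv 2 + bv 3

/-- The double transposition of those. -/
noncomputable def uu : EE := rf rho * rf sig

theorem isB_sum {i j : Fin 6} (h : j ≠ i) : IsB (bv i + bv j : VV) := ⟨i, Or.inr ⟨j, h, Or.inl rfl⟩⟩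

theorem isB_diff {i j : Fin 6} (h : j ≠ i) : IsB (bv i - bv j : VV) := ⟨i, Or.inr ⟨j, h, Or.inr rfl⟩⟩

theorem uu_mem (C : Ctx N) : (uu : EE) ∈ N :=
  C.pair_mem (isB_sum (by decide)) (isB_sum (by decide)) (by
    simp [rho, sig, add_dotProduct, dotProduct_add, bv_ne])

theorem uu_apply (h2 : (2 : F) ≠ 0) (v : VV) :
    uu v 0 = -v 1 ∧ uu v 1 = -v 0 ∧ uu v 2 = -v 3 ∧ uu v 3 = -v 2 ∧ uu v 4 = v 4 ∧ uu v 5 = v 5 := by
  have hr : (rho : VV) = bv 0 + (-(-1 : F)) • bv 1 := by simp [rho]
  have hs : (sig : VV) = bv 2 + (-(-1 : F)) • bv 3 := by simp [sig]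
  simp only [uu, LinearEquiv.mul_apply, hr, hs, rf_swap h2 (show (1 : Fin 6) ≠ 0 by decide) (show (-1 : F) * -1 = 1 by ring),
    rf_swap h2 (show (3 : Fin 6) ≠ 2 by decide) (show (-1 : F) * -1 = 1 by ring)]
  simp

/-- The vectors of the plane of the double transposition. -/
theorem uu_neg (h2 : (2 : F) ≠ 0) {v : VV} (h : uu v = -v) : v 0 = v 1 ∧ v 2 = v 3 ∧ v 4 = 0 ∧ v 5 = 0 := by
  obtain ⟨e0, -, e2, -, e4, e5⟩ := uu_apply h2 v
  rw [h, Pi.neg_apply, neg_inj] at e0 e2
  rw [h, Pi.neg_apply] at e4 e5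
  exact ⟨e0, e2, (mul_eq_zero.1 (show (2 : F) * v 4 = 0 by linear_combination -e4)).resolve_left h2,
    (mul_eq_zero.1 (show (2 : F) * v 5 = 0 by linear_combination -e5)).resolve_left h2⟩

/-- The vectors perpendicular to it. -/
theorem uu_fix (h2 : (2 : F) ≠ 0) {v : VV} (h : uu v = v) : v 1 = -v 0 ∧ v 3 = -v 2 := by
  obtain ⟨e0, -, e2, -, -, -⟩ := uu_apply h2 v
  rw [h] at e0 e2
  exact ⟨by linear_combination e0, by linear_combination e2⟩

/-- A member sending a root into that plane. -/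
theorem good_of_plane (C : Ctx N) {x : EE} (hx : x ∈ N) {τ₀ : VV} (hτ₀ : IsB τ₀) (h0 : uu (x τ₀) = -x τ₀)
    (hr : ¬ RootLike (x τ₀)) (τ : Fin 3 → VV) (hτ : ∀ i, IsB (τ i)) (ho0 : ∀ i, τ₀ ⬝ᵥ τ i = 0)
    (hsq : ∀ i, IsSquare ((τ₀ ⬝ᵥ τ₀) * (τ i ⬝ᵥ τ i))) (ho : ∀ i j, i ≠ j → τ i ⬝ᵥ τ j = 0)
    (hfix : ∀ i, uu (x (τ i)) = x (τ i)) : Good N := by
  have h2 := C.two
  have hxo := C.mem_orth hx
  obtain ⟨-, -, h4, h5⟩ := uu_neg h2 h0
  by_cases hm : ∃ i, ¬ Mono (rf (x τ₀) * rf (x (τ i)))
  · obtain ⟨i, hi⟩ := hm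
    exact good_of_rows C (plane_image C hx hτ₀ (hτ i) (ho0 i) (hsq i) hi) (show (4 : Fin 6) ≠ 5 by decide)
      (by rw [h4, h5]; ring)
  exfalso
  push Not at hm
  have hs : ∀ i, x (τ i) 4 = 0 ∧ x (τ i) 5 = 0 := fun i => by
    have h1 := (mono_pair_supp h2 (by rw [dot_orth_self hxo]; exact isB_dot h2 hτ₀)
      (by rw [dot_orth_self hxo]; exact isB_dot h2 (hτ i)) (by rw [dot_orth h2 hxo]; exact ho0 i) hr (hm i)).1
    exact ⟨h1 4 h4, h1 5 h5⟩
  have hdot : ∀ i j, x (τ i) ⬝ᵥ x (τ j) = 2 * (x (τ i) 0 * x (τ j) 0 + x (τ i) 2 * x (τ j) 2) := fun i j => by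
    rw [dotProduct, Fin.sum_univ_six, (hs i).1, (hs i).2, (uu_fix h2 (hfix i)).1, (uu_fix h2 (hfix i)).2,
      (uu_fix h2 (hfix j)).1, (uu_fix h2 (hfix j)).2]
    ring
  have hperp : ∀ i j, i ≠ j → x (τ i) 0 * x (τ j) 0 + x (τ i) 2 * x (τ j) 2 = 0 := fun i j hij => by
    have h := hdot i j
    rw [dot_orth h2 hxo, ho i j hij] at h
    exact (mul_eq_zero.1 h.symm).resolve_left h2
  have hnz : ∀ i, x (τ i) 0 * x (τ i) 0 + x (τ i) 2 * x (τ i) 2 ≠ 0 := fun i hh => by
    have h := hdot i i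
    rw [hh, mul_zero, dot_orth_self hxo] at h
    exact isB_dot h2 (hτ i) h
  have e01 := hperp 0 1 (by decide)
  have e02 := hperp 0 2 (by decide)
  have e12 := hperp 1 2 (by decide)
  set a := fun i => x (τ i) 0
  set b := fun i => x (τ i) 2
  have hmin : a 1 * b 2 - a 2 * b 1 = 0 := by
    have h1 : (a 0 * a 0 + b 0 * b 0) * (a 1 * b 2 - a 2 * b 1) = 0 := by
      linear_combination (a 0 * b 2 - b 0 * a 2) * e01 + (b 0 * a 1 - a 0 * b 1) * e02
    exact (mul_eq_zero.1 h1).resolve_left (hnz 0)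
  have z1 : a 2 = 0 := by
    have h1 : (a 1 * a 1 + b 1 * b 1) * a 2 = 0 := by linear_combination a 1 * e12 - b 1 * hmin
    exact (mul_eq_zero.1 h1).resolve_left (hnz 1)
  have z2 : b 2 = 0 := by
    have h1 : (a 1 * a 1 + b 1 * b 1) * b 2 = 0 := by linear_combination b 1 * e12 + a 1 * hmin
    exact (mul_eq_zero.1 h1).resolve_left (hnz 1)
  exact hnz 2 (by show a 2 * a 2 + b 2 * b 2 = 0; rw [z1, z2]; ring)

/-- A non-monomial member commuting with the double transposition. -/
theorem good_of_comm_uu (C : Ctx N) {x : EE} (hx : x ∈ N) (hxm : ¬ Mono x) (hxu : x * uu = uu * x) : Good N := by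
  have h2 := C.two
  have hc : ∀ v, x (uu v) = uu (x v) := fun v => by rw [← LinearEquiv.mul_apply, hxu]; rfl
  have hneg : uu (rho : VV) = -rho := by
    obtain ⟨e0, e1, e2, e3, e4, e5⟩ := uu_apply h2 (rho : VV)
    ext l
    rw [Pi.neg_apply]
    fin_cases l <;> simp only [Fin.zero_eta, Fin.isValue, Fin.mk_one, Fin.reduceFinMk]
    · rw [e0]; simp [rho, bv_ne]
    · rw [e1]; simp [rho, bv_ne]
    · rw [e2]; simp [rho, bv_ne]
    · rw [e3]; simp [rho, bv_ne]
    · rw [e4]; simp [rho, bv_ne]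
    · rw [e5]; simp [rho, bv_ne]
  have hxr : uu (x rho) = -x rho := by rw [← hc, hneg, map_neg]
  obtain ⟨h01, h23, h4, h5⟩ := uu_neg h2 hxr
  have heq : x rho = x rho 0 • rho + x rho 2 • sig :=
    (show ∀ w : VV, w 0 = w 1 → w 2 = w 3 → w 4 = 0 → w 5 = 0 → w = w 0 • rho + w 2 • sig from
      fun w w1 w3 w4 w5 => funext fun l => by
        fin_cases l <;> simp [rho, sig, bv_ne, ← w1, ← w3, w4, w5]) _ h01 h23 h4 h5
  have hrd : (rho : VV) ⬝ᵥ rho ≠ 0 := isB_dot h2 (isB_sum (show (1 : Fin 6) ≠ 0 by decide))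
  by_cases ha : x rho 0 = 0
  · by_cases hb : x rho 2 = 0
    · exfalso
      rw [ha, hb, zero_smul, zero_smul, zero_add, LinearEquiv.map_eq_zero_iff] at heq
      simpa [rho, bv_ne] using congrFun heq 0
    -- move back by a monomial map
    set m : EE := rf (bv 0 - bv 2) * rf (bv 1 - bv 3) with hm
    have hB1 : IsB (bv 0 - bv 2 : VV) := isB_diff (by decide)
    have hB2 : IsB (bv 1 - bv 3 : VV) := isB_diff (by decide)
    have hmN : m ∈ N := C.pair_mem hB1 hB2 (by simp [sub_dotProduct, dotProduct_sub, bv_ne])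
    have hmm := nonmono_mul C (mul_mem (mono_rf h2 hB1) (mono_rf h2 hB2)) hx hxm
    have e : ∀ i j : Fin 6, (bv i - bv j : VV) = bv i + (-(1 : F)) • bv j := fun i j => by
      rw [neg_one_smul, sub_eq_add_neg]
    have hmσ : m sig = rho := funext fun l => by
      rw [hm, LinearEquiv.mul_apply, e 0 2, e 1 3, rf_swap h2 (show (2 : Fin 6) ≠ 0 by decide) (one_mul (1 : F))]
      simp only [rf_swap h2 (show (3 : Fin 6) ≠ 1 by decide) (one_mul (1 : F))]
      fin_cases l <;> simp [rho, sig, bv_ne]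
    refine ⟨m * x, mul_mem hmN hx, hmm, rho, isB_sum (by decide), ?_⟩
    have hq := dot_orth_self (mul_mem (C.mem_orth hmN) (C.mem_orth hx)) (rho : VV)
    rw [LinearEquiv.mul_apply, heq, ha, zero_smul, zero_add, map_smul, hmσ, smul_dotProduct, dotProduct_smul,
      smul_eq_mul, smul_eq_mul, ← mul_assoc, mul_eq_right₀ hrd] at hq
    rcases mul_self_eq_one_iff.1 hq with e1 | e1
    · exact Or.inl (by rw [LinearEquiv.mul_apply, heq, ha, zero_smul, zero_add, map_smul, hmσ, e1, one_smul])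
    · exact Or.inr (by rw [LinearEquiv.mul_apply, heq, ha, zero_smul, zero_add, map_smul, hmσ, e1, neg_one_smul])
  by_cases hb : x rho 2 = 0
  · have hq := dot_orth_self (C.mem_orth hx) (rho : VV)
    rw [heq, hb, zero_smul, add_zero, smul_dotProduct, dotProduct_smul,
      smul_eq_mul, smul_eq_mul, ← mul_assoc, mul_eq_right₀ hrd] at hq
    refine ⟨x, hx, hxm, rho, isB_sum (by decide), ?_⟩
    rcases mul_self_eq_one_iff.1 hq with e1 | e1
    · exact Or.inl (by rw [heq, hb, zero_smul, add_zero, e1, one_smul])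
    · exact Or.inr (by rw [heq, hb, zero_smul, add_zero, e1, neg_one_smul])
  refine good_of_plane C hx (isB_sum (show (1 : Fin 6) ≠ 0 by decide)) hxr (fun hr => hr.two
    (show (0 : Fin 6) ≠ 1 by decide) (show (0 : Fin 6) ≠ 2 by decide) (show (1 : Fin 6) ≠ 2 by decide)
    ha (h01 ▸ ha) hb) ![bv 0 - bv 1, bv 2 - bv 3, bv 4 - bv 5] ?_ ?_ ?_ ?_ ?_
  · intro i; fin_cases i <;> exact isB_diff (by decide)
  · intro i; fin_cases i <;> simp [rho, add_dotProduct, dotProduct_sub, bv_ne]
  · intro i; fin_cases i <;> simp [rho, add_dotProduct, dotProduct_add, sub_dotProduct, dotProduct_sub, bv_ne] <;>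
      exact ⟨1 + 1, rfl⟩
  · intro i j hij
    fin_cases i <;> fin_cases j <;> simp [sub_dotProduct, dotProduct_sub, bv_ne] at hij ⊢
  · intro i
    rw [← hc]
    congr 1
    obtain ⟨e0, e1, e2, e3, e4, e5⟩ := uu_apply h2 ((![bv 0 - bv 1, bv 2 - bv 3, bv 4 - bv 5] : Fin 3 → VV) i)
    ext l
    fin_cases l <;> simp only [Fin.isValue] <;> fin_cases i <;> simp [bv_ne] at e0 e1 e2 e3 e4 e5 ⊢ <;>
      simp [*]

/-- Some non-monomial member fixes a root. -/
theorem good (C : Ctx N) : Good N := by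
  haveI : Finite EE := Finite.of_injective (fun g : EE => (g : VV → VV)) DFunLike.coe_injective
  have h2 := C.two
  obtain ⟨p, q, P⟩ := exists_plane C
  let s : N := ⟨_, P.mem⟩
  let t : N := ⟨tt 0 1, tt_mem C 0 1⟩
  let u : N := ⟨uu, uu_mem C⟩
  have hss : s * s = 1 := Subtype.ext (by
    show rf p * rf q * (rf p * rf q) = 1
    rw [show rf p * rf q * (rf p * rf q) = rf p * (rf q * rf p) * rf q by group, ← rf_comm P.pq,
      show rf p * (rf p * rf q) * rf q = rf p * rf p * (rf q * rf q) by group, rf_mul_self, rf_mul_self, one_mul])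
  have hor : (rho : VV) ⬝ᵥ sig = 0 := by simp [rho, sig, add_dotProduct, dotProduct_add, bv_ne]
  have hsym : ∀ {v w : VV}, v ⬝ᵥ w = 0 → rf v * rf w * (rf v * rf w) = (1 : EE) := fun {v w} h => by
    rw [show rf v * rf w * (rf v * rf w) = rf v * (rf w * rf v) * rf w by group, ← rf_comm h,
      show rf v * (rf v * rf w) * rf w = rf v * rf v * (rf w * rf w) by group, rf_mul_self, rf_mul_self, one_mul]
  have hor' : (rho : VV) ⬝ᵥ rho ≠ 0 ∧ (sig : VV) ⬝ᵥ sig ≠ 0 :=
    ⟨isB_dot h2 (isB_sum (by decide)), isB_dot h2 (isB_sum (by decide))⟩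
  -- the central involution for either of the two
  have cent : ∀ (y : N) (v w : VV), (y : EE) = rf v * rf w → v ⬝ᵥ w = 0 → ¬ IsConj s y →
      ∃ z ∈ N, z * z = 1 ∧ z ≠ 1 ∧ z * (rf p * rf q) = rf p * rf q * z ∧ z * (y : EE) = (y : EE) * z ∧
        ∃ x : VV, x ≠ 0 ∧ z x = x := by
    intro y v w hy hvw hne
    obtain ⟨z, hz, hzz, hz1, hzs, hzy⟩ := CfsgLib.UnMono.exists_central hss
      (Subtype.ext (by show (y : EE) * y = 1; rw [hy]; exact hsym hvw)) hne
    obtain ⟨x, hx0, hxp, hxq, hxv, hxw⟩ := exists_perp4 p q v w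
    refine ⟨z, z.2, congrArg Subtype.val hzz, fun h => hz1 (Subtype.ext h), congrArg Subtype.val hzs,
      congrArg Subtype.val hzy, x, hx0, ?_⟩
    have key : ∀ z' ∈ Subgroup.closure ({s, y} : Set N), (z' : EE) x = x := by
      intro z' hz'
      induction hz' using Subgroup.closure_induction with
      | mem a ha =>
        rcases ha with rfl | rfl
        · exact P.fix_of_perp hxp hxq
        · show (a : EE) x = x
          rw [hy, LinearEquiv.mul_apply, rf_fix hxw, rf_fix hxv]
      | one => rfl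
      | mul a b _ _ ha hb => show (a : EE) ((b : EE) x) = x; rw [hb, ha]
      | inv a _ ha => show (a : EE).symm x = x; rw [LinearEquiv.symm_apply_eq, ha]
    exact key z hz
  by_cases ht : IsConj s t
  swap
  · obtain ⟨z, hz, hzz, hz1, hzs, hzt, x, hx0, hx⟩ := cent t _ _ rfl (by simp [bv_ne]) ht
    by_cases hzm : Mono z
    · exact good_of_inv C P hz hzm hzz hzs hz1 hx0 hx
    · exact good_of_comm C hz hzm (by decide) hzt
  by_cases hu : IsConj s u
  swap
  · obtain ⟨z, hz, hzz, hz1, hzs, hzu, x, hx0, hx⟩ := cent u rho sig rfl hor hu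
    by_cases hzm : Mono z
    · exact good_of_inv C P hz hzm hzz hzs hz1 hx0 hx
    · exact good_of_comm_uu C hz hzm hzu
  obtain ⟨g, hg⟩ := isConj_iff.1 (ht.symm.trans hu)
  have hg' : ∀ v, (g : EE) (tt 0 1 v) = uu ((g : EE) v) := fun v => by
    have e : (g : EE) * tt 0 1 = (uu : EE) * (g : EE) := by
      have := congrArg Subtype.val hg
      simp only [Subgroup.coe_mul, Subgroup.coe_inv, t, u] at this
      rw [← this, inv_mul_cancel_right]
    rw [← LinearEquiv.mul_apply, e]; rfl
  have hgneg : uu ((g : EE) (bv 0)) = -(g : EE) (bv 0) := by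
    rw [← hg', ← map_neg]
    congr 1
    ext l; rw [tt_apply (by decide)]
    fin_cases l <;> simp [bv_ne]
  have hgm : ¬ Mono (g : EE) := fun hm => by
    obtain ⟨h01, h23, h4, h5⟩ := uu_neg h2 hgneg
    obtain ⟨j, a, hja⟩ := hm 0
    have ha : a ≠ 0 := fun h => by
      rw [h, zero_smul, LinearEquiv.map_eq_zero_iff] at hja
      simpa using congrFun hja 0
    rw [hja] at h01 h23 h4 h5
    fin_cases j <;> simp [bv_ne, ha, Ne.symm ha] at h01 h23 h4 h5
  by_cases hr : RootLike ((g : EE) (bv 0))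
  · exact good_of_col C g.2 hgm hr
  refine good_of_plane C g.2 (isB_bv 0) hgneg hr ![bv 2, bv 3, bv 4] ?_ ?_ ?_ ?_ ?_
  · intro i; fin_cases i <;> exact isB_bv _
  · intro i; fin_cases i <;> simp [bv_ne]
  · intro i; fin_cases i <;> simp
  · intro i j hij; fin_cases i <;> fin_cases j <;> simp [bv_ne] at hij ⊢
  · intro i
    rw [← hg']
    congr 1
    ext l
    rw [tt_apply (by decide)]
    fin_cases l <;> fin_cases i <;> simp [bv_ne]

end CfsgLib.OrthFrame.Six
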