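import Cfsg.Agent.Lib.OrthFrame.SixFind
import Cfsg.Agent.Lib.OrthFrame.NormOdd

/-!
Dimension six: every root reflection normalises.

When two is no square, the reflection of a norm-two vector off the frame gives, through the central involution of
the dihedral group it generates with the sign change of two coordinates of unequal squares, a member fixing a
coordinate vector.
-/

set_option autoImplicit false
set_option linter.unusedSectionVars false

open scoped Classical

namespace CfsgLib.OrthFrame.Six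

open QuadraticMap CfsgLib.Geometry CfsgLib.OrthFrame

variable {F : Type*} [Field F] [Finite F]

local notation "VV" => Fin 6 → F
local notation "EE" => (Fin 6 → F) ≃ₗ[F] (Fin 6 → F)

variable {N : Subgroup ((Fin 6 → F) ≃ₗ[F] (Fin 6 → F))}

theorem pair_two (i j : Fin 6) (h : j ≠ i) : (bv i + bv j : VV) ⬝ᵥ (bv i + bv j) = 2 := by
  simp [bv_ne h, bv_ne h.symm, one_add_one_eq_two]

theorem rho_two : (rho : VV) ⬝ᵥ rho = 2 := pair_two 0 1 (by decide)

theorem isB_rho : IsB (rho : VV) := isB_sum (show (1 : Fin 6) ≠ 0 by decide)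

theorem pair_two_mem (C : Ctx N) {ρ σ : VV} (hρ : IsB ρ) (hσ : IsB σ) (h : ρ ⬝ᵥ ρ = 2) (h' : σ ⬝ᵥ σ = 2) :
    rf ρ * rf σ ∈ N :=
  C.pair_mem hρ hσ (by rw [h, h']; exact ⟨2, rfl⟩)

/-- A norm-two vector whose reflection lies in the coset of that of a norm-two root. -/
def Orb (N : Subgroup EE) (u : VV) : Prop := u ⬝ᵥ u = 2 ∧ rf u * rf rho ∈ N

theorem Orb.reflect (C : Ctx N) {u ρ : VV} (hu : Orb N u) (hρ : IsB ρ) (h : ρ ⬝ᵥ ρ = 2) : Orb N (rf u ρ) := by
  refine ⟨by rw [dot_orth_self (rf_mem_orth u)]; exact h, ?_⟩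
  rw [← rf_conj (rf_mem_orth u), rf_inv,
    show rf u * rf ρ * rf u * rf rho = rf u * rf rho * ((rf rho)⁻¹ * rf ρ) * (rf u * rf rho) by group, rf_inv]
  exact mul_mem (mul_mem hu.2 (pair_two_mem C isB_rho hρ rho_two h)) hu.2

theorem Orb.pair (C : Ctx N) {u ρ : VV} (hu : Orb N u) (hρ : IsB ρ) (h : ρ ⬝ᵥ ρ = 2) : rf u * rf ρ ∈ N := by
  rw [show rf u * rf ρ = rf u * rf rho * ((rf rho)⁻¹ * rf ρ) by group, rf_inv]
  exact mul_mem hu.2 (pair_two_mem C isB_rho hρ rho_two h)

theorem not_mono_mul (C : Ctx N) {g m : EE} (hg : g ∈ orth (qf 6 F)) (hgm : ¬ Mono g) (hm : m ∈ monoGroup C.two) :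
    ¬ Mono (g * m) := fun h => hgm (by
  have := mul_mem (show g * m ∈ monoGroup C.two from ⟨mul_mem hg hm.1, h⟩) (inv_mem hm)
  rw [mul_inv_cancel_right] at this
  exact this.2)

theorem nonmono_rf (C : Ctx N) {u : VV} (hu : u ⬝ᵥ u ≠ 0) (hr : ¬ RootLike u) : ¬ Mono (rf u) :=
  fun h => hr (mono_rootLike C.two hu h)

theorem exists_out (S : Finset (Fin 6)) (h : S.card ≤ 4) : ∃ j k : Fin 6, k ≠ j ∧ j ∉ S ∧ k ∉ S := by
  obtain ⟨j, hj, k, hk, hjk⟩ := Finset.one_lt_card.1 (show 1 < (Finset.univ \ S).card by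
    rw [Finset.card_sdiff_of_subset (Finset.subset_univ _)]; simp; omega)
  simp at hj hk
  exact ⟨j, k, hjk.symm, hj, hk⟩

theorem goodA_of_zero (C : Ctx N) {u : VV} (hu : Orb N u) (hr : ¬ RootLike u) {i : Fin 6} (hi : u i = 0) :
    GoodA N := by
  obtain ⟨j, k, hkj, hj, hk⟩ := exists_out {i} (by simp)
  simp at hj hk
  refine ⟨_, hu.pair C (isB_sum hkj) (pair_two j k hkj), not_mono_mul C (rf_mem_orth u)
    (nonmono_rf C (by rw [hu.1]; exact C.two) hr) (mono_rf C.two (isB_sum hkj)), i, Or.inl ?_⟩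
  rw [LinearEquiv.mul_apply, rf_fix (x := bv i) (v := bv j + bv k) (by simp [bv_ne hj, bv_ne hk, bv_ne (Ne.symm hj), bv_ne (Ne.symm hk)]),
    rf_fix (by rw [bv_dot]; exact hi)]

theorem three_notMem (h2 : (2 : F) ≠ 0) {u v w : VV} (hu : u ⬝ᵥ u ≠ 0) (hv : v ⬝ᵥ v ≠ 0) (hw : w ⬝ᵥ w ≠ 0) :
    rf u * rf v * rf w ∉ siegelGroup (qf 6 F) := fun h => by
  rw [mem_siegel_iff h2 (by norm_num) (mul_mem (mul_mem (rf_mem_orth u) (rf_mem_orth v)) (rf_mem_orth w))] at h
  have e : orthInvariant (qf_nondeg h2) (reflGroup_qf h2 (by norm_num))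
      (⟨rf u, rf_mem_orth u⟩ * ⟨rf v, rf_mem_orth v⟩ * ⟨rf w, rf_mem_orth w⟩) = 1 := h
  rw [map_mul, map_mul, invariant_rf h2 (by norm_num) hu, invariant_rf h2 (by norm_num) hv,
    invariant_rf h2 (by norm_num) hw] at e
  exact absurd (congrArg Prod.snd e)
    (show ¬ Multiplicative.ofAdd (1 : ZMod 2) * Multiplicative.ofAdd 1 * Multiplicative.ofAdd 1 = 1 by decide)

/-- A plane of a vector on two coordinates and one on the other four, with unequal squares. -/
theorem goodA_split (C : Ctx N) {p q : VV} (P : Plane N p q) {a b e f : Fin 6} (hab : a ≠ b)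
    (hp : ∀ l, l ≠ a → l ≠ b → p l = 0) (hqa : q a = 0) (hqb : q b = 0) {g h : Fin 6}
    (hd : [a, b, e, f, g, h].Nodup) (hpa : p a ≠ 0) (hpb : p b ≠ 0) (hpab : p a * p a ≠ p b * p b)
    (hqef : q e * q e ≠ q f * q f) : GoodA N := by
  rcases split_cases C P hab hp hqa hqb hd with h' | ⟨he0, hf0, hg0, z, c, Z, hzm⟩
  · exact h'
  exfalso
  have h2 := C.two
  have hzo := C.mem_orth Z.mem
  have hd' := hd
  simp only [List.nodup_cons, List.mem_cons, List.not_mem_nil, or_false, not_or, List.nodup_nil, and_true,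
    not_false_eq_true] at hd'
  obtain ⟨⟨-, hae, haf, hag, hah⟩, ⟨hbe, hbf, hbg, hbh⟩, ⟨hef, heg, heh⟩, ⟨hfg, hfh⟩, hgh⟩ := hd'
  have hpe := hp e (Ne.symm hae) (Ne.symm hbe)
  have hpf := hp f (Ne.symm haf) (Ne.symm hbf)
  obtain ⟨π, ε, hε, hπ, hco⟩ := mono_spec h2 hzo hzm
  have hze : π e = e ∨ π e = f := by
    by_contra hc
    push Not at hc
    have := (comm_tt h2 hef Z.commt (bv e)).1 (fun l h1 _ => bv_ne h1) (π e) hc.1 hc.2
    rw [hπ, Pi.smul_apply, bv_self, smul_eq_mul, mul_one] at this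
    simpa [this] using hε e
  have hcc := Z.csq
  rcases hze with hee | hee
  swap
  · have e1 := hco (q f • bv e + (-q e) • bv f : VV) e
    rw [hee, Z.heps] at e1
    simp [bv_ne hef, bv_ne (Ne.symm hef)] at e1
    refine hqef ?_
    linear_combination (-(q e * q e)) * hcc + (-(c * q e) + ε e * q f) * e1 + (q f * q f) * hε e
  have hze : ε e = c := by
    have e1 := hco (q f • bv e + (-q e) • bv f : VV) e
    rw [hee, Z.heps] at e1
    simp [bv_ne hef] at e1
    exact (e1.resolve_right hf0).symm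
  have hzf : π f = f ∧ ε f = c := by
    have hff : π f = f := by
      have hzf' : π f = e ∨ π f = f := by
        by_contra hc
        push Not at hc
        have := (comm_tt h2 hef Z.commt (bv f)).1 (fun l _ h1 => bv_ne h1) (π f) hc.1 hc.2
        rw [hπ, Pi.smul_apply, bv_self, smul_eq_mul, mul_one] at this
        simpa [this] using hε f
      exact hzf'.resolve_left fun h => hef (π.injective (hee.trans h.symm))
    have e1 := hco (q f • bv e + (-q e) • bv f : VV) f
    rw [hff, Z.heps] at e1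
    simp [bv_ne (Ne.symm hef)] at e1
    exact ⟨hff, (e1.resolve_right he0).symm⟩
  set r : VV := p b • bv a + (-p a) • bv b with hr
  have hrs : ∀ l, l ≠ a → l ≠ b → r l = 0 := fun l h1 h1' => by simp [hr, bv_ne h1, bv_ne h1']
  have hra : r a = p b := by simp [hr, bv_ne hab]
  have hrb : r b = -p a := by simp [hr, bv_ne (Ne.symm hab)]
  have hzr : z r = r := Z.fix r (by rw [dot_two_supp hab hrs, hra, hrb]; ring)
    (by rw [dot_two_supp hab hrs, hqa, hqb]; ring) (hrs e (Ne.symm hae) (Ne.symm hbe)) (hrs f (Ne.symm haf) (Ne.symm hbf))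
  have hrl : ∀ l, r (π l) = ε l * r l := fun l => by
    have := hco r l
    rwa [hzr] at this
  have haa : π a = a ∧ ε a = 1 := by
    have h1 := hrl a
    have hπa : π a = a := by
      by_contra hc
      by_cases hb : π a = b
      · rw [hb, hra, hrb] at h1
        exact hpab (by linear_combination (-p a + ε a * p b) * h1 + p b * p b * hε a)
      · rw [hrs _ hc hb, hra] at h1
        rcases mul_eq_zero.1 h1.symm with h' | h'
        · simpa [h'] using hε a
        · exact hpb h'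
    rw [hπa] at h1
    exact ⟨hπa, (mul_eq_right₀ (hra ▸ hpb)).1 h1.symm⟩
  have hbb : π b = b ∧ ε b = 1 := by
    have h1 := hrl b
    have hπb : π b = b := by
      by_contra hc
      by_cases hb : π b = a
      · exact hab (π.injective (haa.1.trans hb.symm))
      · rw [hrs _ hb hc, hrb] at h1
        rcases mul_eq_zero.1 h1.symm with h' | h'
        · simpa [h'] using hε b
        · exact hpa (neg_eq_zero.1 h')
    rw [hπb] at h1
    exact ⟨hπb, (mul_eq_right₀ (by rw [hrb]; exact neg_ne_zero.2 hpa)).1 h1.symm⟩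
  have hc1 : c = 1 := by
    have h1 := hco p a
    rw [haa.1, haa.2, Z.inp p (inP_left p q) hpe hpf, Pi.smul_apply, smul_eq_mul, one_mul] at h1
    exact (mul_eq_right₀ hpa).1 h1
  have hza : ∀ l, l = a ∨ l = b ∨ l = e ∨ l = f → z (bv l) = bv l := by
    rintro l (h' | h' | h' | h') <;> rw [h', hπ]
    · rw [haa.1, haa.2, one_smul]
    · rw [hbb.1, hbb.2, one_smul]
    · rw [hee, hze, hc1, one_smul]
    · rw [hzf.1, hzf.2, hc1, one_smul]
  obtain ⟨v, hv⟩ := Z.exists_ne h2
  rw [hc1] at hv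
  obtain ⟨ρ, hρ, hzρ⟩ := opp_root C hzo hzm Z.invol (one_mul 1) hv
  rw [neg_one_smul] at hzρ
  have perp : ∀ x : VV, z x = x → ρ ⬝ᵥ x = 0 := fun x hx => by
    have h1 := dot_orth h2 hzo ρ x
    rw [hzρ, hx, neg_dotProduct] at h1
    exact (mul_eq_zero.1 (show (2 : F) * (ρ ⬝ᵥ x) = 0 by linear_combination -h1)).resolve_left h2
  have hρs : ∀ l, l ≠ g → l ≠ h → ρ l = 0 := fun l h1 h1' => by
    rw [← dot_bv l ρ]
    refine perp _ (hza l ?_)
    rcases cover hd l with h' | h' | h' | h' | h' | h'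
    · exact Or.inl h'
    · exact Or.inr (Or.inl h')
    · exact Or.inr (Or.inr (Or.inl h'))
    · exact Or.inr (Or.inr (Or.inr h'))
    · exact absurd h' h1
    · exact absurd h' h1'
  have hzq : z q = q := by
    obtain ⟨α, β, hab'⟩ := inP_comm P h2 Z.comms (inP_right p q)
    have hα : α = 0 := by
      have e1 := congrArg (fun x : VV => x a) hab'
      have h1 := hco q a
      rw [haa.1, haa.2, hqa, mul_zero] at h1
      simp [h1, hqa] at e1
      exact e1.resolve_right hpa
    have h1 := hco q e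
    rw [hee, hze, hc1, one_mul, hab', hα] at h1
    simp at h1
    rw [hab', hα, zero_smul, zero_add, (mul_eq_right₀ he0).1 h1, one_smul]
  have hgw : z (q h • bv g + (-q g) • bv h) = q h • bv g + (-q g) • bv h :=
    Z.fix _ (by simp [add_dotProduct, smul_dotProduct, hp g (Ne.symm hag) (Ne.symm hbg), hp h (Ne.symm hah) (Ne.symm hbh)])
      (by simp [add_dotProduct, smul_dotProduct]; ring) (by simp [bv_ne heg, bv_ne heh]) (by simp [bv_ne hfg, bv_ne hfh])
  have e1 := perp q hzq
  have e2 := perp _ hgw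
  rw [dot_two_supp hgh hρs] at e1 e2
  simp [bv_ne hgh, bv_ne (Ne.symm hgh)] at e2
  have hn : ρ g * ρ g + ρ h * ρ h ≠ 0 := by
    rw [← dot_two_supp hgh hρs]; exact isB_dot h2 hρ
  exact hn ((mul_eq_zero.1 (show q g * (ρ g * ρ g + ρ h * ρ h) = 0 by
    linear_combination ρ g * e1 - ρ h * e2)).resolve_left hg0)

/-- Two pairs of coordinates with unequal squares. -/
theorem goodA_quad (C : Ctx N) {u : VV} (hu : Orb N u) (hnz : ∀ i, u i ≠ 0) {a b e f : Fin 6} (hab : a ≠ b)
    (hea : e ≠ a) (heb : e ≠ b) (hfa : f ≠ a) (hfb : f ≠ b) (hef : e ≠ f)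
    (hsab : u a * u a ≠ u b * u b) (hsef : u e * u e ≠ u f * u f) : GoodA N := by
  haveI : Finite EE := Finite.of_injective (fun g : EE => (g : VV → VV)) DFunLike.coe_injective
  have h2 := C.two
  obtain ⟨g, h, hgh, hgo, hho⟩ := exists_out {a, b, e, f} (Finset.card_le_four.trans le_rfl)
  simp only [Finset.mem_insert, Finset.mem_singleton, not_or] at hgo hho
  have hd : [a, b, e, f, g, h].Nodup := by
    simp [hab, Ne.symm hea, Ne.symm hfa, Ne.symm hgo.1, Ne.symm hho.1, Ne.symm heb, Ne.symm hfb, Ne.symm hgo.2.1,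
      Ne.symm hho.2.1, hef, Ne.symm hgo.2.2.1, Ne.symm hho.2.2.1, Ne.symm hgo.2.2.2, Ne.symm hho.2.2.2, Ne.symm hgh]
  set uE : VV := u a • bv a + u b • bv b with huE
  set uT : VV := u - uE with huT
  set r : VV := u b • bv a + (-u a) • bv b with hr
  have hEa : uE a = u a := by simp [huE, bv_ne hab]
  have hEb : uE b = u b := by simp [huE, bv_ne (Ne.symm hab)]
  have hEs : ∀ l, l ≠ a → l ≠ b → uE l = 0 := fun l h1 h1' => by simp [huE, bv_ne h1, bv_ne h1']
  have hTa : uT a = 0 := by simp [huT, hEa]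
  have hTb : uT b = 0 := by simp [huT, hEb]
  have hTs : ∀ l, l ≠ a → l ≠ b → uT l = u l := fun l h1 h1' => by simp [huT, hEs l h1 h1']
  have hsum : u = uE + uT := by rw [huT]; abel
  have hrs : ∀ l, l ≠ a → l ≠ b → r l = 0 := fun l h1 h1' => by simp [hr, bv_ne h1, bv_ne h1']
  have hra : r a = u b := by simp [hr, bv_ne hab]
  have hrb : r b = -u a := by simp [hr, bv_ne (Ne.symm hab)]
  have huu : u ⬝ᵥ u ≠ 0 := by rw [hu.1]; exact h2
  set t : EE := tt a b with ht
  set x := rf u * t with hx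
  have htr : ∀ v, (v a = 0 → v b = 0 → t v = v) := fun v hva hvb => funext fun l => by
    rw [ht, tt_apply hab]
    split_ifs with hl
    · rcases hl with rfl | rfl <;> simp [*]
    · rfl
  have htc : t * rf rho ∈ monoGroup h2 ∧ rf rho * t * rf rho ∈ N := by
    have hρm := mono_rf h2 (isB_rho (F := F))
    have htm : t ∈ monoGroup h2 := mul_mem (mono_rf h2 (isB_bv a)) (mono_rf h2 (isB_bv b))
    refine ⟨mul_mem htm hρm, C.stab _ ?_ (mul_mem (mul_mem hρm htm) hρm).2⟩
    have := siegelGroup_normal (rf_mem_orth (rho : VV)) (C.le (tt_mem C a b))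
    rwa [rf_inv] at this
  have hxρ : x * rf rho ∈ N := by
    rw [hx, show rf u * t * rf rho = rf u * rf rho * ((rf rho)⁻¹ * t * rf rho) by group, rf_inv]
    exact mul_mem hu.2 htc.2
  have hρx : rf rho * x ∈ N := by
    have h1 := inv_mem hu.2
    rw [mul_inv_rev, rf_inv, rf_inv] at h1
    rw [hx, ← mul_assoc]
    exact mul_mem h1 (tt_mem C a b)
  have hx2 : x * x ∈ N := by
    rw [show x * x = x * rf rho * ((rf rho)⁻¹ * x) by group, rf_inv]
    exact mul_mem hxρ hρx
  have hxN : x ∉ N := fun h => by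
    have := mul_mem h (inv_mem (tt_mem C a b))
    rw [hx, ht, mul_inv_cancel_right] at this
    exact rf_notMem h2 (by norm_num) huu (C.le this)
  have heven : Even (orderOf x) := by
    by_contra ho
    obtain ⟨l, hl⟩ := Nat.not_even_iff_odd.1 ho
    have h1 : (x * x) ^ (l + 1) = x := by
      rw [← pow_two, ← pow_mul, show 2 * (l + 1) = orderOf x + 1 by omega, pow_succ, pow_orderOf_eq_one, one_mul]
    exact hxN (h1 ▸ pow_mem hx2 _)
  obtain ⟨k, hk⟩ := heven
  set z := x ^ k with hzdef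
  have hzz : z * z = 1 := by rw [hzdef, ← pow_add, ← hk]; exact pow_orderOf_eq_one x
  have hz1 : z ≠ 1 := pow_ne_one_of_lt_orderOf (by have := orderOf_pos x; omega) (by
    show k < orderOf x; have := orderOf_pos x; omega)
  have hzinv : z⁻¹ = z := inv_eq_of_mul_eq_one_right hzz
  have hrr : rf u * rf u = (1 : EE) := rf_mul_self u
  have htt : t * t = 1 := tt_sq a b hab
  have hxi : x⁻¹ = t * rf u := by rw [hx, mul_inv_rev, rf_inv, inv_eq_of_mul_eq_one_right htt]
  have hzu : z * rf u = rf u * z := by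
    have e1 : rf u * x * (rf u)⁻¹ = x⁻¹ := by
      rw [hxi, rf_inv, hx, show rf u * (rf u * t) * rf u = rf u * rf u * t * rf u by group, hrr, one_mul]
    have e2 : rf u * z * (rf u)⁻¹ = z := by rw [hzdef, ← conj_pow, e1, inv_pow, ← hzdef, hzinv]
    conv_lhs => rw [← e2]
    rw [inv_mul_cancel_right]
  have hzt : z * t = t * z := by
    have htinv : t⁻¹ = t := inv_eq_of_mul_eq_one_right htt
    have e1 : t * x * t⁻¹ = x⁻¹ := by
      rw [hxi, htinv, hx, show t * (rf u * t) * t = t * rf u * (t * t) by group, htt, mul_one]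
    have e2 : t * z * t⁻¹ = z := by rw [hzdef, ← conj_pow, e1, inv_pow, ← hzdef, hzinv]
    conv_lhs => rw [← e2]
    rw [inv_mul_cancel_right]
  have hzo : z ∈ orth (qf 6 F) := by
    rw [hzdef]
    exact pow_mem (mul_mem (rf_mem_orth u) (C.mem_orth (tt_mem C a b))) k
  have hzv : ∀ v, z (z v) = v := fun v => by rw [← LinearEquiv.mul_apply, hzz]; rfl
  have hfix : ∀ v, v a = 0 → v b = 0 → v ⬝ᵥ uT = 0 → z v = v := by
    intro v hva hvb hvT
    have hvu : v ⬝ᵥ u = 0 := by
      rw [hsum, dotProduct_add, hvT, add_zero, dotProduct_comm, dot_two_supp hab hEs, hva, hvb]; ring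
    have h1 : x v = v := by rw [hx, LinearEquiv.mul_apply, htr v hva hvb, rf_fix hvu]
    rw [hzdef]
    clear hzdef hzz hz1 hzinv hzu hzt hzo hzv z hk
    induction k with
    | zero => rfl
    | succ k ih => rw [pow_succ', LinearEquiv.mul_apply, ih, h1]
  obtain ⟨σ, hσu⟩ : ∃ σ : F, z u = σ • u := by
    have h1 : rf u (z u) = -z u := by
      rw [← map_neg, ← rf_self_neg huu, ← LinearEquiv.mul_apply, ← hzu, LinearEquiv.mul_apply]
    rw [rf_apply huu] at h1
    refine ⟨2⁻¹ * ((u ⬝ᵥ u)⁻¹ * (2 * (z u ⬝ᵥ u))), funext fun l => ?_⟩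
    have := congrFun h1 l
    simp only [Pi.sub_apply, Pi.smul_apply, Pi.neg_apply, smul_eq_mul] at this ⊢
    rw [mul_assoc (2⁻¹ : F), eq_inv_mul_iff_mul_eq₀ h2]
    linear_combination this
  have hσσ : σ * σ = 1 := by
    have h1 := dot_orth_self hzo u
    rw [hσu, smul_dotProduct, dotProduct_smul, smul_eq_mul, smul_eq_mul, ← mul_assoc] at h1
    exact (mul_eq_right₀ huu).1 h1
  have hzT := (comm_tt h2 hab hzt uT).2 hTa hTb
  have hzE := (comm_tt h2 hab hzt uE).1 hEs
  have hparts : z uE = σ • uE ∧ z uT = σ • uT := by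
    have e1 : z uE + z uT = σ • uE + σ • uT := by rw [← map_add, ← smul_add, ← hsum, hσu]
    have e2 : z uE = σ • uE := funext fun l => by
      by_cases hl : l = a ∨ l = b
      · have := congrFun e1 l
        have h0 : uT l = 0 ∧ z uT l = 0 := by
          rcases hl with rfl | rfl
          · exact ⟨hTa, hzT.1⟩
          · exact ⟨hTb, hzT.2⟩
        simpa [h0.1, h0.2] using this
      · push Not at hl
        rw [hzE l hl.1 hl.2, Pi.smul_apply, hEs l hl.1 hl.2, smul_zero]
    exact ⟨e2, by rw [e2] at e1; exact add_left_cancel e1⟩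
  have hTroot : ¬ RootLike uT := fun hh => hh.two hef (Ne.symm hgo.2.2.1) (Ne.symm hgo.2.2.2)
    (by rw [hTs e hea heb]; exact hnz e) (by rw [hTs f hfa hfb]; exact hnz f)
    (by rw [hTs g hgo.1 hgo.2.1]; exact hnz g)
  have hB : IsB (bv g + bv h : VV) := isB_sum hgh
  have hρ2 := pair_two (F := F) g h hgh
  have hρm := mono_rf h2 hB
  have hswap : rf rho * rf (bv g + bv h : VV) ∈ N := pair_two_mem C isB_rho hB rho_two hρ2
  have hgz : ∀ v : VV, v g = 0 → v h = 0 → rf (bv g + bv h) v = v := fun v hg hh =>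
    rf_fix (by simp [dotProduct_add, hg, hh])
  rcases mul_self_eq_one_iff.1 hσσ with hs | hs
  · -- the coordinates off the pair are fixed
    rw [hs, one_smul, one_smul] at hparts
    have hTfix : ∀ v, v a = 0 → v b = 0 → z v = v := by
      intro v hva hvb
      set d := v - z v
      have hzd : z d = -d := by simp only [d, map_sub, hzv, neg_sub]
      have hdT : d a = 0 ∧ d b = 0 := by
        have h1 := (comm_tt h2 hab hzt v).2 hva hvb
        simp only [d, Pi.sub_apply, hva, hvb, h1.1, h1.2, sub_zero, and_self]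
      have h1 : d ⬝ᵥ uT = 0 := by
        have h3 := dot_orth h2 hzo d uT
        rw [hzd, hparts.2, neg_dotProduct] at h3
        exact (mul_eq_zero.1 (show (2 : F) * (d ⬝ᵥ uT) = 0 by linear_combination -h3)).resolve_left h2
      have h3 := hfix d hdT.1 hdT.2 h1
      rw [hzd, neg_eq_iff_add_eq_zero, ← two_smul F] at h3
      exact (sub_eq_zero.1 ((smul_eq_zero.1 h3).resolve_left h2)).symm
    have hE : ∀ j, (∀ l, l ≠ a → l ≠ b → (bv j : VV) l = 0) → ∀ l, l ≠ a → l ≠ b → z (bv j) l = 0 :=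
      fun j hj => (comm_tt h2 hab hzt (bv j)).1 hj
    have hnm : ¬ Mono z := fun hm => hz1 (LinearEquiv.ext fun v => by
      obtain ⟨π, ε, hε, hπ, hco⟩ := mono_spec h2 hzo hm
      have hpa' : π a = a ∨ π a = b := by
        by_contra hc
        push Not at hc
        have := hE a (fun l h1 _ => bv_ne h1) (π a) hc.1 hc.2
        rw [hπ, Pi.smul_apply, bv_self, smul_eq_mul, mul_one] at this
        simpa [this] using hε a
      have h1 := hco uE a
      rw [hparts.1, hEa] at h1
      rcases hpa' with hp | hp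
      swap
      · exfalso
        rw [hp, hEb] at h1
        exact hsab (by linear_combination -(u b + ε a * u a) * h1 - u a * u a * hε a)
      rw [hp, hEa] at h1
      have hεa : ε a = 1 := (mul_eq_right₀ (hnz a)).1 h1.symm
      have hpb : π b = b := by
        by_contra hc
        have hb2 : π b = a := by
          by_contra hc'
          have := hE b (fun l _ h1 => bv_ne h1) (π b) hc' hc
          rw [hπ, Pi.smul_apply, bv_self, smul_eq_mul, mul_one] at this
          simpa [this] using hε b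
        exact hab (π.injective (hp.trans hb2.symm))
      have h3 := hco uE b
      rw [hparts.1, hpb, hEb] at h3
      have hεb : ε b = 1 := (mul_eq_right₀ (hnz b)).1 h3.symm
      rw [sum_bv v, map_sum, map_sum]
      refine Finset.sum_congr rfl fun l _ => ?_
      rw [map_smul, map_smul]
      congr 1
      show z (bv l) = bv l
      by_cases hla : l = a
      · rw [hla, hπ, hp, hεa, one_smul]
      by_cases hlb : l = b
      · rw [hlb, hπ, hpb, hεb, one_smul]
      exact hTfix _ (bv_ne (Ne.symm hla)) (bv_ne (Ne.symm hlb)))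
    rcases Nat.even_or_odd k with ⟨l, hl⟩ | ⟨l, hl⟩
    · refine ⟨z, ?_, hnm, e, Or.inl (hTfix _ (bv_ne (Ne.symm hea)) (bv_ne (Ne.symm heb)))⟩
      rw [hzdef, hl, ← two_mul, pow_mul, pow_two]; exact pow_mem hx2 l
    · refine ⟨z * rf (bv g + bv h), ?_, not_mono_mul C hzo hnm hρm, e, Or.inl ?_⟩
      · rw [hzdef, hl, pow_succ, pow_mul, pow_two,
          show (x * x) ^ l * x * rf (bv g + bv h) = (x * x) ^ l * (x * rf rho) * ((rf rho)⁻¹ * rf (bv g + bv h)) by group,
          rf_inv]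
        exact mul_mem (mul_mem (pow_mem hx2 l) hxρ) hswap
      · rw [LinearEquiv.mul_apply, hgz _ (bv_ne hgo.2.2.1) (bv_ne hho.2.2.1)]
        exact hTfix _ (bv_ne (Ne.symm hea)) (bv_ne (Ne.symm heb))
  -- the vectors `uE`, `uT` are negated
  rw [hs, neg_one_smul, neg_one_smul] at hparts
  have hTT : uT ⬝ᵥ uT ≠ 0 := fun h0 => hTroot.elim (by
    have h1 := hfix uT hTa hTb h0
    rw [hparts.2, neg_eq_iff_add_eq_zero, ← two_smul F] at h1
    have := congrFun ((smul_eq_zero.1 h1).resolve_left h2) e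
    rw [hTs e hea heb] at this
    exact absurd this (hnz e))
  have hzTv : ∀ v, v a = 0 → v b = 0 → z v = rf uT v := by
    intro v hva hvb
    set κ := (v ⬝ᵥ uT) / (uT ⬝ᵥ uT) with hκ
    have h1 : z (v - κ • uT) = v - κ • uT := by
      refine hfix _ (by simp [hva, hTa]) (by simp [hvb, hTb]) ?_
      rw [sub_dotProduct, smul_dotProduct, smul_eq_mul, hκ, div_mul_cancel₀ _ hTT, sub_self]
    rw [rf_apply hTT, show (uT ⬝ᵥ uT)⁻¹ * (2 * (v ⬝ᵥ uT)) = 2 * κ by rw [hκ]; field_simp]
    rw [map_sub, map_smul, hparts.2, smul_neg, sub_neg_eq_add, ← eq_sub_iff_add_eq] at h1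
    rw [h1, mul_smul, two_smul]; abel
  have hrfE : ∀ v, (∀ l, l ≠ a → l ≠ b → v l = 0) → rf uT v = v := fun v hv => rf_fix (by
    rw [dot_two_supp hab hv, hTa, hTb]; ring)
  have hzr : z r = r ∨ z r = -r := by
    have hs' := (comm_tt h2 hab hzt r).1 hrs
    have e1 := dot_orth h2 hzo r uE
    rw [hparts.1, dotProduct_neg, dot_two_supp hab hrs, dot_two_supp hab hs', hra, hrb, hEa, hEb] at e1
    set μ := z r a / u b with hμ
    have hμr : z r = μ • r := funext fun l => by
      by_cases hla : l = a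
      · rw [hla, Pi.smul_apply, hra, smul_eq_mul, hμ, div_mul_cancel₀ _ (hnz b)]
      by_cases hlb : l = b
      · rw [hlb, Pi.smul_apply, hrb, smul_eq_mul]
        refine mul_right_cancel₀ (hnz b) ?_
        rw [hμ, mul_neg, neg_mul, mul_assoc, mul_comm (u a) (u b), ← mul_assoc, div_mul_cancel₀ _ (hnz b)]
        linear_combination -e1
      · rw [hs' l hla hlb, Pi.smul_apply, hrs l hla hlb, smul_zero]
    have e2 := hzv r
    rw [hμr, map_smul, hμr, smul_smul] at e2
    have : μ * μ = 1 := by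
      have := congrFun e2 a
      rw [Pi.smul_apply, hra, smul_eq_mul] at this
      exact (mul_eq_right₀ (hnz b)).1 this
    rcases mul_self_eq_one_iff.1 this with h' | h' <;> rw [h'] at hμr
    · exact Or.inl (by rw [hμr, one_smul])
    · exact Or.inr (by rw [hμr, neg_one_smul])
  have hE_neg : (z r = -r ∨ uE ⬝ᵥ uE = 0) → ∀ v, (∀ l, l ≠ a → l ≠ b → v l = 0) → z v = -v := by
    intro hcase v hv
    have hs' := (comm_tt h2 hab hzt v).1 hv
    set d := v + z v with hd
    have hds : ∀ l, l ≠ a → l ≠ b → d l = 0 := fun l h1 h1' => by simp [hd, hv l h1 h1', hs' l h1 h1']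
    have hzd : z d = d := by rw [hd, map_add, hzv]; abel
    have e1 : d a * u a + d b * u b = 0 := by
      have h1 := dot_orth h2 hzo d uE
      rw [hzd, hparts.1, dotProduct_neg, dot_two_supp hab hds, hEa, hEb] at h1
      exact (mul_eq_zero.1 (show (2 : F) * (d a * u a + d b * u b) = 0 by linear_combination -h1)).resolve_left h2
    have hdk : d = (d a / u b) • r := funext fun l => by
      by_cases hla : l = a
      · rw [hla, Pi.smul_apply, hra, smul_eq_mul, div_mul_cancel₀ _ (hnz b)]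
      by_cases hlb : l = b
      · rw [hlb, Pi.smul_apply, hrb, smul_eq_mul]
        have := hnz b
        field_simp
        linear_combination e1
      · rw [hds l hla hlb, Pi.smul_apply, hrs l hla hlb, smul_zero]
    have hd0 : d = 0 := by
      have hneg : z r = -r := by
        rcases hcase with h' | h'
        · exact h'
        -- the perpendicular is the vector itself
        rw [dot_two_supp hab hEs, hEa, hEb] at h'
        have hrE : r = (u b / u a) • uE := funext fun l => by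
          by_cases hla : l = a
          · rw [hla, Pi.smul_apply, hra, hEa, smul_eq_mul, div_mul_cancel₀ _ (hnz a)]
          by_cases hlb : l = b
          · rw [hlb, Pi.smul_apply, hrb, hEb, smul_eq_mul]
            have := hnz a
            field_simp
            linear_combination -h'
          · rw [hrs l hla hlb, Pi.smul_apply, hEs l hla hlb, smul_zero]
        rw [hrE, map_smul, hparts.1, smul_neg]
      rw [hdk, map_smul, hneg, smul_neg, neg_eq_iff_add_eq_zero, ← two_smul F, ← hdk] at hzd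
      exact (smul_eq_zero.1 hzd).resolve_left h2
    rw [hd, add_comm, add_eq_zero_iff_eq_neg] at hd0
    exact hd0
  by_cases hcase : z r = -r ∨ uE ⬝ᵥ uE = 0
  · have hz' : z = t * rf uT := LinearEquiv.ext fun v => by
      set w : VV := v a • bv a + v b • bv b with hw
      have hws : ∀ l, l ≠ a → l ≠ b → w l = 0 := fun l h1 h1' => by simp [hw, bv_ne h1, bv_ne h1']
      have hwa : (v - w) a = 0 := by simp [hw, bv_ne hab]
      have hwb : (v - w) b = 0 := by simp [hw, bv_ne (Ne.symm hab)]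
      have htw : t w = -w := funext fun l => by
        rw [ht, tt_apply hab]
        split_ifs with hl
        · rfl
        · push Not at hl; simp [hws l hl.1 hl.2]
      have hz2 := (comm_tt h2 hab hzt (v - w)).2 hwa hwb
      rw [hzTv _ hwa hwb] at hz2
      conv_lhs => rw [← sub_add_cancel v w]
      conv_rhs => rw [← sub_add_cancel v w]
      rw [map_add, hE_neg hcase w hws, hzTv _ hwa hwb, LinearEquiv.mul_apply, map_add, map_add,
        hrfE w hws, htw, htr _ hz2.1 hz2.2]
    have hT : rf uT = t * z := by rw [hz', ← mul_assoc, htt, one_mul]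
    rcases Nat.even_or_odd k with ⟨l, hl⟩ | ⟨l, hl⟩
    · refine absurd (C.le (show rf uT ∈ N from ?_)) (rf_notMem h2 (by norm_num) hTT)
      rw [hT, hzdef, hl, ← two_mul, pow_mul, pow_two]
      exact mul_mem (tt_mem C a b) (pow_mem hx2 l)
    · refine ⟨rf uT * rf (bv g + bv h), ?_, not_mono_mul C (rf_mem_orth _) (nonmono_rf C hTT hTroot) hρm, a,
        Or.inl ?_⟩
      · rw [hT, hzdef, hl, pow_succ, pow_mul, pow_two,
          show t * ((x * x) ^ l * x) * rf (bv g + bv h) =
            t * ((x * x) ^ l * (x * rf rho)) * ((rf rho)⁻¹ * rf (bv g + bv h)) by group, rf_inv]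
        exact mul_mem (mul_mem (tt_mem C a b) (mul_mem (pow_mem hx2 l) hxρ)) hswap
      · rw [LinearEquiv.mul_apply, hgz _ (bv_ne hgo.1) (bv_ne hho.1), hrfE _ (fun l h1 _ => bv_ne h1)]
  push Not at hcase
  obtain ⟨hrne, hEE⟩ := hcase
  have hzr' := hzr.resolve_right hrne
  have hz' : z = rf uE * rf uT := LinearEquiv.ext fun v => by
    set w : VV := v a • bv a + v b • bv b with hw
    have hws : ∀ l, l ≠ a → l ≠ b → w l = 0 := fun l h1 h1' => by simp [hw, bv_ne h1, bv_ne h1']
    have hwa : (v - w) a = 0 := by simp [hw, bv_ne hab]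
    have hwb : (v - w) b = 0 := by simp [hw, bv_ne (Ne.symm hab)]
    have hz2 := (comm_tt h2 hab hzt (v - w)).2 hwa hwb
    rw [hzTv _ hwa hwb] at hz2
    have hzw : z w = rf uE w := by
      set κ := (w ⬝ᵥ uE) / (uE ⬝ᵥ uE) with hκ
      set y := w - κ • uE with hy
      have hyE : y ⬝ᵥ uE = 0 := by
        rw [hy, sub_dotProduct, smul_dotProduct, smul_eq_mul, hκ, div_mul_cancel₀ _ hEE, sub_self]
      have hys : ∀ l, l ≠ a → l ≠ b → y l = 0 := fun l h1 h1' => by simp [hy, hws l h1 h1', hEs l h1 h1']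
      rw [dot_two_supp hab hys, hEa, hEb] at hyE
      have hyr : y = (y a / u b) • r := funext fun l => by
        by_cases hla : l = a
        · rw [hla, Pi.smul_apply, hra, smul_eq_mul, div_mul_cancel₀ _ (hnz b)]
        by_cases hlb : l = b
        · rw [hlb, Pi.smul_apply, hrb, smul_eq_mul]
          have := hnz b
          field_simp
          linear_combination hyE
        · rw [hys l hla hlb, Pi.smul_apply, hrs l hla hlb, smul_zero]
      have h1 : z y = y := by rw [hyr, map_smul, hzr']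
      rw [rf_apply hEE, show (uE ⬝ᵥ uE)⁻¹ * (2 * (w ⬝ᵥ uE)) = 2 * κ by rw [hκ]; field_simp]
      rw [hy, map_sub, map_smul, hparts.1, smul_neg, sub_neg_eq_add, ← eq_sub_iff_add_eq] at h1
      rw [h1, mul_smul, two_smul]; abel
    conv_lhs => rw [← sub_add_cancel v w]
    conv_rhs => rw [← sub_add_cancel v w]
    rw [map_add, hzTv _ hwa hwb, hzw, LinearEquiv.mul_apply, (rf uT).map_add (v - w) w, hrfE w hws, (rf uE).map_add (rf uT (v - w)) w,
      rf_fix (x := rf uT (v - w)) (by rw [dotProduct_comm, dot_two_supp hab hEs, hz2.1, hz2.2]; ring)]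
  have hET : uE ⬝ᵥ uT = 0 := by rw [dot_two_supp hab hEs, hTa, hTb]; ring
  rcases Nat.even_or_odd k with ⟨l, hl⟩ | ⟨l, hl⟩
  · have hmem : rf uE * rf uT ∈ N := by
      rw [← hz', hzdef, hl, ← two_mul, pow_mul, pow_two]; exact pow_mem hx2 l
    have hPnm : ¬ Mono (rf uE * rf uT) := fun hm => by
      have h1 := (mono_pair_supp h2 hTT hEE (by rw [dotProduct_comm]; exact hET) hTroot
        (by rwa [rf_comm hET] at hm)).1 a hTa
      exact hnz a (hEa ▸ h1)
    exact goodA_split C ⟨hEE, hTT, hET, hmem, hPnm⟩ hab hEs hTa hTb hd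
      (by rw [hEa]; exact hnz a) (by rw [hEb]; exact hnz b) (by rw [hEa, hEb]; exact hsab)
      (by rw [hTs e hea heb, hTs f hfa hfb]; exact hsef)
  · refine absurd (C.le (show rf uE * rf uT * rf rho ∈ N from ?_))
      (three_notMem h2 hEE hTT (isB_dot h2 isB_rho))
    rw [← hz', hzdef, hl, pow_succ, pow_mul, pow_two, mul_assoc]
    exact mul_mem (pow_mem hx2 l) hxρ

/-- Four of the coordinates away from a pair are never those of a root. -/
theorem reflect_apply {u : VV} (hu : u ⬝ᵥ u = 2) (h2 : (2 : F) ≠ 0) (ρ : VV) (l : Fin 6) :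
    rf u ρ l = ρ l - (ρ ⬝ᵥ u) * u l := by
  rw [rf_apply (by rw [hu]; exact h2), hu, ← mul_assoc, inv_mul_cancel₀ h2, one_mul]; simp

/-- The five-fold case. -/
theorem goodA_five (C : Ctx N) {u : VV} (hu : Orb N u) (hnz : ∀ i, u i ≠ 0) {m i : Fin 6} (him : i ≠ m)
    (h5 : ∀ l, l ≠ m → u l * u l = u i * u i) (hns : ¬ IsSquare (2 : F)) : GoodA N := by
  have h2 := C.two
  set α := u i with hα
  obtain ⟨j, k, hkj, hj, hk⟩ := exists_out {i, m} (Finset.card_le_two.trans (by norm_num))
  simp only [Finset.mem_insert, Finset.mem_singleton, not_or] at hj hk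
  obtain ⟨l, l', -, hl, -⟩ := exists_out {i, m, j, k} Finset.card_le_four
  simp only [Finset.mem_insert, Finset.mem_singleton, not_or] at hl
  obtain ⟨n₁, -, hn⟩ : ∃ n₁ ∈ Finset.univ, n₁ ∉ ({i, m, j, k, l} : Finset (Fin 6)) :=
    Finset.exists_mem_notMem_of_card_lt_card (Finset.card_le_five.trans_lt (by simp))
  simp only [Finset.mem_insert, Finset.mem_singleton, not_or] at hn
  have hα0 : α ≠ 0 := hnz i
  have sq := fun x y : F => mul_self_eq_mul_self_iff (a := x) (b := y)
  by_cases h4 : 4 * (α * α) = 1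
  swap
  · obtain ⟨s, hs, hs'⟩ : ∃ s : F, s * s = 1 ∧ s * u j = α := by
      rcases (sq _ _).1 (h5 j hj.2) with h | h
      · exact ⟨1, one_mul 1, by rw [one_mul, h]⟩
      · exact ⟨-1, by ring, by rw [h]; ring⟩
    set ρ : VV := bv i + s • bv j with hρd
    have hρ : IsB ρ := isB_pair hj.1 hs
    set v := rf u ρ with hv
    have hvO := hu.reflect C hρ (pair_norm hj.1 hs)
    have hdot : ρ ⬝ᵥ u = 2 * α := by
      simp [hρd, add_dotProduct, smul_dotProduct, hs']; ring
    have hvi : v i = 1 - 2 * (α * α) := by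
      rw [hv, reflect_apply hu.1 h2, hdot]; simp [hρd, bv_ne (Ne.symm hj.1)]; ring
    have hvj : v j = s * (1 - 2 * (α * α)) := by
      rw [hv, reflect_apply hu.1 h2, hdot]; simp [hρd, bv_ne hj.1]
      linear_combination (2 * α * u j) * hs - 2 * α * s * hs'
    have hvk : ∀ c, c ≠ i → c ≠ j → v c = -(2 * α * u c) := fun c h1 h1' => by
      rw [hv, reflect_apply hu.1 h2, hdot]; simp [hρd, bv_ne h1, bv_ne h1']
    have hknz : ∀ c, c ≠ i → c ≠ j → v c ≠ 0 := fun c h1 h1' => by
      rw [hvk c h1 h1']; exact neg_ne_zero.2 (mul_ne_zero (mul_ne_zero h2 hα0) (hnz c))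
    have hroot : ¬ RootLike v := fun hh => hh.two (Ne.symm hl.2.2.2) (Ne.symm hn.2.2.2.1) (Ne.symm hn.2.2.2.2)
      (hknz k hk.1 hkj) (hknz l hl.1 hl.2.2.1) (hknz n₁ hn.1 hn.2.2.1)
    by_cases h0 : 1 - 2 * (α * α) = 0
    · exact goodA_of_zero C hvO hroot (i := i) (hvi.trans h0)
    have hvnz : ∀ c, v c ≠ 0 := fun c => by
      by_cases hci : c = i
      · rw [hci, hvi]; exact h0
      by_cases hcj : c = j
      · rw [hcj, hvj]; exact mul_ne_zero (fun e => by simp [e] at hs) h0
      exact hknz c hci hcj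
    have hneq : ∀ c, c ≠ m → c ≠ i → c ≠ j → (1 - 2 * (α * α)) * (1 - 2 * (α * α)) ≠ v c * v c := fun c hc hci hcj e => by
      rw [hvk c hci hcj] at e
      exact h4 (by linear_combination -e - 4 * (α * α) * h5 c hc)
    refine goodA_quad C hvO hvnz (a := i) (b := k) (e := j) (f := l) (Ne.symm hk.1) hj.1 (Ne.symm hkj) hl.1
      hl.2.2.2 (Ne.symm hl.2.2.1) ?_ ?_
    · rw [← hv, hvi]; exact hneq k hk.2 hk.1 hkj
    · rw [← hv, hvj]
      have := hneq l hl.2.1 hl.1 hl.2.2.1
      exact fun e => this (by linear_combination e - (1 - 2 * (α * α)) * (1 - 2 * (α * α)) * hs)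
  -- the last coordinate is different
  have hsum : ∑ c, u c * u c = 2 := hu.1
  rw [← Finset.sum_erase_add Finset.univ _ (Finset.mem_univ m), Finset.sum_congr rfl
    (fun c hc => h5 c (Finset.ne_of_mem_erase hc)), Finset.sum_const, Finset.card_erase_of_mem (Finset.mem_univ m)] at hsum
  simp at hsum
  set β := u m with hβ
  have hβ4 : 4 * (β * β) = 3 := by linear_combination 4 * hsum - 5 * h4
  set ρ : VV := bv i + bv m with hρd
  set v := rf u ρ with hv
  have hvO := hu.reflect C (ρ := ρ) (isB_sum (Ne.symm him)) (pair_two i m (Ne.symm him))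
  have hdot : ρ ⬝ᵥ u = α + β := by simp [hρd, add_dotProduct, hα, hβ]
  have hm0 : α + β ≠ 0 := fun e => h2 (by linear_combination -hβ4 + h4 + 4 * (β - α) * e)
  have hvi : v i = 1 - (α + β) * α := by rw [hv, reflect_apply hu.1 h2, hdot]; simp [hρd, bv_ne him, hα]
  have hvm : v m = 1 - (α + β) * β := by
    rw [hv, reflect_apply hu.1 h2, hdot]; simp [hρd, bv_ne (Ne.symm him), hβ]
  have hvk : ∀ c, c ≠ i → c ≠ m → v c = -((α + β) * u c) := fun c h1 h1' => by
    rw [hv, reflect_apply hu.1 h2, hdot]; simp [hρd, bv_ne h1, bv_ne h1']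
  have hknz : ∀ c, c ≠ i → c ≠ m → v c ≠ 0 := fun c h1 h1' => by
    rw [hvk c h1 h1']; exact neg_ne_zero.2 (mul_ne_zero hm0 (hnz c))
  have hroot : ¬ RootLike v := fun hh => hh.two (Ne.symm hkj) (Ne.symm hl.2.2.1) (Ne.symm hl.2.2.2)
    (hknz j hj.1 hj.2) (hknz k hk.1 hk.2) (hknz l hl.1 hl.2.1)
  by_cases hzero : ∃ c, v c = 0
  · obtain ⟨c, hc⟩ := hzero; exact goodA_of_zero C hvO hroot hc
  push Not at hzero
  have hαβ : α * β ≠ 0 := mul_ne_zero hα0 (hnz m)
  refine goodA_quad C hvO hzero (a := i) (b := j) (e := m) (f := k) (Ne.symm hj.1) (Ne.symm him) (Ne.symm hj.2)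
    hk.1 hkj (Ne.symm hk.2) ?_ ?_
  · rw [← hv, hvi, hvk j hj.1 hj.2]
    intro e
    have e' : 1 - 2 * ((α + β) * α) = 0 := by linear_combination e + (α + β) * (α + β) * h5 j hj.2
    refine h2 ?_
    linear_combination (4 * (α * β) + 1) * (-2 * e' - h4) - 4 * (β * β) * h4 - hβ4
  · rw [← hv, hvm, hvk k hk.1 hk.2]
    intro e
    have e' : 1 - 2 * ((α + β) * β) + (α + β) * (α + β) * (β * β - α * α) = 0 := by
      linear_combination e + (α + β) * (α + β) * h5 k hk.2
    have h8 : (2 : F) * (2 * (2 * (α * β))) = 0 := by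
      linear_combination -8 * e' + (2 * ((α + β) * (α + β)) - 3) * hβ4 + (1 - 2 * ((α + β) * (α + β))) * h4
    simp only [mul_eq_zero, h2, false_or] at h8
    exact hαβ (mul_eq_zero.2 h8)

end CfsgLib.OrthFrame.Six

namespace CfsgLib.OrthFrame.Six

open QuadraticMap CfsgLib.Geometry CfsgLib.OrthFrame

variable {F : Type*} [Field F] [Finite F]

local notation "VV" => Fin 6 → F
local notation "EE" => (Fin 6 → F) ≃ₗ[F] (Fin 6 → F)

variable {N : Subgroup ((Fin 6 → F) ≃ₗ[F] (Fin 6 → F))}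

/-- A norm-two vector off the frame gives a member fixing a coordinate vector. -/
theorem goodA_orb (C : Ctx N) (hns : ¬ IsSquare (2 : F)) {u : VV} (hu : Orb N u) (hr : ¬ RootLike u) : GoodA N := by
  by_cases hz : ∃ i, u i = 0
  · obtain ⟨i, hi⟩ := hz; exact goodA_of_zero C hu hr hi
  push Not at hz
  by_cases hall : ∀ l, u l * u l = u 0 * u 0
  · exact goodA_five C hu hz (m := 5) (i := 0) (by decide) (fun l _ => hall l) hns
  push Not at hall
  obtain ⟨a, ha⟩ := hall
  by_cases h4 : ∃ e f, e ≠ a ∧ e ≠ 0 ∧ f ≠ a ∧ f ≠ 0 ∧ u e * u e ≠ u f * u f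
  · obtain ⟨e, f, h1, h1', h3, h3', hef⟩ := h4
    exact goodA_quad C hu hz (a := a) (b := 0) (e := e) (f := f) (fun h => ha (by rw [h])) h1 h1' h3 h3'
      (fun h => hef (by rw [h])) ha hef
  push Not at h4
  obtain ⟨k, l, hlk, hk, hl⟩ := exists_out {a, 0} (Finset.card_le_two.trans (by norm_num))
  simp only [Finset.mem_insert, Finset.mem_singleton, not_or] at hk hl
  have ha0 : a ≠ 0 := fun h => ha (by rw [h])
  by_cases hka : u a * u a = u k * u k
  · refine goodA_five C hu hz (m := 0) (i := k) hk.2 (fun c hc => ?_) hns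
    by_cases hca : c = a
    · rw [hca]; exact hka
    · exact h4 c k hca hc hk.1 hk.2
  by_cases hk0 : u 0 * u 0 = u k * u k
  · refine goodA_five C hu hz (m := a) (i := k) hk.1 (fun c hc => ?_) hns
    by_cases hc0 : c = 0
    · rw [hc0]; exact hk0
    · exact h4 c k hc hc0 hk.1 hk.2
  exact goodA_quad C hu hz (a := a) (b := k) (e := 0) (f := l) (Ne.symm hk.1) (Ne.symm ha0) (Ne.symm hk.2) hl.1
    hlk (Ne.symm hl.2) hka (fun h => hk0 (h.trans (h4 l k hl.1 hl.2 hk.1 hk.2)))

/-- A norm-two root with an image off the frame. -/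
theorem exists_image (C : Ctx N) (hns : ¬ IsSquare (2 : F)) {x : EE} (hx : x ∈ N) (hxm : ¬ Mono x) :
    ∃ ρ : VV, IsB ρ ∧ ρ ⬝ᵥ ρ = 2 ∧ ¬ RootLike (x ρ) := by
  by_contra hcon
  push Not at hcon
  have h2 := C.two
  have hxo := C.mem_orth hx
  obtain ⟨i, hi⟩ : ∃ i, ∀ (j : Fin 6) (a : F), x (bv i) ≠ a • bv j := by
    by_contra h; push Not at h; exact hxm h
  -- the images of the roots have two coordinates
  have form : ∀ j, j ≠ i → ∀ s : F, s * s = 1 → ∃ p q : Fin 6, p ≠ q ∧
      ∀ c, (x (bv i) + s • x (bv j)) c ≠ 0 ↔ c = p ∨ c = q := by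
    intro j hj s hs
    obtain ⟨τ, a, hτ, he⟩ := hcon (bv i + s • bv j) (isB_pair hj hs) (pair_norm hj hs)
    rw [map_add, map_smul] at he
    have hn : a * a * (τ ⬝ᵥ τ) = 2 := by
      have h1 := dot_orth_self hxo (bv i + s • bv j : VV)
      rw [map_add, map_smul, he, pair_norm hj hs, smul_dotProduct, dotProduct_smul, smul_eq_mul, smul_eq_mul] at h1
      linear_combination h1
    have ha : a ≠ 0 := fun h => h2 (by rw [← hn, h]; ring)
    have hτ2 : τ ⬝ᵥ τ = 2 := (isB_norm hτ).resolve_left fun h => hns ⟨a, by rw [h, mul_one] at hn; exact hn.symm⟩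
    obtain ⟨p, rfl | ⟨q, hqp, hτ'⟩⟩ := hτ
    · rw [bv_norm] at hτ2
      exact absurd (show (1 : F) = 0 by linear_combination -hτ2) one_ne_zero
    refine ⟨p, q, hqp.symm, fun c => ?_⟩
    rw [he]
    rcases hτ' with rfl | rfl <;> by_cases h1 : c = p <;> by_cases h3 : c = q <;>
      simp_all [bv_ne]
  have hi0 : x (bv i) ≠ 0 := fun h => by simpa using congrFun ((LinearEquiv.map_eq_zero_iff x).1 h) i
  have hboth : ∀ c j, j ≠ i → (x (bv i) + (1 : F) • x (bv j)) c = 0 → (x (bv i) + (-1 : F) • x (bv j)) c = 0 →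
      x (bv i) c = 0 ∧ x (bv j) c = 0 := fun c j _ h1 h1' => by
    simp only [Pi.add_apply, Pi.smul_apply, smul_eq_mul] at h1 h1'
    exact ⟨(mul_eq_zero.1 (show (2 : F) * x (bv i) c = 0 by linear_combination h1 + h1')).resolve_left h2,
      (mul_eq_zero.1 (show (2 : F) * x (bv j) c = 0 by linear_combination h1 - h1')).resolve_left h2⟩
  -- their supports do not meet
  have hsupp : ∀ j, j ≠ i → ∀ c, x (bv i) c = 0 → x (bv j) c = 0 := by
    intro j hj c hc
    by_contra hjc
    obtain ⟨p, q, hpq, hP⟩ := form j hj 1 (one_mul 1)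
    obtain ⟨p', q', hpq', hP'⟩ := form j hj (-1) (by ring)
    have h1 : c = p ∨ c = q := (hP c).1 (by simp [hc, hjc])
    have h1' : c = p' ∨ c = q' := (hP' c).1 (by simp [hc, hjc])
    obtain ⟨d, hdc, hd⟩ : ∃ d, d ≠ c ∧ ∀ l, (x (bv i) + (1 : F) • x (bv j)) l ≠ 0 ↔ l = c ∨ l = d := by
      rcases h1 with rfl | rfl
      · exact ⟨q, hpq.symm, hP⟩
      · exact ⟨p, hpq, fun l => (hP l).trans or_comm⟩
    obtain ⟨d', hdc', hd'⟩ : ∃ d', d' ≠ c ∧ ∀ l, (x (bv i) + (-1 : F) • x (bv j)) l ≠ 0 ↔ l = c ∨ l = d' := by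
      rcases h1' with rfl | rfl
      · exact ⟨q', hpq'.symm, hP'⟩
      · exact ⟨p', hpq', fun l => (hP' l).trans or_comm⟩
    have hperp : (x (bv i) + (1 : F) • x (bv j)) ⬝ᵥ (x (bv i) + (-1 : F) • x (bv j)) = 0 := by
      rw [← map_smul, ← map_smul, ← map_add, ← map_add, dot_orth h2 hxo]
      simp [bv_ne hj, bv_ne (Ne.symm hj)]
    have hdd : d = d' := by
      by_contra hne
      rw [dotProduct, Finset.sum_eq_single c (fun l _ hl => by
        by_cases hld : l = d
        · have : (x (bv i) + (-1 : F) • x (bv j)) l = 0 := by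
            by_contra h; rcases (hd' l).1 h with h' | h'
            exacts [hl h', hne (hld.symm.trans h')]
          rw [this, mul_zero]
        · have : (x (bv i) + (1 : F) • x (bv j)) l = 0 := by
            by_contra h; rcases (hd l).1 h with h' | h'
            exacts [hl h', hld h']
          rw [this, zero_mul]) (by simp)] at hperp
      exact mul_ne_zero ((hd c).2 (Or.inl rfl)) ((hd' c).2 (Or.inl rfl)) hperp
    refine hi d (x (bv i) d) (funext fun l => ?_)
    by_cases hl : l = d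
    · subst hl; simp
    rw [Pi.smul_apply, bv_ne hl, smul_zero]
    by_cases hlc : l = c
    · rw [hlc]; exact hc
    refine (hboth l j hj ?_ ?_).1
    · by_contra h; rcases (hd l).1 h with h' | h'
      exacts [hlc h', hl h']
    · by_contra h; rcases (hd' l).1 h with h' | h'
      exacts [hlc h', hl (h'.trans hdd.symm)]
  obtain ⟨j, -, hj⟩ : ∃ j ∈ Finset.univ, j ∉ ({i} : Finset (Fin 6)) :=
    Finset.exists_mem_notMem_of_card_lt_card (by simp)
  simp at hj
  obtain ⟨p, q, -, hP⟩ := form j hj 1 (one_mul 1)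
  obtain ⟨p', q', -, hP'⟩ := form j hj (-1) (by ring)
  set S : Finset (Fin 6) := {p, q, p', q'}
  have hS : ∀ c ∉ S, x (bv i) c = 0 := fun c hc => by
    simp only [S, Finset.mem_insert, Finset.mem_singleton, not_or] at hc
    refine (hboth c j hj ?_ ?_).1
    · by_contra h; rcases (hP c).1 h with h' | h'
      exacts [hc.1 h', hc.2.1 h']
    · by_contra h; rcases (hP' c).1 h with h' | h'
      exacts [hc.2.2.1 h', hc.2.2.2 h']
  have := card_le_of_supp (g := x) Finset.univ S fun l _ c hc => by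
    by_cases hl : l = i
    · rw [hl]; exact hS c hc
    · exact hsupp l hl c (hS c hc)
  have h4 : S.card ≤ 4 := Finset.card_le_four
  simp at this
  omega

/-- Every root reflection normalises. -/
theorem normal_six (C : Ctx N) {ρ : VV} (hρ : IsB ρ) : ∀ y ∈ N, rf ρ * y * (rf ρ)⁻¹ ∈ N := by
  have h2 := C.two
  have main : ∀ {σ τ : VV}, IsB σ → IsB τ → IsSquare ((τ ⬝ᵥ τ) * (σ ⬝ᵥ σ)) →
      (∀ y ∈ N, rf σ * y * (rf σ)⁻¹ ∈ N) → ∀ y ∈ N, rf τ * y * (rf τ)⁻¹ ∈ N := by
    intro σ τ hσ hτ hs hn y hy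
    have h1 := C.pair_mem hτ hσ hs
    have h3 := mul_mem (mul_mem h1 (hn y hy)) (inv_mem h1)
    rwa [show rf τ * rf σ * (rf σ * y * (rf σ)⁻¹) * (rf τ * rf σ)⁻¹ =
      rf τ * (rf σ * rf σ) * y * (rf σ * rf σ)⁻¹ * (rf τ)⁻¹ by group, rf_mul_self, inv_one, mul_one, mul_one]
      at h3
  obtain ⟨x, hx, hxm, σ, hσ, hfix⟩ := good C
  have hσn := C.normalises hσ hx hxm hfix
  by_cases hs : IsSquare (2 : F)
  · refine main hσ hρ ?_ hσn
    rcases isB_norm hρ with h | h <;> rcases isB_norm hσ with h' | h' <;> rw [h, h']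
    · exact ⟨1, rfl⟩
    · rwa [one_mul]
    · rwa [mul_one]
    · exact ⟨2, rfl⟩
  have hA : ∀ (i : Fin 6), ∀ y ∈ N, rf (bv i) * y * (rf (bv i))⁻¹ ∈ N := by
    have key : ∃ i, ∀ y ∈ N, rf (bv i) * y * (rf (bv i))⁻¹ ∈ N := by
      rcases isB_norm hσ with h | h
      · exact ⟨0, main hσ (isB_bv 0) (by rw [h, bv_norm]; exact ⟨1, by ring⟩) hσn⟩
      obtain ⟨ρ', hρ', hρ'2, hr⟩ := exists_image C hs hx hxm
      have hn' := main hσ hρ' (by rw [h, hρ'2]; exact ⟨2, rfl⟩) hσn
      have hxo := C.mem_orth hx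
      have horb : Orb N (x ρ') := by
        refine ⟨by rw [dot_orth_self hxo]; exact hρ'2, ?_⟩
        rw [← rf_conj hxo, show x * rf ρ' * x⁻¹ * rf rho = x * (rf ρ' * x⁻¹ * (rf ρ')⁻¹) * (rf ρ' * rf rho) by group]
        exact mul_mem (mul_mem hx (hn' _ (inv_mem hx))) (pair_two_mem C hρ' isB_rho hρ'2 rho_two)
      obtain ⟨y, hy, hym, i, hi⟩ := goodA_orb C hs horb hr
      exact ⟨i, C.normalises (isB_bv i) hy hym hi⟩
    obtain ⟨i, hi⟩ := key
    exact fun l => main (isB_bv i) (isB_bv l) (by rw [bv_norm, bv_norm]; exact ⟨1, by ring⟩) hi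
  rcases isB_norm hρ with h | h
  · exact main (isB_bv 0) hρ (by rw [h, bv_norm]; exact ⟨1, by ring⟩) (hA 0)
  · obtain ⟨i, j, e, hji, he, hn⟩ := C.normal_pair_of hA hs
    exact main (isB_pair hji he) hρ (by rw [h, pair_norm hji he]; exact ⟨2, rfl⟩) hn

end CfsgLib.OrthFrame.Six
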