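import Cfsg.Agent.Lib.OrthFrame.Norm

/-!
Dimension six: some non-monomial member fixes a coordinate vector or a sum or difference of two, up to sign.

A non-monomial involution with a plane either has two coordinates with proportional entries in its plane, and
then a central involution of the dihedral group it generates with their sign change gives the element, or one
passes to such an involution through the fusion of a sign change with a double transposition.
-/

set_option autoImplicit false
set_option linter.unusedSectionVars false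

open scoped Classical

namespace CfsgLib.OrthFrame.Six

open QuadraticMap CfsgLib.Geometry CfsgLib.OrthFrame

variable {F : Type*} [Field F] [Finite F]

local notation "VV" => Fin 6 → F
local notation "EE" => (Fin 6 → F) ≃ₗ[F] (Fin 6 → F)

variable {N : Subgroup ((Fin 6 → F) ≃ₗ[F] (Fin 6 → F))}

/-- Some non-monomial member fixes a root up to sign. -/
def Good (N : Subgroup ((Fin 6 → F) ≃ₗ[F] (Fin 6 → F))) : Prop := ∃ x ∈ N, ¬ Mono x ∧ ∃ ρ : VV, IsB ρ ∧ Fix x ρ

theorem isB_bv (a : Fin 6) : IsB (bv a : VV) := ⟨a, Or.inl rfl⟩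

theorem nonmono_mul (C : Ctx N) {m x : EE} (hm : m ∈ monoGroup C.two) (hx : x ∈ N) (hxm : ¬ Mono x) :
    ¬ Mono (m * x) := fun h => hxm (by
  have := mul_mem (inv_mem hm) (show m * x ∈ monoGroup C.two from ⟨mul_mem hm.1 (C.mem_orth hx), h⟩)
  rw [inv_mul_cancel_left] at this
  exact this.2)

theorem fix_of_smul {x : EE} {a : F} (ha : a ≠ 0) {ρ : VV} (h : Fix x (a • ρ)) : Fix x ρ := by
  rcases h with h | h <;> rw [map_smul] at h
  · exact Or.inl (smul_right_injective _ ha h)
  · exact Or.inr (smul_right_injective _ ha (h.trans (smul_neg a ρ).symm))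

theorem good_of_perp {p q : VV} (P : Plane N p q) {ρ : VV} (hρ : IsB ρ) (hp : ρ ⬝ᵥ p = 0) (hq : ρ ⬝ᵥ q = 0) :
    Good N :=
  ⟨_, P.mem, P.nmono, ρ, hρ, Or.inl (P.fix_of_perp hp hq)⟩

theorem good_of_zero {p q : VV} (P : Plane N p q) {a : Fin 6} (hp : p a = 0) (hq : q a = 0) : Good N :=
  good_of_perp P (isB_bv a) (by rw [bv_dot]; exact hp) (by rw [bv_dot]; exact hq)

theorem plane_image (C : Ctx N) {x : EE} (hx : x ∈ N) {ρ σ : VV} (hρ : IsB ρ) (hσ : IsB σ) (ho : ρ ⬝ᵥ σ = 0)
    (hs : IsSquare ((ρ ⬝ᵥ ρ) * (σ ⬝ᵥ σ))) (hnm : ¬ Mono (rf (x ρ) * rf (x σ))) : Plane N (x ρ) (x σ) := by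
  have hxo := C.mem_orth hx
  refine ⟨?_, ?_, ?_, ?_, hnm⟩
  · rw [dot_orth_self hxo]; exact isB_dot C.two hρ
  · rw [dot_orth_self hxo]; exact isB_dot C.two hσ
  · rw [dot_orth C.two hxo]; exact ho
  · rw [← rf_conj hxo, ← rf_conj hxo,
      show x * rf ρ * x⁻¹ * (x * rf σ * x⁻¹) = x * (rf ρ * rf σ) * x⁻¹ by group]
    exact mul_mem (mul_mem hx (C.pair_mem hρ hσ hs)) (inv_mem hx)

/-- A root-like column. -/
theorem good_of_col (C : Ctx N) {x : EE} (hx : x ∈ N) (hxm : ¬ Mono x) {l : Fin 6} (h : RootLike (x (bv l))) :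
    Good N := by
  have hxo := C.mem_orth hx
  obtain ⟨i, hi, hi'⟩ : ∃ i ∈ Finset.univ.erase l, ∀ (j : Fin 6) (a : F), x (bv i) ≠ a • bv j := by
    by_contra hcon
    push Not at hcon
    choose! j a hja using hcon
    apply hxm
    intro i
    by_cases hil : i = l
    swap
    · exact ⟨j i, a i, hja i (by simp [hil])⟩
    subst hil
    have ha : ∀ m, m ≠ i → a m ≠ 0 := fun m hm he => by
      have := hja m (by simp [hm])
      rw [he, zero_smul, LinearEquiv.map_eq_zero_iff] at this
      simpa using congrFun this m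
    have hinj : Set.InjOn j ↑(Finset.univ.erase i) := fun m hm m' hm' e => by
      simp at hm hm'
      by_contra hne
      have h1 := dot_orth C.two hxo (bv m) (bv m')
      rw [hja m (by simp [hm]), hja m' (by simp [hm']), e, smul_dotProduct, dotProduct_smul, bv_dot_bv,
        bv_dot_bv, if_pos rfl, if_neg hne, smul_eq_mul, smul_eq_mul, mul_one] at h1
      exact mul_ne_zero (ha m hm) (ha m' hm') h1
    obtain ⟨c, hc⟩ := Finset.card_eq_one.1 (show (Finset.univ \ (Finset.univ.erase i).image j).card = 1 by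
      rw [Finset.card_sdiff_of_subset (Finset.subset_univ _), Finset.card_image_of_injOn hinj,
        Finset.card_erase_of_mem (Finset.mem_univ i)]; simp)
    refine ⟨c, x (bv i) c, funext fun d => ?_⟩
    by_cases hd : d = c
    · subst hd; simp
    rw [Pi.smul_apply, bv_ne hd, smul_zero]
    obtain ⟨m, hm, rfl⟩ := Finset.mem_image.1 (show d ∈ (Finset.univ.erase i).image j by
      by_contra h'
      have : d ∈ Finset.univ \ (Finset.univ.erase i).image j := by simp only [Finset.mem_sdiff, Finset.mem_univ, true_and]; exact h'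
      rw [hc, Finset.mem_singleton] at this
      exact hd this)
    simp at hm
    have h1 := dot_orth C.two hxo (bv i) (bv m)
    rw [hja m (by simp [hm]), dotProduct_smul, dot_bv, bv_dot_bv, if_neg (Ne.symm hm), smul_eq_mul] at h1
    exact (mul_eq_zero.1 h1).resolve_left (ha m hm)
  obtain ⟨ρ, σ, hρ, hσ, ho, hN, hout, hnm⟩ := C.exists_pair hxo (Finset.univ.erase l) (by simp) hi hi'
  have P : Plane N (x ρ) (x σ) := by
    refine ⟨?_, ?_, ?_, ?_, hnm⟩
    · rw [dot_orth_self hxo]; exact isB_dot C.two hρ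
    · rw [dot_orth_self hxo]; exact isB_dot C.two hσ
    · rw [dot_orth C.two hxo]; exact ho
    · rw [← rf_conj hxo, ← rf_conj hxo,
        show x * rf ρ * x⁻¹ * (x * rf σ * x⁻¹) = x * (rf ρ * rf σ) * x⁻¹ by group]
      exact mul_mem (mul_mem hx hN) (inv_mem hx)
  obtain ⟨h1, h1'⟩ := hout l (by simp)
  obtain ⟨τ, a, hτ, he⟩ := h
  refine ⟨_, P.mem, P.nmono, τ, hτ, fix_of_smul (a := a) ?_ (he ▸ Or.inl (P.fix_of_perp ?_ ?_))⟩
  · rintro rfl
    rw [zero_smul, LinearEquiv.map_eq_zero_iff] at he
    simpa using congrFun he l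
  · rw [dot_orth C.two hxo, bv_dot]; exact h1
  · rw [dot_orth C.two hxo, bv_dot]; exact h1'

/-- The sign change on two coordinates. -/
noncomputable def tt (a b : Fin 6) : EE := rf (bv a) * rf (bv b)

theorem tt_mem (C : Ctx N) (a b : Fin 6) : tt a b ∈ N :=
  C.pair_mem (isB_bv a) (isB_bv b) (by simp)

theorem tt_apply {a b : Fin 6} (hab : a ≠ b) (v : VV) (l : Fin 6) :
    tt a b v l = if l = a ∨ l = b then -v l else v l := by
  rw [tt, LinearEquiv.mul_apply, rf_apply (by simp), rf_apply (by simp)]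
  by_cases ha : l = a
  · subst ha; simp [bv_ne hab]; ring
  by_cases hb : l = b
  · subst hb; simp [bv_ne ha, bv_ne hab.symm]; ring
  simp [ha, hb, bv_ne ha, bv_ne hb]

theorem tt_sq (a b : Fin 6) (hab : a ≠ b) : (tt a b : EE) * tt a b = 1 := LinearEquiv.ext fun v => funext fun l => by
  rw [LinearEquiv.mul_apply, tt_apply hab, tt_apply hab]
  split_ifs <;> simp

/-- What commutes with a sign change respects its coordinates. -/
theorem comm_tt (h2 : (2 : F) ≠ 0) {z : EE} {a b : Fin 6} (hab : a ≠ b) (hz : z * tt a b = tt a b * z) (v : VV) :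
    ((∀ l, l ≠ a → l ≠ b → v l = 0) → ∀ l, l ≠ a → l ≠ b → z v l = 0) ∧
      (v a = 0 → v b = 0 → z v a = 0 ∧ z v b = 0) := by
  have h := fun l => congrArg (fun g : EE => g v l) hz
  simp only [LinearEquiv.mul_apply, tt_apply hab] at h
  constructor
  · intro hv l hla hlb
    have e : tt a b v = -v := funext fun m => by
      rw [tt_apply hab]
      split_ifs with hm
      · rfl
      · push Not at hm; simp [hv m hm.1 hm.2]
    have := h l
    rw [e, map_neg, Pi.neg_apply, if_neg (by simp [hla, hlb])] at this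
    exact (mul_eq_zero.1 (show (2 : F) * z v l = 0 by linear_combination -this)).resolve_left h2
  · intro hva hvb
    have e : tt a b v = v := funext fun m => by
      rw [tt_apply hab]
      split_ifs with hm
      · rcases hm with rfl | rfl <;> simp [*]
      · rfl
    have ha := h a
    have hb := h b
    rw [e, if_pos (Or.inl rfl)] at ha
    rw [e, if_pos (Or.inr rfl)] at hb
    exact ⟨(mul_eq_zero.1 (show (2 : F) * z v a = 0 by linear_combination ha)).resolve_left h2,
      (mul_eq_zero.1 (show (2 : F) * z v b = 0 by linear_combination hb)).resolve_left h2⟩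

theorem inP_comm {p q : VV} (P : Plane N p q) (h2 : (2 : F) ≠ 0) {z : EE}
    (hzs : z * (rf p * rf q) = rf p * rf q * z) {v : VV} (hv : InP p q v) : InP p q (z v) := by
  refine P.inP_of_neg h2 ?_
  have := congrArg (fun g : EE => g v) hzs
  simp only [LinearEquiv.mul_apply] at this
  rw [← map_neg, ← P.neg_of_inP hv, LinearEquiv.mul_apply, LinearEquiv.mul_apply, this]

/-- A monomial involution other than `±1` negates a root and fixes one. -/
theorem opp_root (C : Ctx N) {z : EE} (hzo : z ∈ orth (qf 6 F)) (hzm : Mono z) (hzz : z * z = 1) {c : F}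
    (hc : c * c = 1) {v : VV} (hv : z v ≠ c • v) : ∃ ρ : VV, IsB ρ ∧ z ρ = -c • ρ := by
  obtain ⟨π, ε, hε, hπ, -⟩ := mono_spec C.two hzo hzm
  obtain ⟨l, hl⟩ : ∃ l, z (bv l) ≠ c • bv l := by
    by_contra h
    push Not at h
    apply hv
    conv_lhs => rw [sum_bv v, map_sum]
    conv_rhs => rw [sum_bv v, Finset.smul_sum]
    simp only [map_smul, h, smul_comm c]
  by_cases hpl : π l = l
  · refine ⟨bv l, isB_bv l, ?_⟩
    rw [hπ, hpl]
    rcases mul_self_eq_mul_self_iff.1 ((hε l).trans hc.symm) with e | e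
    · exact absurd (by rw [hπ, hpl, e]) hl
    · rw [e]
  · have hback : z (bv (π l)) = ε l • bv l := by
      have := congrArg (fun g : EE => g (bv l)) hzz
      simp only [LinearEquiv.mul_apply, hπ l, map_smul] at this
      rw [show z (bv (π l)) = (ε l * ε l) • z (bv (π l)) by rw [hε, one_smul], ← smul_smul, this]
      rfl
    refine ⟨bv l + (-c * ε l) • bv (π l), isB_pair hpl (by linear_combination (ε l * ε l) * hc + hε l), ?_⟩
    rw [map_add, map_smul, hπ l, hback, smul_add, smul_smul, smul_smul,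
      show -c * ε l * ε l = -c by linear_combination -c * hε l,
      show -c * (-c * ε l) = ε l by linear_combination ε l * hc, add_comm]

/-- A monomial involution, scalar on the plane. -/
theorem good_of_scalar (C : Ctx N) {p q : VV} (P : Plane N p q) {z : EE} (hz : z ∈ N) (hzm : Mono z)
    (hzz : z * z = 1) {c : F} (hc : c * c = 1) (hzp : z p = c • p) (hzq : z q = c • q) {v : VV}
    (hv : z v ≠ c • v) : Good N := by
  obtain ⟨ρ, hρ, hzρ⟩ := opp_root C (C.mem_orth hz) hzm hzz hc hv
  have key : ∀ x : VV, z x = c • x → ρ ⬝ᵥ x = 0 := fun x hx => by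
    have h := dot_orth C.two (C.mem_orth hz) ρ x
    rw [hzρ, hx, smul_dotProduct, dotProduct_smul, smul_eq_mul, smul_eq_mul, ← mul_assoc, neg_mul, hc] at h
    exact (mul_eq_zero.1 (show (2 : F) * (ρ ⬝ᵥ x) = 0 by linear_combination -h)).resolve_left C.two
  exact good_of_perp P hρ (key p hzp) (key q hzq)

theorem exists_perp4 (p q r s : VV) : ∃ w : VV, w ≠ 0 ∧ w ⬝ᵥ p = 0 ∧ w ⬝ᵥ q = 0 ∧ w ⬝ᵥ r = 0 ∧ w ⬝ᵥ s = 0 := by
  let A : Matrix (Fin 4) (Fin 6) F := Matrix.of ![p, q, r, s]
  have h : LinearMap.ker (Matrix.mulVecLin A) ≠ ⊥ :=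
    LinearMap.ker_ne_bot_of_finrank_lt (by simp)
  obtain ⟨w, hw, hw0⟩ := Submodule.exists_mem_ne_zero_of_ne_bot h
  simp only [LinearMap.mem_ker, Matrix.mulVecLin_apply] at hw
  refine ⟨w, hw0, ?_, ?_, ?_, ?_⟩ <;> rw [dotProduct_comm]
  exacts [congrFun hw 0, congrFun hw 1, congrFun hw 2, congrFun hw 3]

/-- The central involution for two coordinates with a vector perpendicular to the plane. -/
structure Zs (N : Subgroup EE) (p q : VV) (a b : Fin 6) (ε : VV) (z : EE) (c : F) : Prop where
  mem : z ∈ N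
  invol : z * z = 1
  ne : z ≠ 1
  comms : z * (rf p * rf q) = rf p * rf q * z
  commt : z * tt a b = tt a b * z
  csq : c * c = 1
  heps : z ε = c • ε
  inp : ∀ v, InP p q v → v a = 0 → v b = 0 → z v = c • v
  fix : ∀ v, v ⬝ᵥ p = 0 → v ⬝ᵥ q = 0 → v a = 0 → v b = 0 → z v = v

theorem exists_z (C : Ctx N) {p q : VV} (P : Plane N p q) {a b : Fin 6} (hab : a ≠ b) {ε : VV} (hε0 : ε ≠ 0)
    (hεs : ∀ l, l ≠ a → l ≠ b → ε l = 0) (hεp : ε ⬝ᵥ p = 0) (hεq : ε ⬝ᵥ q = 0) :
    ∃ (z : EE) (c : F), Zs N p q a b ε z c := by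
  haveI : Finite EE := Finite.of_injective (fun g : EE => (g : VV → VV)) DFunLike.coe_injective
  have h2 := C.two
  set s : EE := rf p * rf q with hs
  set t : EE := tt a b with ht
  have hss : s * s = 1 := by
    rw [hs, show rf p * rf q * (rf p * rf q) = rf p * (rf q * rf p) * rf q by group, ← rf_comm P.pq,
      show rf p * (rf p * rf q) * rf q = rf p * rf p * (rf q * rf q) by group, rf_mul_self, rf_mul_self, one_mul]
  have htt : t * t = 1 := tt_sq a b hab
  clear_value s t
  set g := s * t with hg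
  have hpow : ∀ (v : VV) (d : F), g v = d • v → ∀ k : ℕ, (g ^ k) v = d ^ k • v := by
    intro v d h k
    induction k with
    | zero => simp
    | succ k ih => rw [pow_succ', LinearEquiv.mul_apply, ih, map_smul, h, smul_smul, pow_succ]
  have hgε : g ε = (-1 : F) • ε := by
    rw [hg, LinearEquiv.mul_apply, show t ε = -ε from funext fun l => by
      rw [ht, tt_apply hab]
      split_ifs with hl
      · rfl
      · push Not at hl; simp [hεs l hl.1 hl.2], map_neg, hs, P.fix_of_perp hεp hεq, neg_one_smul]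
  have hne1 : (-1 : F) ≠ 1 := fun h => h2 (by linear_combination -h)
  have heven : Even (orderOf g) := by
    have h := hpow ε _ hgε (orderOf g)
    rw [pow_orderOf_eq_one, LinearEquiv.coe_one, id_eq] at h
    refine (neg_one_pow_eq_one_iff_even hne1).1 ?_
    have h' : ((-1 : F) ^ orderOf g - 1) • ε = 0 := by rw [sub_smul, one_smul, ← h, sub_self]
    exact sub_eq_zero.1 ((smul_eq_zero.1 h').resolve_right hε0)
  obtain ⟨k, hk⟩ := heven
  have hpos := orderOf_pos g
  have hzz : g ^ k * g ^ k = 1 := by rw [← pow_add, ← hk]; exact pow_orderOf_eq_one g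
  have hinv : (g ^ k)⁻¹ = g ^ k := inv_eq_of_mul_eq_one_right hzz
  have hsinv : s⁻¹ = s := inv_eq_of_mul_eq_one_right hss
  have htinv : t⁻¹ = t := inv_eq_of_mul_eq_one_right htt
  have hsc : s * g ^ k * s⁻¹ = g ^ k := by
    rw [← conj_pow, hg, show s * (s * t) * s⁻¹ = (s * s) * t * s⁻¹ by group, hss, one_mul,
      show t * s⁻¹ = (s * t)⁻¹ by rw [mul_inv_rev, htinv], inv_pow, ← hg, hinv]
  have htc : t * g ^ k * t⁻¹ = g ^ k := by
    rw [← conj_pow, hg, show t * (s * t) * t⁻¹ = t * s by group,
      show t * s = (s * t)⁻¹ by rw [mul_inv_rev, htinv, hsinv], inv_pow, ← hg, hinv]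
  refine ⟨g ^ k, (-1) ^ k, by rw [hg, hs, ht]; exact pow_mem (mul_mem P.mem (tt_mem C a b)) k, hzz,
    pow_ne_one_of_lt_orderOf (by omega) (by show k < orderOf g; omega), ?_, ?_, ?_, hpow ε _ hgε k, ?_, ?_⟩
  · rw [← hs]
    conv_lhs => rw [← hsc]
    rw [inv_mul_cancel_right]
  · rw [← ht]
    conv_lhs => rw [← htc]
    rw [inv_mul_cancel_right]
  · rw [← pow_add, ← two_mul, pow_mul]; simp
  · intro v hv hva hvb
    refine hpow v _ ?_ k
    rw [hg, LinearEquiv.mul_apply, show t v = v from funext fun l => by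
      rw [ht, tt_apply hab]
      split_ifs with hl
      · rcases hl with rfl | rfl <;> simp [*]
      · rfl, hs, P.neg_of_inP hv, neg_one_smul]
  · intro v hp hq hva hvb
    have := hpow v 1 (by
      rw [hg, LinearEquiv.mul_apply, show t v = v from funext fun l => by
        rw [ht, tt_apply hab]
        split_ifs with hl
        · rcases hl with rfl | rfl <;> simp [*]
        · rfl, hs, P.fix_of_perp hp hq, one_smul]) k
    rwa [one_pow, one_smul] at this

theorem Zs.exists_ne {p q ε : VV} {a b : Fin 6} {z : EE} {c : F} (Z : Zs N p q a b ε z c) (h2 : (2 : F) ≠ 0) :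
    ∃ v, z v ≠ c • v := by
  rcases mul_self_eq_one_iff.1 Z.csq with rfl | rfl
  · by_contra h
    push Not at h
    exact Z.ne (LinearEquiv.ext fun v => by rw [h, one_smul]; rfl)
  · obtain ⟨w, hw0, h1, h1', h3, h4⟩ := exists_perp4 p q (bv a) (bv b)
    rw [dot_bv] at h3 h4
    refine ⟨w, fun h => hw0 ?_⟩
    rw [Z.fix w h1 h1' h3 h4, neg_one_smul, eq_neg_iff_add_eq_zero, ← two_smul F] at h
    exact (smul_eq_zero.1 h).resolve_left h2

/-- The case of a monomial central involution. -/
theorem good_of_monoZ (C : Ctx N) {p q : VV} (P : Plane N p q) {a b : Fin 6} (hab : a ≠ b) {X Y : F} {z : EE}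
    {c : F} (Z : Zs N p q a b (X • bv a + Y • bv b) z c) (hzm : Mono z) (hrel : p a * q b = p b * q a)
    (hεp : (X • bv a + Y • bv b : VV) ⬝ᵥ p = 0) (hεq : (X • bv a + Y • bv b : VV) ⬝ᵥ q = 0)
    (hX : X ≠ 0) (hY : Y ≠ 0) : Good N := by
  have h2 := C.two
  by_cases hp : p a = 0 ∧ q a = 0
  · exact good_of_zero P hp.1 hp.2
  have hzo := C.mem_orth Z.mem
  obtain ⟨π, ε, hε, hπ, -⟩ := mono_spec h2 hzo hzm
  have hπa : π a = a ∨ π a = b := by
    by_contra h
    push Not at h
    have := (comm_tt h2 hab Z.commt (bv a)).1 (fun l h1 _ => bv_ne h1) (π a) h.1 h.2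
    rw [hπ, Pi.smul_apply, bv_self, smul_eq_mul, mul_one] at this
    simpa [this] using hε a
  rcases hπa with hpa | hpa
  swap
  · have hzb : z (bv b) = ε a • bv a := by
      have := congrArg (fun g : EE => g (bv a)) Z.invol
      simp only [LinearEquiv.mul_apply, hπ a, map_smul, hpa] at this
      rw [show z (bv b) = (ε a * ε a) • z (bv b) by rw [hε, one_smul], ← smul_smul, this]
      rfl
    have h := congrFun Z.heps b
    rw [map_add, map_smul, map_smul, hπ a, hpa, hzb] at h
    simp [bv_ne hab.symm] at h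
    refine good_of_perp P (ρ := bv a + (c * ε a) • bv b)
      (isB_pair hab.symm (by linear_combination (ε a * ε a) * Z.csq + hε a)) ?_ ?_
    all_goals
      simp only [add_dotProduct, smul_dotProduct, bv_dot, smul_eq_mul] at hεp hεq ⊢
      refine mul_left_cancel₀ hX ?_
    · linear_combination hεp + c * p b * h + p b * Y * Z.csq
    · linear_combination hεq + c * q b * h + q b * Y * Z.csq
  have hza : z (bv a) = c • bv a := by
    obtain ⟨j, d, hj⟩ := hzm b
    have hb : (z (bv b)) a = 0 := by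
      have := dot_orth h2 hzo (bv a) (bv b)
      rw [hπ a, hpa, smul_dotProduct, bv_dot, bv_dot_bv, if_neg hab, smul_eq_mul] at this
      exact (mul_eq_zero.1 this).resolve_left fun h => by simpa [h] using hε a
    have h := congrFun Z.heps a
    rw [map_add, map_smul, map_smul, hπ a, hpa] at h
    simp [bv_ne hab, hb] at h
    rw [hπ, hpa, show ε a = c from mul_left_cancel₀ hX (by linear_combination h)]
  have hcc := Z.csq
  have hscal : ∀ x, InP p q x → z x = c • x := by
    intro x hx
    set u := x - c • z x with hu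
    have hzu : z u = -c • u := by
      have := congrArg (fun g : EE => g x) Z.invol
      simp only [LinearEquiv.mul_apply] at this
      rw [hu, map_sub, map_smul, this, smul_sub, smul_smul, neg_mul, hcc]
      show z x - c • x = _
      module
    have hua : u a = 0 := by
      have h := dot_orth h2 hzo u (bv a)
      rw [hzu, hza, smul_dotProduct, dotProduct_smul, dot_bv, smul_eq_mul, smul_eq_mul, ← mul_assoc, neg_mul, hcc] at h
      exact (mul_eq_zero.1 (show (2 : F) * u a = 0 by linear_combination -h)).resolve_left h2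
    have huP : InP p q u := hx.sub ((inP_comm P h2 Z.comms hx).smul c)
    obtain ⟨α, β, hαβ⟩ := huP
    have hrow : α * p a + β * q a = 0 := by rw [← hua, hαβ]; simp
    have hub : u b = 0 := by
      rw [hαβ]
      simp only [Pi.add_apply, Pi.smul_apply, smul_eq_mul]
      by_cases hpa0 : p a = 0
      · have hqa : q a ≠ 0 := fun h => hp ⟨hpa0, h⟩
        rw [hpa0, mul_zero, zero_add] at hrow
        rw [hpa0, zero_mul, eq_comm, mul_eq_zero] at hrel
        rw [(mul_eq_zero.1 hrow).resolve_right hqa, hrel.resolve_right hqa]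
        ring
      · refine mul_left_cancel₀ hpa0 ?_
        linear_combination β * hrel + p b * hrow
    have := Z.inp u ⟨α, β, hαβ⟩ hua hub
    rw [hzu] at this
    have h0 : (2 * c) • u = 0 := by rw [mul_smul, two_smul]; nth_rewrite 1 [← this]; module
    have hu0 := (smul_eq_zero.1 h0).resolve_left (mul_ne_zero h2 fun h => by simp [h] at hcc)
    rw [hu, sub_eq_zero] at hu0
    conv_rhs => rw [hu0, smul_smul, hcc, one_smul]
  obtain ⟨v, hv⟩ := Z.exists_ne h2
  exact good_of_scalar C P Z.mem hzm Z.invol hcc (hscal p (inP_left p q)) (hscal q (inP_right p q)) hv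

end CfsgLib.OrthFrame.Six
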