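import Cfsg.Agent.Lib.OrthFrame.Descent

/-!
The fields with three and five elements.
-/

set_option autoImplicit false
set_option linter.unusedSectionVars false

open scoped Classical

namespace CfsgLib.OrthFrame

open QuadraticMap CfsgLib.Geometry

variable {F : Type*} [Field F] [Finite F] [Fact (Nat.card F).Prime] {n : ℕ}
  {R : Subgroup ((Fin n → F) ≃ₗ[F] (Fin n → F))}

theorem charP_natCard : CharP F (Nat.card F) := by
  haveI := Fintype.ofFinite F
  obtain ⟨c, hc⟩ := CharP.exists F
  obtain ⟨m, hcp, hm⟩ := FiniteField.card F c
  have hp : (Nat.card F).Prime := Fact.out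
  rw [Nat.card_eq_fintype_card, hm] at hp ⊢
  rw [Nat.Prime.eq_one_of_pow hp, pow_one]
  exact hc

theorem natCard_eq {m : ℕ} (hm : m.Prime) (h : (m : F) = 0) : Nat.card F = m :=
  haveI := charP_natCard (F := F)
  (Nat.prime_dvd_prime_iff_eq Fact.out hm).1 ((CharP.cast_eq_zero_iff F _ m).1 h)

theorem sq_cases_five (h5 : (5 : F) = 0) {x : F} (hx : x ≠ 0) : x * x = 1 ∨ x * x = -1 := by
  haveI := Fintype.ofFinite F
  have hc : Fintype.card F = 5 := by
    rw [← Nat.card_eq_fintype_card]; exact natCard_eq (by norm_num) (by exact_mod_cast h5)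
  have h := FiniteField.pow_card_sub_one_eq_one x hx
  rw [hc] at h
  have h' : (x * x) * (x * x) = 1 := by rw [← h]; norm_num; ring
  exact mul_self_eq_one_iff.1 h'

theorem sq_three (h3 : (3 : F) = 0) {x : F} (hx : x ≠ 0) : x * x = 1 := by
  haveI := Fintype.ofFinite F
  have hc : Fintype.card F = 3 := by
    rw [← Nat.card_eq_fintype_card]; exact natCard_eq (by norm_num) (by exact_mod_cast h3)
  have h := FiniteField.pow_card_sub_one_eq_one x hx
  rw [hc] at h
  rw [← h]; norm_num; ring

variable (hR : RCtx R)
include hR

/-- Five elements: shrinking to a set of square sum `-1`. -/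
theorem five_step (h5 : (5 : F) = 0) {u : Fin n → F} (hu : Root R u) {T : Finset (Fin n)}
    (hT : T ⊆ supp u) (hsum : ∑ l ∈ T, u l * u l = -1) :
    ∃ v : Fin n → F, Root R v ∧ supp v = T ∧ ∀ l ∈ T, v l * v l = -(u l * u l) := by
  refine ⟨fl T u - u, ?_, ?_, fun l hl => ?_⟩
  · have := hu.reflect hR (hu.flip hR T)
    rwa [dot_fl, hu.1, hsum, show (2 : F) * (1 - 2 * -1) = 1 by linear_combination h5, one_smul] at this
  · ext l
    rw [mem_supp, Pi.sub_apply, fl]
    split_ifs with hl
    · have hne := mem_supp.1 (hT hl)
      simp only [hl, iff_true]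
      intro e
      exact mul_ne_zero hR.two hne (by linear_combination -e)
    · simp [hl]
  · rw [Pi.sub_apply, fl, if_pos hl]; linear_combination u l * u l * h5

/-- Five elements: a root outside the frame gives a triple. -/
theorem trip_five (h5 : (5 : F) = 0) {u : Fin n → F} (hu : Root R u) (hk : 2 ≤ (supp u).card) :
    ∃ a b c, Trip R a b c := by
  have h2 := hR.two
  have h3 : (3 : F) ≠ 0 := fun h => h2 (by linear_combination h5 - h)
  have h4 : (4 : F) ≠ 0 := fun h => one_ne_zero (α := F) (by linear_combination h5 - h)
  have : CharP F 5 := natCard_eq (F := F) (m := 5) (by norm_num) (by exact_mod_cast h5) ▸ charP_natCard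
  let P : (Fin n → F) → Finset (Fin n) := fun v => (supp v).filter fun l => v l * v l = 1
  let M : (Fin n → F) → Finset (Fin n) := fun v => (supp v).filter fun l => v l * v l = -1
  have hPs : ∀ v, P v ⊆ supp v := fun v => Finset.filter_subset _ _
  have hMs : ∀ v, M v ⊆ supp v := fun v => Finset.filter_subset _ _
  have hPM : ∀ v, Disjoint (P v) (M v) := fun v => Finset.disjoint_left.2 fun l h h' => h2 (by
    linear_combination (Finset.mem_filter.1 h').2 - (Finset.mem_filter.1 h).2)
  have hU : ∀ v, P v ∪ M v = supp v := fun v => by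
    refine (Finset.union_subset (hPs v) (hMs v)).antisymm fun l hl => ?_
    rcases sq_cases_five h5 (mem_supp.1 hl) with e | e <;> simp [P, M, hl, e]
  -- one `1` and two `-1`
  have mix : ∀ v, Root R v → 1 ≤ (P v).card → 2 ≤ (M v).card → ∃ a b c, Trip R a b c := by
    intro v hv hp hm
    obtain ⟨A, hA, hA1⟩ := Finset.exists_subset_card_eq hp
    obtain ⟨B, hB, hB2⟩ := Finset.exists_subset_card_eq hm
    have hd := (hPM v).mono hA hB
    obtain ⟨w, hw, hws, -⟩ := five_step hR h5 hv (T := A ∪ B)
      (Finset.union_subset (hA.trans (hPs v)) (hB.trans (hMs v))) (by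
        rw [Finset.sum_union hd, Finset.sum_congr rfl fun l hl => (Finset.mem_filter.1 (hA hl)).2,
          Finset.sum_congr rfl fun l hl => (Finset.mem_filter.1 (hB hl)).2, Finset.sum_const, Finset.sum_const,
          hA1, hB2]
        simp; norm_num)
    exact trip_three hR h3 hw (by rw [hws, Finset.card_union_of_disjoint hd, hA1, hB2])
  -- four `-1` alone
  have quad : ∀ v, Root R v → (supp v).card = 4 → (∀ l ∈ supp v, v l * v l = -1) → ∃ a b c, Trip R a b c := by
    intro v hv hc hm
    obtain ⟨a, b, c, d, hab, hac, had, hbc, hbd, hcd, heq⟩ := Finset.card_eq_four.1 hc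
    obtain ⟨e, -, he⟩ : ∃ e ∈ Finset.univ, e ∉ supp v :=
      Finset.exists_mem_notMem_of_card_lt_card (by simp [hc]; linarith [hR.big])
    rw [heq] at he
    simp only [Finset.mem_insert, Finset.mem_singleton, not_or] at he
    obtain ⟨hea, heb, hec, hed⟩ := he
    obtain ⟨w, hw, wa, -, -, wd, we, -⟩ := four_quarters hR hv (e := e) heq
      (by simp [hab, hac, had, hbc, hbd, hcd, Ne.symm hea, Ne.symm heb, Ne.symm hec, Ne.symm hed])
      (fun l hl => by rw [hm l hl]; linear_combination -h5)
    have ea : w a * w a = 1 := by linear_combination wa - 3 * (w a * w a) * h5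
    have ed : w d * w d = -1 := by linear_combination wd - (3 * (w d * w d) - 2) * h5
    have ee : w e * w e = -1 := by linear_combination (-1 : F) * we + (w e * w e) * h5
    have na : w a ≠ 0 := fun h => by simp [h] at ea
    have nd : w d ≠ 0 := fun h => by simp [h] at ed
    have ne' : w e ≠ 0 := fun h => by simp [h] at ee
    refine mix w hw (Finset.card_pos.2 ⟨a, by simp [P, mem_supp, na, ea]⟩) ?_
    refine Finset.one_lt_card.2 ⟨d, by simp [M, mem_supp, nd, ed], e, by simp [M, mem_supp, ne', ee], Ne.symm hed⟩
  have ones : ∀ v, Root R v → 4 ≤ (P v).card → ∃ a b c, Trip R a b c := by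
    intro v hv hp
    obtain ⟨A, hA, hA4⟩ := Finset.exists_subset_card_eq hp
    obtain ⟨w, hw, hws, hwv⟩ := five_step hR h5 hv (T := A) (hA.trans (hPs v)) (by
      rw [Finset.sum_congr rfl fun l hl => (Finset.mem_filter.1 (hA hl)).2, Finset.sum_const, hA4]
      simp; linear_combination h5)
    exact quad w hw (by rw [hws, hA4]) fun l hl => by
      rw [hwv l (hws ▸ hl), (Finset.mem_filter.1 (hA (hws ▸ hl))).2]
  have minus : ∀ v, Root R v → 6 ≤ (M v).card → ∃ a b c, Trip R a b c := by
    intro v hv hm
    obtain ⟨A, hA, hA6⟩ := Finset.exists_subset_card_eq hm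
    obtain ⟨w, hw, hws, hwv⟩ := five_step hR h5 hv (T := A) (hA.trans (hMs v)) (by
      rw [Finset.sum_congr rfl fun l hl => (Finset.mem_filter.1 (hA hl)).2, Finset.sum_const, hA6]
      simp; linear_combination h5)
    refine ones w hw ?_
    have : P w = A := by
      rw [← hws]
      refine Finset.filter_true_of_mem fun l hl => ?_
      rw [hwv l (hws ▸ hl), (Finset.mem_filter.1 (hA (hws ▸ hl))).2, neg_neg]
    rw [this]; omega
  by_cases c1 : 1 ≤ (P u).card ∧ 2 ≤ (M u).card
  · exact mix u hu c1.1 c1.2
  by_cases c2 : 4 ≤ (P u).card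
  · exact ones u hu c2
  by_cases c3 : 6 ≤ (M u).card
  · exact minus u hu c3
  have hcard : (P u).card + (M u).card = (supp u).card := by
    rw [← Finset.card_union_of_disjoint (hPM u), hU u]
  have hcong : (P u).card % 5 = ((M u).card + 1) % 5 := by
    refine (CharP.natCast_eq_natCast F 5).1 ?_
    have e : ∑ l ∈ supp u, u l * u l = 1 := by rw [sum_supp]; exact hu.1
    rw [← hU u, Finset.sum_union (hPM u), Finset.sum_congr rfl fun l hl => (Finset.mem_filter.1 hl).2,
      Finset.sum_congr rfl fun l hl => (Finset.mem_filter.1 hl).2, Finset.sum_const, Finset.sum_const] at e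
    simp at e
    push_cast
    linear_combination e
  by_cases c4 : (supp u).card = 3
  · exact trip_three hR h3 hu c4
  have hP0 : P u = ∅ := Finset.card_eq_zero.1 (by omega)
  refine quad u hu (by omega) fun l hl => ?_
  rw [← hU u, hP0, Finset.empty_union] at hl
  exact (Finset.mem_filter.1 hl).2

/-- Three elements: every vector of norm one is a root. -/
theorem root_three (h3 : (3 : F) = 0) {u : Fin n → F} (hu : Root R u) (hk : 2 ≤ (supp u).card)
    {v : Fin n → F} (hv : v ⬝ᵥ v = 1) : Root R v := by
  have h2 := hR.two
  have : CharP F 3 := natCard_eq (F := F) (m := 3) (by norm_num) (by exact_mod_cast h3) ▸ charP_natCard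
  have hcong : ∀ w : Fin n → F, w ⬝ᵥ w = 1 → (supp w).card % 3 = 1 := fun w hw => by
    have e : ∑ l ∈ supp w, w l * w l = 1 := by rw [sum_supp]; exact hw
    rw [Finset.sum_congr rfl fun l hl => sq_three h3 (mem_supp.1 hl), Finset.sum_const, nsmul_eq_mul, mul_one] at e
    exact (CharP.natCast_eq_natCast F 3).1 (show ((supp w).card : F) = ((1 : ℕ) : F) by rw [e, Nat.cast_one])
  have same : ∀ w z : Fin n → F, Root R w → supp z = supp w → Root R z := by
    intro w z hw hz
    have : z = fl ((supp w).filter fun l => z l ≠ w l) w := funext fun l => by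
      simp only [fl, Finset.mem_filter]
      by_cases hl : l ∈ supp w
      · have h1 := sq_three h3 (mem_supp.1 hl)
        have h1' := sq_three h3 (mem_supp.1 (hz.symm ▸ hl))
        by_cases e : z l = w l
        · simp [e]
        · rw [if_pos ⟨hl, e⟩]
          exact ((mul_self_eq_mul_self_iff.1 (h1'.trans h1.symm)).resolve_left e)
      · rw [if_neg fun h => hl h.1]
        have e1 : w l = 0 := by simpa [mem_supp] using hl
        have e2 : z l = 0 := by rw [← hz] at hl; simpa [mem_supp] using hl
        rw [e1, e2]
    rw [this]; exact hw.flip hR _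
  have move : ∀ (m : ℕ) (w z : Fin n → F), Root R w → (supp z).card = (supp w).card →
      (supp z \ supp w).card = m → Root R z := by
    intro m
    induction m with
    | zero =>
      intro w z hw hc h0
      exact same w z hw (Finset.eq_of_subset_of_card_le (Finset.sdiff_eq_empty_iff_subset.1 (Finset.card_eq_zero.1 h0))
        (le_of_eq hc.symm))
    | succ m ih =>
      intro w z hw hc hm
      obtain ⟨b, hb⟩ := Finset.card_pos.1 (show 0 < (supp z \ supp w).card by omega)
      obtain ⟨a, ha⟩ := Finset.card_pos.1 (show 0 < (supp w \ supp z).card by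
        rw [Finset.card_sdiff_comm hc.symm]; omega)
      rw [Finset.mem_sdiff] at ha hb
      have hab : a ≠ b := fun e => hb.2 (e ▸ ha.1)
      have hs : supp (w ∘ Equiv.swap a b) = insert b ((supp w).erase a) := by
        ext l
        rw [Finset.mem_insert, Finset.mem_erase, mem_supp, mem_supp, Function.comp_apply]
        by_cases hla : l = a
        · subst hla
          have := hb.2; rw [mem_supp, not_not] at this
          simp [this, hab]
        by_cases hlb : l = b
        · subst hlb
          have := mem_supp.1 ha.1
          simp [this]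
        simp [Equiv.swap_apply_of_ne_of_ne hla hlb, hla, hlb]
      refine ih _ z (hw.swap hR hab) ?_ ?_
      · rw [hs, Finset.card_insert_of_notMem (fun h => hb.2 (Finset.mem_of_mem_erase h)), Finset.card_erase_of_mem ha.1, hc]
        have := Finset.card_pos.2 ⟨a, ha.1⟩
        omega
      · rw [hs, show supp z \ insert b ((supp w).erase a) = (supp z \ supp w).erase b from ?_,
          Finset.card_erase_of_mem (Finset.mem_sdiff.2 hb), hm]
        · omega
        · ext l
          simp only [Finset.mem_sdiff, Finset.mem_insert, Finset.mem_erase, not_or, not_and]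
          constructor
          · rintro ⟨h1, h1', h4⟩
            exact ⟨h1', h1, fun h => (h4 (fun e => ha.2 (e ▸ h1)) h)⟩
          · rintro ⟨h1, h1', h4⟩
            exact ⟨h1', h1, fun _ => h4⟩
  have all : ∀ (k : ℕ) (w : Fin n → F), Root R w → (supp w).card = k → ∀ z, (supp z).card = k → Root R z :=
    fun k w hw hk z hz => move _ w z hw (hz.trans hk.symm) rfl
  -- down to four
  have down : ∀ (k : ℕ) (w : Fin n → F), Root R w → (supp w).card = k → 4 ≤ k → ∃ y, Root R y ∧ (supp y).card = 4 := by
    intro k
    induction k using Nat.strong_induction_on with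
    | _ k ih =>
      intro w hw hk h4
      rcases Nat.lt_or_ge k 7 with h | h
      · have := hcong w hw.1
        exact ⟨w, hw, by omega⟩
      obtain ⟨T, hTs, hT⟩ := Finset.exists_subset_card_eq (s := supp w) (n := 3) (by omega)
      have hsum : ∑ l ∈ T, w l * w l = 0 := by
        rw [Finset.sum_congr rfl fun l hl => sq_three h3 (mem_supp.1 (hTs hl)), Finset.sum_const, hT]
        simpa using h3
      have hy := hw.reflect hR (hw.flip hR T)
      rw [dot_fl, hw.1, hsum, mul_zero, sub_zero, mul_one] at hy
      have hs : supp (fl T w - (2 : F) • w) = supp w \ T := by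
        ext l
        rw [Finset.mem_sdiff, mem_supp, mem_supp, Pi.sub_apply, Pi.smul_apply, smul_eq_mul, fl]
        split_ifs with hl
        · simp [hl]; linear_combination -(w l) * h3
        · simp [hl]; rw [show w l - 2 * w l = -(w l) by ring, neg_eq_zero]
      refine ih (k - 3) (by omega) _ hy ?_ (by omega)
      rw [hs, Finset.card_sdiff_of_subset hTs, hk, hT]
  obtain ⟨y, hy, hy4⟩ := down _ u hu rfl (by have := hcong u hu.1; omega)
  -- upwards
  have up : ∀ (k : ℕ) (z : Fin n → F), (supp z).card = k → k % 3 = 1 → Root R z := by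
    intro k
    induction k using Nat.strong_induction_on with
    | _ k ih =>
      intro z hz hk
      rcases Nat.lt_or_ge k 4 with h | h
      · obtain ⟨i, hi⟩ := Finset.card_eq_one.1 (show (supp z).card = 1 by omega)
        exact all 1 (bv i) ⟨bv_norm i, hR.base _ ⟨i, Or.inl rfl⟩⟩
          (by rw [show supp (bv i : Fin n → F) = {i} by ext l; simp [mem_supp, bv_apply], Finset.card_singleton]) z (by omega)
      rcases Nat.lt_or_ge k 5 with h' | h'
      · exact all 4 y hy hy4 z (by omega)
      obtain ⟨A, hA, hA4⟩ := Finset.exists_subset_card_eq (s := supp z) (n := 4) (by omega)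
      obtain ⟨a, ha⟩ := Finset.card_pos.1 (show 0 < A.card by omega)
      set B := insert a (supp z \ A) with hB
      set p : Fin n → F := fun l => if l = a then -z a else if l ∈ A then z l else 0 with hp
      set q : Fin n → F := fun l => if l = a then -z a else if l ∈ B then z l else 0 with hq
      have hza := mem_supp.1 (hA ha)
      have hps : supp p = A := by
        ext l
        rw [mem_supp, hp]
        simp only
        split_ifs with e h
        · subst e; simp [ha, hza]
        · simp [h, mem_supp.1 (hA h)]
        · simp [h]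
      have hqs : supp q = B := by
        ext l
        rw [mem_supp, hq]
        simp only
        split_ifs with e h
        · subst e; simp [hB, hza]
        · have : l ∈ supp z \ A := by simpa [hB, e] using h
          simp [h, mem_supp.1 (Finset.mem_sdiff.1 this).1]
        · simp [h]
      have hBc : B.card = k - 3 := by
        rw [hB, Finset.card_insert_of_notMem (by simp [ha]), Finset.card_sdiff_of_subset hA]; omega
      have hpR : Root R p := all 4 y hy hy4 p (by rw [hps]; exact hA4)
      have hqR : Root R q := ih (k - 3) (by omega) q (by rw [hqs, hBc]) (by omega)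
      have hdot : q ⬝ᵥ p = 1 := by
        rw [dotProduct, Finset.sum_eq_single a]
        · simp only [hp, hq, if_true]; linear_combination sq_three h3 hza
        · intro l _ hl
          simp only [hp, hq, if_neg hl]
          split_ifs with h1 h1'
          · have : l ∈ supp z \ A := by simpa [hB, hl] using h1
            exact absurd h1' (Finset.mem_sdiff.1 this).2
          all_goals simp
        · simp
      have := hpR.reflect hR hqR
      rw [hdot] at this
      convert this using 1
      funext l
      simp only [Pi.sub_apply, Pi.smul_apply, smul_eq_mul, hp, hq]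
      by_cases hl : l = a
      · subst hl; simp only [if_true]; linear_combination (0 : F) * h3
      simp only [if_neg hl]
      by_cases hlA : l ∈ A
      · have : l ∉ B := by simp [hB, hl, hlA]
        simp only [if_pos hlA, if_neg this]; linear_combination (z l) * h3
      · by_cases hlz : l ∈ supp z
        · have : l ∈ B := by simp [hB, hlA, hlz]
          simp only [if_neg hlA, if_pos this]; ring
        · have : l ∉ B := by simp [hB, hl, hlz]
          simp only [if_neg hlA, if_neg this]
          rw [mem_supp, not_not] at hlz; rw [hlz]; ring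
  exact up _ v rfl (hcong v hv)

end CfsgLib.OrthFrame
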